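import Cfsg.Agent.SymEightLocal.EightFacts

/-!
The generators of the pair inside `A₈`.
-/

set_option autoImplicit false

namespace CfsgLib.SymEightLocal

open Equiv
open CfsgLib.AltEightLocal (cyc tail turn)

/-- `π` paired with the inverter of the right sign. -/
def matched : Perm (Fin 5) →* Perm (Fin 8) := emb.comp (twist.prod (MonoidHom.id _))

theorem matched_even (π : Perm (Fin 5)) : Perm.sign (matched π) = 1 := by
  show Perm.sign (emb (twist π, π)) = 1
  rw [sign_emb, twist_sign]
  rcases Int.units_eq_one_or (Perm.sign π) with e | e <;> simp [e]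

theorem matched_inj : Function.Injective matched := fun _ _ e =>
  congrArg Prod.snd (emb_inj e)

theorem swapping_facts :
    let u : Perm (Fin 8) := swap 0 3 * swap 1 4 * swap 2 5 * swap 6 7
    Perm.sign u = 1 ∧ u * u = 1 ∧ u * (swap 0 1 * swap 1 2) * u = swap 3 4 * swap 4 5 ∧
      u * matched AltEightLocal.flip = matched AltEightLocal.flip * u ∧
      matched cyc = swap 3 4 * swap 4 5 := by decide +kernel

theorem rep_facts :
    emb (1, turn) = swap 4 5 * swap 6 7 ∧ IsConj (swap (3 : Fin 8) 4 * swap 6 7) (swap 4 5 * swap 6 7) := by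
  refine ⟨by decide +kernel, ?_⟩
  rw [Perm.isConj_iff_cycleType_eq]
  decide +kernel

theorem pair_parity : ∀ (i j : Fin 3) (k : Fin 2),
    Perm.sign (emb (rot ^ (i : ℕ), cyc ^ (j : ℕ) * tail ^ (k : ℕ))) = 1 →
      emb (rot ^ (i : ℕ), cyc ^ (j : ℕ) * tail ^ (k : ℕ)) =
        (swap 0 1 * swap 1 2) ^ (i : ℕ) * (swap 3 4 * swap 4 5) ^ (j : ℕ) := by decide +kernel

theorem pair_split : ∀ (σ : Perm (Fin 3)) (π : Perm (Fin 5)),
    Perm.sign σ = Perm.sign π → ∃ i : Fin 3, σ = rot ^ (i : ℕ) * twist π := by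
  intro σ π e
  have key : ∀ (σ t : Perm (Fin 3)), Perm.sign σ = Perm.sign t →
      ∃ i : Fin 3, σ = rot ^ (i : ℕ) * t := by decide +kernel
  exact key σ (twist π) (e.trans (twist_sign π).symm)

end CfsgLib.SymEightLocal
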