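import Mathlib

/-!
An involution fixing a single coset of `H`: `H` has odd index and the transfer into an abelian
group sends the involution to its own value.
-/

set_option autoImplicit false

namespace CfsgLib.SymEightLocal

open MulAction

variable {G : Type*} [Group G] [Finite G] (H : Subgroup G) {t : G}

theorem fixed_coset_iff (q : G) : t • (QuotientGroup.mk q : G ⧸ H) = QuotientGroup.mk q ↔
    q⁻¹ * t⁻¹ * q ∈ H := by
  rw [MulAction.Quotient.smul_mk, QuotientGroup.eq, smul_eq_mul, mul_inv_rev]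

theorem odd_index_of_single_fixed (ht : t * t = 1) (ht1 : t ≠ 1) (htH : t ∈ H)
    (hfix : ∀ g : G, g⁻¹ * t * g ∈ H → g ∈ H) : Odd H.index := by
  haveI : Fact (Nat.Prime 2) := ⟨Nat.prime_two⟩
  have hinv : t⁻¹ = t := inv_eq_of_mul_eq_one_right ht
  have hp : IsPGroup 2 (Subgroup.zpowers t) := IsPGroup.of_card (n := 1) (by
    rw [Nat.card_zpowers, orderOf_eq_prime (by rw [pow_two, ht]) ht1, pow_one])
  have h1 := hp.card_modEq_card_fixedPoints (G ⧸ H)
  have h2 : fixedPoints (Subgroup.zpowers t) (G ⧸ H) = {((1 : G) : G ⧸ H)} := by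
    ext x
    obtain ⟨q, rfl⟩ := QuotientGroup.mk_surjective x
    rw [MulAction.mem_fixedPoints, Set.mem_singleton_iff, QuotientGroup.eq, mul_one, inv_mem_iff]
    constructor
    · intro h
      refine hfix q ?_
      have h0 : t • (QuotientGroup.mk q : G ⧸ H) = QuotientGroup.mk q :=
        h ⟨t, Subgroup.mem_zpowers t⟩
      have h' := (fixed_coset_iff H q).1 h0
      rwa [hinv] at h'
    · intro hq m
      have hm : (m : G) ∈ H := (Subgroup.zpowers_le.2 htH) m.2
      show (m : G) • (QuotientGroup.mk q : G ⧸ H) = QuotientGroup.mk q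
      refine (fixed_coset_iff H q).2 ?_
      exact mul_mem (mul_mem (inv_mem hq) (inv_mem hm)) hq
  rw [h2, Nat.card_coe_set_eq, Set.ncard_singleton] at h1
  rw [Nat.odd_iff, Subgroup.index_eq_card]
  exact h1

theorem transfer_of_single_fixed {A : Type*} [CommGroup A] (φ : H →* A) (ht : t * t = 1)
    (htH : t ∈ H) (hfix : ∀ g : G, g⁻¹ * t * g ∈ H → g ∈ H) :
    MonoidHom.transfer φ t = φ ⟨t, htH⟩ := by
  classical
  haveI : Fintype (G ⧸ H) := Fintype.ofFinite _
  haveI : Fintype (Quotient (orbitRel (Subgroup.zpowers t) (G ⧸ H))) := Fintype.ofFinite _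
  have hinv : t⁻¹ = t := inv_eq_of_mul_eq_one_right ht
  have hfixed : ∀ x : G ⧸ H, t • x = x → x = ((1 : G) : G ⧸ H) := by
    intro x hx
    obtain ⟨q, rfl⟩ := QuotientGroup.mk_surjective x
    rw [QuotientGroup.eq, mul_one, inv_mem_iff]
    refine hfix q ?_
    have h := (fixed_coset_iff H q).1 hx
    rwa [hinv] at h
  rw [MonoidHom.transfer_eq_prod_quotient_orbitRel_zpowers_quot]
  rw [Finset.prod_eq_single (Quotient.mk'' (((1 : G) : G ⧸ H)) :
    Quotient (orbitRel (Subgroup.zpowers t) (G ⧸ H)))]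
  · generalize hq : (Quotient.mk'' (((1 : G) : G ⧸ H)) :
      Quotient (orbitRel (Subgroup.zpowers t) (G ⧸ H))) = q
    have hout : q.out = ((1 : G) : G ⧸ H) := by
      have h := Quotient.exact (q.out_eq.trans hq.symm)
      obtain ⟨m, hm⟩ := h
      rw [← hm]
      show (m : G) • ((1 : G) : G ⧸ H) = _
      rw [MulAction.Quotient.smul_mk, smul_eq_mul, mul_one, QuotientGroup.eq, mul_one, inv_mem_iff]
      exact (Subgroup.zpowers_le.2 htH) m.2
    have hmem : q.out.out ∈ H := by
      have h : (q.out.out : G ⧸ H) = ((1 : G) : G ⧸ H) := by rw [QuotientGroup.out_eq', hout]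
      rw [QuotientGroup.eq, mul_one, inv_mem_iff] at h
      exact h
    have hper : Function.minimalPeriod (t • ·) q.out = 1 := by
      rw [Function.minimalPeriod_eq_one_iff_isFixedPt]
      show t • q.out = q.out
      rw [hout, MulAction.Quotient.smul_mk, smul_eq_mul, mul_one, QuotientGroup.eq, mul_one,
        inv_mem_iff]
      exact htH
    have e : (⟨q.out.out⁻¹ * t ^ Function.minimalPeriod (t • ·) q.out * q.out.out,
        QuotientGroup.out_conj_pow_minimalPeriod_mem H t q.out⟩ : H) =
        ⟨q.out.out, hmem⟩⁻¹ * ⟨t, htH⟩ * ⟨q.out.out, hmem⟩ :=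
      Subtype.ext (by simp [hper])
    rw [e, map_mul, map_mul, map_inv, mul_right_comm, inv_mul_cancel, one_mul]
  · intro q _ hne
    have hnot : t • q.out ≠ q.out := fun h => hne (by
      rw [← hfixed _ h]; exact q.out_eq.symm)
    have h2 : Function.IsPeriodicPt (t • ·) 2 q.out := by
      show t • (t • q.out) = q.out
      rw [← mul_smul, ht, one_smul]
    have hper : Function.minimalPeriod (t • ·) q.out = 2 := by
      rcases (Nat.dvd_prime Nat.prime_two).1 h2.minimalPeriod_dvd with h | h
      · exact absurd (Function.minimalPeriod_eq_one_iff_isFixedPt.1 h) hnot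
      · exact h
    have e : (⟨q.out.out⁻¹ * t ^ Function.minimalPeriod (t • ·) q.out * q.out.out,
        QuotientGroup.out_conj_pow_minimalPeriod_mem H t q.out⟩ : H) = 1 :=
      Subtype.ext (by simp [hper, pow_two, ht])
    rw [e, map_one]
  · intro h
    exact absurd (Finset.mem_univ _) h

/-- A homomorphism of `H` onto `{±1}` moving `t` gives a normal subgroup of index two avoiding
`t`. -/
theorem exists_index_two (φ : H →* ℤˣ) (ht : t * t = 1) (htH : t ∈ H)
    (hfix : ∀ g : G, g⁻¹ * t * g ∈ H → g ∈ H) (hne : φ ⟨t, htH⟩ ≠ 1) :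
    ∃ N : Subgroup G, N.index = 2 ∧ t ∉ N := by
  obtain ⟨V, hV⟩ : ∃ V : G →* ℤˣ, V = MonoidHom.transfer φ := ⟨_, rfl⟩
  have hVt : V t ≠ 1 := by rw [hV, transfer_of_single_fixed H φ ht htH hfix]; exact hne
  have hsurj : Function.Surjective V := by
    intro a
    rcases Int.units_eq_one_or a with rfl | rfl
    · exact ⟨1, map_one _⟩
    · exact ⟨t, (Int.units_eq_one_or _).resolve_left hVt⟩
  refine ⟨V.ker, ?_, hVt⟩
  rw [Subgroup.index_ker, MonoidHom.range_eq_top.2 hsurj, Subgroup.card_top,
    Nat.card_eq_fintype_card, Fintype.card_units_int]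

end CfsgLib.SymEightLocal
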