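import Cfsg.Agent.SymEightLocal.CaseAHom
import Cfsg.Agent.SymEightLocal.EightRep
import Cfsg.Agent.SymEightLocal.OddIndex
import Cfsg.Agent.AltEightLocal.Main
import Cfsg.Agent.S3344

/-!
The first case: `G ≅ S₈`.
-/

set_option autoImplicit false
set_option linter.style.haveILetI false

universe u

namespace CfsgLib.SymEightLocal

open Equiv
open CfsgLib.AltEightLocal (cyc tail turn)

namespace Hyp

variable {G : Type u} [Group G] (h : Hyp G)

variable {φ : Perm (Fin 8) →* G}

theorem eight_τ (hxe : ∀ x, φ (emb x) = h.L.al x) : φ (swap 6 7) = h.τ := by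
  rw [← emb_facts.2.2.2.2.2, hxe]; rfl

theorem eight_z (hxe : ∀ x, φ (emb x) = h.L.al x) : φ (swap 0 1 * swap 1 2) = h.z := by
  have e : emb (rot, 1) = swap 0 1 * swap 1 2 := by decide +kernel
  rw [← e, hxe, h.L.al_rot]

theorem eight_w (hxe : ∀ x, φ (emb x) = h.L.al x) : φ (swap 3 4 * swap 4 5) = h.w := by
  have e : emb (1, cyc) = swap 3 4 * swap 4 5 := by decide +kernel
  rw [← e, hxe, h.L_w]

variable [Finite G]

theorem eight_centralizer_y (hinj : Function.Injective φ) (hxe : ∀ x, φ (emb x) = h.L.al x)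
    (g : G) (hg : g * (h.z * h.w) = h.z * h.w * g) : ∃ p, g = φ (yParam p) := by
  have hy : φ ((swap 0 1 * swap 1 2) * (swap 3 4 * swap 4 5)) = h.z * h.w := by
    rw [map_mul, h.eight_z hxe, h.eight_w hxe]
  let F : Fin 3 × Fin 3 × Fin 2 × Fin 2 → {g : G // g * (h.z * h.w) = h.z * h.w * g} := fun p =>
    ⟨φ (yParam p), by rw [← hy, ← map_mul, ← map_mul, yParam_facts p]⟩
  have hF : Function.Bijective F := (Nat.bijective_iff_injective_and_card F).2
    ⟨fun a b e => yParam_inj (hinj (congrArg Subtype.val e)), by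
      rw [← card_centralizer_eq, h.cy, Nat.card_eq_fintype_card]
      decide⟩
  obtain ⟨p, hp⟩ := hF.2 ⟨g, hg⟩
  exact ⟨p, (congrArg Subtype.val hp).symm⟩

theorem eight_centralizer_τ (hA : h.CaseA) (hinj : Function.Injective φ)
    (hxe : ∀ x, φ (emb x) = h.L.al x) (g : G) (hg : g * h.τ = h.τ * g) :
    ∃ σ : Perm (Fin 8), g = φ σ := by
  rcases h.centralizer_τ_cases with hN | ⟨f, hfs, hfk⟩
  · exfalso
    obtain ⟨p, hp2, -, hpτ, hpa, hps, hpc, -, -⟩ := h.caseA_candidates hA
    have hp' := hN p hpτ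
    have hs' : h.s ∈ Subgroup.normalizer (h.D : Set G) :=
      h.mem_normalizer_of_al 1 mir (Or.inl (by simp))
    -- `p * s` has order three and normalises `D`, hence centralises it
    obtain ⟨ψD, hψ⟩ : ∃ ψ : Subgroup.normalizer (h.D : Set G) →* DihedralGroup 4, ψ = h.ψ :=
      ⟨h.ψ, rfl⟩
    have h3 : ∀ d : DihedralGroup 4, d * d * d = 1 → d = 1 := by decide +kernel
    have h1 : ψD (⟨p, hp'⟩ * ⟨h.s, hs'⟩) = 1 := by
      refine h3 _ ?_
      rw [← map_mul, ← map_mul, ← map_one ψD]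
      refine congrArg ψD (Subtype.ext ?_)
      show p * h.s * (p * h.s) * (p * h.s) = 1
      calc p * h.s * (p * h.s) * (p * h.s) = (p * h.s * p) * (h.s * p * h.s) := by group
        _ = (h.s * p * h.s) * (h.s * p * h.s) := by rw [hps]
        _ = h.s * (p * (h.s * h.s) * p) * h.s := by group
        _ = 1 := by rw [h.s_sq, mul_one, hp2, mul_one, h.s_sq]
    rw [hψ] at h1
    obtain ⟨hz, hw⟩ := (h.ψ_ker _).1 h1
    obtain ⟨a, b, c, e⟩ := h.of_centralizes hz hw
    have hp : p = h.L.al (rot ^ (a : ℕ) * mir, cyc ^ (b : ℕ) * tail ^ (c : ℕ)) := by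
      have e' : p * h.s = h.L.al (rot ^ (a : ℕ), cyc ^ (b : ℕ) * tail ^ (c : ℕ)) := e
      calc p = p * h.s * h.s := by rw [mul_assoc, h.s_sq, mul_one]
        _ = _ := by
          rw [e', Hyp.s, ← map_mul]
          exact congrArg h.L.al (Prod.ext rfl (by simp))
    have key : ∀ (a b : Fin 3) (c : Fin 2),
        let x : Perm (Fin 3) × Perm (Fin 5) := (rot ^ (a : ℕ) * mir, cyc ^ (b : ℕ) * tail ^ (c : ℕ))
        x * (swap 0 1, 1) = (swap 0 1, 1) * x → x * x = 1 →
          x * (1, swap 0 1) * x ≠ (1, swap 0 1) * x * (1, swap 0 1) := by decide +kernel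
    rw [hp] at hp2 hpa hpc
    refine key a b c ((map_comm_iff h.L.al h.L.inj _ _).1 hpa) (h.L.inj ?_) (h.L.inj ?_)
    · rw [map_mul, map_one]; exact hp2
    · simp only [map_mul]; exact hpc
  · obtain ⟨C, hC⟩ : ∃ C : Subgroup G, C = Subgroup.centralizer ({h.τ} : Set G) := ⟨_, rfl⟩
    let F : Perm (Fin 6) × Perm (Fin 2) → Subgroup.centralizer ({h.τ} : Set G) := fun x =>
      ⟨φ (sixTwo x), Subgroup.mem_centralizer_singleton_iff.2 (by
        rw [← h.eight_τ hxe, ← map_mul, ← map_mul, sixTwo_comm x])⟩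
    have hker : f.ker = Subgroup.zpowers (⟨h.τ,
        Subgroup.mem_centralizer_singleton_iff.2 rfl⟩ : Subgroup.centralizer ({h.τ} : Set G)) := by
      refine le_antisymm (fun x hx => ?_) (Subgroup.zpowers_le.2 ((hfk _).2 (Or.inr rfl)))
      rcases (hfk x).1 hx with e | e
      · rw [show x = 1 from Subtype.ext e]; exact one_mem _
      · rw [show x = ⟨h.τ, Subgroup.mem_centralizer_singleton_iff.2 rfl⟩ from Subtype.ext e]
        exact Subgroup.mem_zpowers _
    have hcard : Nat.card (Subgroup.centralizer ({h.τ} : Set G)) = 1440 := by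
      rw [← Subgroup.card_mul_index f.ker, Subgroup.index_ker, MonoidHom.range_eq_top.2 hfs,
        Subgroup.card_top, hker, Nat.card_zpowers, Subgroup.orderOf_mk,
        orderOf_eq_prime (by rw [pow_two, h.τ_sq]) h.τ_ne, Nat.card_perm, Nat.card_fin]
      rfl
    have hF : Function.Bijective F := (Nat.bijective_iff_injective_and_card F).2
      ⟨fun a b e => sixTwo_inj (hinj (congrArg Subtype.val e)), by
        rw [hcard, Nat.card_prod, Nat.card_perm, Nat.card_perm, Nat.card_fin, Nat.card_fin]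
        rfl⟩
    obtain ⟨x, hx⟩ := hF.2 ⟨g, Subgroup.mem_centralizer_singleton_iff.2 hg⟩
    exact ⟨_, (congrArg Subtype.val hx).symm⟩

theorem eight_conj_τ (hinj : Function.Injective φ) (hxe : ∀ x, φ (emb x) = h.L.al x)
    {σ : Perm (Fin 8)} {g : G} (hg : g * h.τ * g⁻¹ = φ σ) : IsConj σ (swap 6 7) := by
  have h2 : σ * σ = 1 := hinj (by
    rw [map_mul, ← hg, map_one, show g * h.τ * g⁻¹ * (g * h.τ * g⁻¹) =
      g * (h.τ * h.τ) * g⁻¹ by group, h.τ_sq]
    group)
  have h1 : σ ≠ 1 := fun e => h.τ_ne (by rw [e, map_one] at hg; exact conj_eq_one_iff.1 hg)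
  have hc : ∀ ρ : Perm (Fin 8), IsConj σ ρ → ∃ k : G, k * h.τ * k⁻¹ = φ ρ := by
    intro ρ hρ
    obtain ⟨k, hk⟩ := isConj_iff.1 hρ
    exact ⟨φ k * g, by
      rw [← hk, map_mul, map_mul, map_inv, ← hg]; group⟩
  have hy : φ ((swap 0 1 * swap 1 2) * (swap 3 4 * swap 4 5)) = h.z * h.w := by
    rw [map_mul, h.eight_z hxe, h.eight_w hxe]
  have hyf : (swap (0 : Fin 8) 1 * swap 1 2) * (swap 3 4 * swap 4 5) *
        ((swap 0 1 * swap 1 2) * (swap 3 4 * swap 4 5)) *
        ((swap 0 1 * swap 1 2) * (swap 3 4 * swap 4 5)) = 1 ∧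
      (swap (0 : Fin 8) 1 * swap 1 2) * (swap 3 4 * swap 4 5) ≠ 1 := by decide +kernel
  have hy3 : h.z * h.w * (h.z * h.w) * (h.z * h.w) = 1 := by
    rw [← hy, ← map_mul, ← map_mul, hyf.1, map_one]
  have hy1 : h.z * h.w ≠ 1 := fun e => hyf.2 (hinj (by rw [hy, e, map_one]))
  have triple : ∀ ρ : Perm (Fin 8), (ρ * ((swap 0 1 * swap 1 2) * (swap 3 4 * swap 4 5)) =
      (swap 0 1 * swap 1 2) * (swap 3 4 * swap 4 5) * ρ) →
      Fintype.card {p // yParam p * ρ = ρ * yParam p} = 12 → ¬ IsConj σ ρ := by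
    intro ρ hρ hcard hconj
    obtain ⟨k, hk⟩ := hc ρ hconj
    refine h.not_conj_τ hy3 hy1 (by rw [← hy, ← map_mul, ← map_mul, hρ]) ?_ k hk
    let F : {p // yParam p * ρ = ρ * yParam p} →
        {g : G // g * (h.z * h.w) = h.z * h.w * g ∧ g * φ ρ = φ ρ * g} := fun p =>
      ⟨φ (yParam p.1), by rw [← hy, ← map_mul, ← map_mul, yParam_facts],
        by rw [← map_mul, ← map_mul, p.2]⟩
    have hF : Function.Bijective F := ⟨fun a b e => Subtype.ext (yParam_inj
      (hinj (congrArg Subtype.val e))), fun q => by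
        obtain ⟨p, hp⟩ := h.eight_centralizer_y hinj hxe q.1 q.2.1
        exact ⟨⟨p, hinj (by rw [map_mul, map_mul, ← hp]; exact q.2.2)⟩, Subtype.ext hp.symm⟩⟩
    rw [← Nat.card_congr (Equiv.ofBijective F hF), Nat.card_eq_fintype_card, hcard]
    norm_num
  rcases involution_classes σ h2 h1 with e | e | e | e
  · exact e
  · exfalso
    obtain ⟨k, hk⟩ := hc _ (e.trans rep_facts.2)
    rw [← rep_facts.1, hxe] at hk
    exact h.L_turn_ne_conj k hk
  · exact absurd e (triple _ triple_facts.1 yParam_counts.1)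
  · exact absurd e (triple _ triple_facts.2 yParam_counts.2.1)

theorem eight_fixed (hA : h.CaseA) (hinj : Function.Injective φ)
    (hxe : ∀ x, φ (emb x) = h.L.al x) (g : G) (hg : g⁻¹ * h.τ * g ∈ φ.range) : g ∈ φ.range := by
  obtain ⟨σ, hσ⟩ := hg
  obtain ⟨k, hk⟩ := isConj_iff.1 (h.eight_conj_τ hinj hxe (g := g⁻¹) (σ := σ) (by rw [hσ]; group))
  have e : g * (φ k)⁻¹ * h.τ = h.τ * (g * (φ k)⁻¹) := by
    have h1 : φ k * (g⁻¹ * h.τ * g) * (φ k)⁻¹ = h.τ := by
      rw [← hσ, ← map_inv, ← map_mul, ← map_mul, hk, h.eight_τ hxe]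
    calc g * (φ k)⁻¹ * h.τ = g * (φ k)⁻¹ * (φ k * (g⁻¹ * h.τ * g) * (φ k)⁻¹) := by rw [h1]
      _ = _ := by group
  obtain ⟨x, hx⟩ := h.eight_centralizer_τ hA hinj hxe _ e
  exact ⟨x * k, by rw [map_mul, ← hx]; group⟩

/-- In the first case `G ≅ S₈`. -/
theorem nonempty_perm_eight (hA : h.CaseA) : Nonempty (G ≃* Perm (Fin 8)) := by
  classical
  obtain ⟨φ, hinj, hxe⟩ := h.exists_eight hA
  have hτH : h.τ ∈ φ.range := ⟨_, h.eight_τ hxe⟩
  let sgn : φ.range →* ℤˣ := Perm.sign.comp (MonoidHom.ofInjective hinj).symm.toMonoidHom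
  obtain ⟨N, hN2, hτN⟩ := exists_index_two φ.range sgn h.τ_sq hτH
    (h.eight_fixed hA hinj hxe) (by
      show Perm.sign ((MonoidHom.ofInjective hinj).symm ⟨h.τ, hτH⟩) ≠ 1
      have e : (MonoidHom.ofInjective hinj).symm ⟨h.τ, hτH⟩ = swap 6 7 := by
        rw [MulEquiv.symm_apply_eq]
        exact Subtype.ext (h.eight_τ hxe).symm
      rw [e]
      decide)
  have hmem : ∀ σ : Perm (Fin 8), φ σ ∈ N ↔ Perm.sign σ = 1 := by
    haveI : N.Normal := Subgroup.normal_of_index_eq_two hN2
    have hsq : ∀ x : Perm (Fin 8), φ (x * x) ∈ N := fun x => by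
      rw [map_mul, Subgroup.mul_mem_iff_of_index_two hN2]
    have heven : ∀ x : Perm (Fin 8), Perm.sign x = 1 → φ x ∈ N := by
      intro x hx
      have hx' : x ∈ alternatingGroup (Fin 8) := Perm.mem_alternatingGroup.2 hx
      rw [← Perm.closure_three_cycles_eq_alternating] at hx'
      have hle : Subgroup.closure {σ : Perm (Fin 8) | σ.IsThreeCycle} ≤ N.comap φ := by
        rw [Subgroup.closure_le]
        intro c hc
        have h3 : c ^ 3 = 1 := by rw [← hc.orderOf]; exact pow_orderOf_eq_one c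
        show φ c ∈ N
        have : c = c * c * (c * c) := by
          calc c = c ^ 3 * c := by rw [h3, one_mul]
            _ = _ := by simp only [pow_succ, pow_zero, one_mul, mul_assoc]
        rw [this]
        exact hsq (c * c)
      exact hle hx'
    intro σ
    refine ⟨fun hσ => (Int.units_eq_one_or _).resolve_right fun e => hτN ?_, heven σ⟩
    have h67 : Perm.sign (swap (6 : Fin 8) 7) = -1 := by decide
    have h1 : φ (σ⁻¹ * swap 6 7) ∈ N := heven _ (by rw [map_mul, map_inv, e, h67]; rfl)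
    rw [map_mul, map_inv, h.eight_τ hxe] at h1
    exact (N.mul_mem_cancel_left (inv_mem hσ)).1 h1
  obtain ⟨zN, hzN⟩ : ∃ z : N, (z : G) = h.z := ⟨⟨φ (swap 0 1 * swap 1 2),
    (hmem _).2 (by decide)⟩, h.eight_z hxe⟩
  let al : Perm (Fin 5) →* N := (φ.comp matched).codRestrict N fun π => (hmem _).2 (matched_even π)
  have hal : ∀ π, ((al π : N) : G) = h.L.al (twist π, π) := fun π => hxe (twist π, π)
  obtain ⟨L, hL⟩ : ∃ L : AltEightLocal.Local zN, L.al = al := by
    refine ⟨⟨al, ?_, ?_, ?_, ?_, ?_, ?_⟩, rfl⟩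
    · exact fun a b e => matched_inj (hinj (congrArg Subtype.val e))
    · intro π hπ
      refine Subtype.ext ?_
      push_cast
      rw [hal, hzN, h.L.comm_iff]
      simp [twist, hπ]
    · intro π hπ
      refine Subtype.ext ?_
      push_cast
      rw [hal, hzN]
      have e : ((twist π, π) : Perm (Fin 3) × Perm (Fin 5)) = (mir, 1) * (1, π) := by
        simp [twist, hπ]
      rw [e, map_mul, show h.L.al (mir, 1) * h.L.al (1, π) * h.z *
        (h.L.al (mir, 1) * h.L.al (1, π))⁻¹ = h.L.al (mir, 1) *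
          (h.L.al (1, π) * h.z * (h.L.al (1, π))⁻¹) * (h.L.al (mir, 1))⁻¹ by group,
        h.L.comm_snd, mul_inv_cancel_right]
      exact h.L.mir_inverts
    · intro g hg
      obtain ⟨⟨σ, π⟩, hx⟩ := h.L.surj g (by
        rw [← hzN]
        refine hg.imp (fun e => ?_) (fun e => ?_)
        · exact_mod_cast congrArg Subtype.val e
        · exact_mod_cast congrArg Subtype.val e)
      have hs : Perm.sign σ = Perm.sign π := by
        have h1 : φ (emb (σ, π)) ∈ N := by rw [hxe, hx]; exact g.2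
        rw [hmem, sign_emb] at h1
        rcases Int.units_eq_one_or (Perm.sign σ) with a | a <;>
          rcases Int.units_eq_one_or (Perm.sign π) with b | b <;> simp_all
      obtain ⟨i, rfl⟩ := pair_split σ π hs
      refine ⟨i, π, Subtype.ext ?_⟩
      push_cast
      rw [hal, hzN, ← hx]
      calc h.L.al (rot ^ (i : ℕ) * twist π, π)
          = h.L.al ((rot, 1) ^ (i : ℕ) * (twist π, π)) :=
            congrArg h.L.al (Prod.ext rfl (by simp))
        _ = _ := by rw [map_mul, map_pow, h.L.al_rot]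
    · refine Subtype.ext ?_
      push_cast
      rw [hzN, pow_three']
      exact h.L.cube
    · exact fun e => h.L.ne (by rw [← hzN, e]; rfl)
  let wN : N := L.al cyc
  let uN : N := ⟨φ (swap 0 3 * swap 1 4 * swap 2 5 * swap 6 7),
    (hmem _).2 swapping_facts.1⟩
  have hwN : (wN : G) = h.w := by
    show ((L.al cyc : N) : G) = h.w
    rw [hL, hal, ← h.L_w]
    exact congrArg h.L.al (Prod.ext (by decide) rfl)
  let H8 : AltEightLocal.Hyp N :=
    { z := zN, w := wN, u := uN, L := L, w_eq := rfl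
      u_sq := by
        refine Subtype.ext ?_
        show φ _ * φ _ = 1
        rw [← map_mul, swapping_facts.2.1, map_one]
      u_z := by
        refine Subtype.ext ?_
        show φ _ * (zN : G) * φ _ = (wN : G)
        rw [hzN, hwN, ← h.eight_z hxe, ← map_mul, ← map_mul, swapping_facts.2.2.1, h.eight_w hxe]
      u_flip := by
        refine Subtype.ext ?_
        rw [hL]
        show φ _ * φ (matched AltEightLocal.flip) = φ (matched AltEightLocal.flip) * φ _
        rw [← map_mul, ← map_mul, swapping_facts.2.2.2.1]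
      selfC := by
        intro g hgz hgw
        have e1 := congrArg Subtype.val hgz
        have e2 := congrArg Subtype.val hgw
        push_cast at e1 e2
        rw [hzN] at e1
        rw [hwN] at e2
        obtain ⟨i, j, k, e⟩ := h.of_centralizes e1 e2
        have hs : Perm.sign (emb (rot ^ (i : ℕ), cyc ^ (j : ℕ) * tail ^ (k : ℕ))) = 1 := by
          rw [← hmem, hxe, ← e]; exact g.2
        refine ⟨i, j, Subtype.ext ?_⟩
        push_cast
        rw [hzN, hwN, e, ← hxe, pair_parity i j k hs, map_mul, map_pow, map_pow,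
          h.eight_z hxe, h.eight_w hxe]
      cy := by
        have hy : φ ((swap 0 1 * swap 1 2) * (swap 3 4 * swap 4 5)) = h.z * h.w := by
          rw [map_mul, h.eight_z hxe, h.eight_w hxe]
        let F : {p // Perm.sign (yParam p) = 1} → {g : N // g * (zN * wN) = zN * wN * g} := fun p =>
          ⟨⟨φ (yParam p.1), (hmem _).2 p.2⟩, Subtype.ext (by
            push_cast
            rw [hzN, hwN, ← hy, ← map_mul, ← map_mul, yParam_facts])⟩
        have hF : Function.Bijective F := ⟨fun a b e => Subtype.ext (yParam_inj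
          (hinj (congrArg (fun q : {g : N // g * (zN * wN) = zN * wN * g} => (q.1 : G)) e))),
          fun q => by
            have e := congrArg Subtype.val q.2
            push_cast at e
            rw [hzN, hwN] at e
            obtain ⟨p, hp⟩ := h.eight_centralizer_y hinj hxe _ e
            exact ⟨⟨p, (hmem _).1 (hp ▸ q.1.2)⟩, Subtype.ext (Subtype.ext hp.symm)⟩⟩
        rw [card_centralizer_eq, ← Nat.card_congr (Equiv.ofBijective F hF),
          Nat.card_eq_fintype_card]
        exact yParam_counts.2.2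
      sylow := fun e => h.sylow (e.trans (Subgroup.card_subgroup_dvd_card N)) }
  obtain ⟨eA⟩ := H8.nonempty_alt @Cfsg.Agent.S3344.result
  have hcard : Nat.card G = 40320 := by
    rw [← Subgroup.card_mul_index N, hN2, Nat.card_congr eA.toEquiv, nat_card_alternatingGroup,
      Nat.card_fin]
    rfl
  exact ⟨(MulEquiv.ofBijective φ ((Nat.bijective_iff_injective_and_card φ).2 ⟨hinj, by
    rw [hcard, Nat.card_perm, Nat.card_fin]; rfl⟩)).symm⟩

end Hyp

end CfsgLib.SymEightLocal
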