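import Cfsg.Agent.SymEightLocal.Frattini
import Cfsg.Agent.ONanTI.Socle

/-!
In the second case `F*(G)` is minimal normal, isomorphic to `A₅ × A₅` and of index four.
-/

set_option autoImplicit false
set_option linter.style.haveILetI false

namespace CfsgLib.SymEightLocal

open Equiv
open CfsgLib.AltEightLocal (cyc tail turn)

variable {G : Type*} [Group G]

namespace Hyp.Twinned

variable {h : Hyp G} (d : h.Twinned)
include d

theorem centralizer_le_H [Finite G] {g y : G}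
    (hy : y = h.τ ∨ y = h.s ∨ y = h.r ∨ y = h.s * h.r) (hg : g * y = y * g) :
    g ∈ Subgroup.normalizer (d.Mx : Set G) := by
  have hs : ∀ g : G, g * h.s = h.s * g → g ∈ Subgroup.normalizer (d.Mx : Set G) := fun g hg =>
    d.range_le_normalizer (d.centralizer_s_le (Subgroup.mem_centralizer_singleton_iff.2 hg))
  obtain ⟨m, hm, hms, -, -, -⟩ := d.exists_swap_factors
  rcases hy with rfl | rfl | rfl | rfl
  · exact d.normalizer_D_le (d.hB.centralizer_τ_le g hg)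
  · exact hs g hg
  · have h1 := hs (m⁻¹ * g * m) (by
      calc m⁻¹ * g * m * h.s = m⁻¹ * (g * (m * h.s * m⁻¹)) * m := by group
        _ = m⁻¹ * (g * h.r) * m := by rw [hms]
        _ = m⁻¹ * (m * h.s * m⁻¹ * g) * m := by rw [hg, hms]
        _ = _ := by group)
    have h2 := mul_mem (mul_mem hm h1) (inv_mem hm)
    rwa [show m * (m⁻¹ * g * m) * m⁻¹ = g by group] at h2
  · rcases d.cent_sr hg with e | e
    · exact hs g (mul_inv_eq_iff_eq_mul.1 e)
    · have h1 := hs (m⁻¹ * g) (mul_inv_eq_iff_eq_mul.1 (by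
        calc m⁻¹ * g * h.s * (m⁻¹ * g)⁻¹ = m⁻¹ * (g * h.s * g⁻¹) * m := by group
          _ = _ := by rw [e, ← hms]; group))
      have h2 := mul_mem hm h1
      rwa [mul_inv_cancel_left] at h2

theorem conj_τ_mem_H [Finite G] (g : G) :
    g * h.τ * g⁻¹ ∈ Subgroup.normalizer (d.Mx : Set G) := by
  obtain ⟨x, hx⟩ : ∃ x, x = g * h.τ * g⁻¹ := ⟨_, rfl⟩
  rw [← hx]
  have hx2 : x * x = 1 := by
    rw [hx, show g * h.τ * g⁻¹ * (g * h.τ * g⁻¹) = g * (h.τ * h.τ) * g⁻¹ by group, h.τ_sq]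
    group
  rcases exists_conj_or_involution hx2 h.s_sq with ⟨k, hk⟩ | ⟨i, hi2, hi1, hix, his⟩
  · exfalso
    refine h.M_turn_ne_conj (k * g) ?_
    rw [← d.hB.1, ← hk, hx]; group
  obtain ⟨σ, π, e, rfl⟩ :=
    d.exists_el (d.centralizer_s_le (Subgroup.mem_centralizer_singleton_iff.2 his))
  obtain ⟨k, y, hkH, hy, hk⟩ : ∃ k y : G, k ∈ Subgroup.normalizer (d.Mx : Set G) ∧
      (y = h.τ ∨ y = h.s ∨ y = h.r ∨ y = h.s * h.r) ∧ d.el σ π e = k * y * k⁻¹ := by
    rcases d.involution_cases e ((d.mem_cent_s e).1 his) hi2 hi1 with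
      ⟨-, ρ, ρ', -, he, hk⟩ | ⟨-, ρ, ρ', he, y, hy, hk⟩
    · exact ⟨_, _, d.range_le_normalizer (d.el_range he), Or.inl rfl, hk⟩
    · exact ⟨_, y, d.range_le_normalizer (d.el_range he), Or.inr hy, hk⟩
  rw [hk] at hix
  have h1 := d.centralizer_le_H hy (g := k⁻¹ * x * k) (by
    calc k⁻¹ * x * k * y = k⁻¹ * (x * (k * y * k⁻¹)) * k := by group
      _ = _ := by rw [← hix]; group)
  have h2 := mul_mem (mul_mem hkH h1) (inv_mem hkH)
  rwa [show k * (k⁻¹ * x * k) * k⁻¹ = x by group] at h2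

/-- `Mx` lies in every normal subgroup containing `τ`. -/
theorem Mx_le_of_τ_mem [Finite G] {R : Subgroup G} (hR : R.Normal) (hτ : h.τ ∈ R) : d.Mx ≤ R := by
  have hs : h.s ∈ R := by
    have e : h.a * h.τ * h.a * h.τ = h.s := by
      rw [d.hB.a_τ_a, mul_assoc, h.τ_sq, mul_one]
    rw [← e]
    refine mul_mem ?_ hτ
    have h1 := hR.conj_mem _ hτ h.a
    rwa [inv_of_sq h.a_sq] at h1
  obtain ⟨m, -, hms, -⟩ := d.exists_swap_factors
  have hr : h.r ∈ R := hms ▸ hR.conj_mem _ hs m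
  have inv_mem_of : ∀ t x : G, t ∈ R → t * x * t⁻¹ = x⁻¹ → x * x * x = 1 → x ∈ R := by
    intro t x ht hinv h3
    have h1 : t * (x * t⁻¹ * x⁻¹) ∈ R := mul_mem ht (hR.conj_mem _ (inv_mem ht) x)
    rw [show t * (x * t⁻¹ * x⁻¹) = t * x * t⁻¹ * x⁻¹ by group, hinv] at h1
    rwa [show x⁻¹ * x⁻¹ = x from by
      rw [← mul_inv_rev]
      exact inv_eq_of_mul_eq_one_right h3] at h1
  have hz := inv_mem_of h.s h.z hs h.s_z h.L.cube
  have hw := inv_mem_of h.r h.w hr h.r_w h.w_cube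
  obtain ⟨ρ, hρ, hc⟩ := AltEightLocal.even_involution cross five_signs.2.2.2.1
    five_facts.2.2.2.2.2.1 four_facts.2.2.1
  have hM : ∀ σ, Perm.sign σ = 1 → h.M.al (1, σ) ∈ R := by
    intro σ hσ
    refine alt_closure (P := R.comap (h.M.al.comp (MonoidHom.inr (Perm (Fin 3)) (Perm (Fin 5)))))
      ?_ ?_ ?_ hσ
    · show h.M.al (1, cyc) ∈ R
      rw [h.M_z]; exact hz
    · show h.M.al (1, turn) ∈ R
      rw [← d.hB.1]; exact hs
    · show h.M.al (1, cross) ∈ R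
      have h1 := hR.conj_mem _ hs (h.M.al (1, ρ))
      rw [d.hB.1, map_conj h.M.al] at h1
      rwa [show ((1 : Perm (Fin 3)), ρ) * (1, turn) * (1, ρ)⁻¹ = (1, cross) from
        Prod.ext (by simp) hc] at h1
  have hL : ∀ σ, Perm.sign σ = 1 → h.L.al (1, σ) ∈ R := by
    intro σ hσ
    refine alt_closure (P := R.comap (h.L.al.comp (MonoidHom.inr (Perm (Fin 3)) (Perm (Fin 5)))))
      ?_ ?_ ?_ hσ
    · show h.L.al (1, cyc) ∈ R
      rw [h.L_w]; exact hw
    · show h.L.al (1, turn) ∈ R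
      rw [← d.hB.2]; exact hr
    · show h.L.al (1, cross) ∈ R
      have h1 := hR.conj_mem _ hr (h.L.al (1, ρ))
      rw [d.hB.2, map_conj h.L.al] at h1
      rwa [show ((1 : Perm (Fin 3)), ρ) * (1, turn) * (1, ρ)⁻¹ = (1, cross) from
        Prod.ext (by simp) hc] at h1
  intro g hg
  obtain ⟨σ, π, e, hσ, rfl⟩ := d.exists_el_Mx hg
  rw [show d.el σ π e = h.M.al (1, σ) * h.L.al (1, π) by
    rw [← d.el_M_even hσ, ← d.el_L_even (e ▸ hσ), d.el_mul]
    exact d.el_congr _ (mul_one σ).symm (one_mul π).symm]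
  exact mul_mem (hM σ hσ) (hL π (e ▸ hσ))

theorem card_quotient_H [Finite G] :
    Nat.card (Subgroup.normalizer (d.Mx : Set G) ⧸
      d.Mx.subgroupOf (Subgroup.normalizer (d.Mx : Set G))) = 4 := by
  obtain ⟨φ, hφ⟩ : ∃ φ : Subgroup.normalizer (h.D : Set G) →*
      Subgroup.normalizer (d.Mx : Set G) ⧸ d.Mx.subgroupOf (Subgroup.normalizer (d.Mx : Set G)),
      φ = (QuotientGroup.mk' _).comp (Subgroup.inclusion d.normalizer_D_le) := ⟨_, rfl⟩
  have hker : ∀ g, g ∈ φ.ker ↔ (g : G) ∈ d.Mx := fun g => by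
    rw [MonoidHom.mem_ker, hφ, MonoidHom.comp_apply, QuotientGroup.mk'_apply,
      QuotientGroup.eq_one_iff, Subgroup.mem_subgroupOf]
    rfl
  have hsurj : Function.Surjective φ := by
    intro q
    obtain ⟨⟨x, hx⟩, rfl⟩ := QuotientGroup.mk_surjective q
    obtain ⟨u, hu, hux⟩ := d.exists_mul_mem_normalizer hx
    refine ⟨⟨u * x, hux⟩, ?_⟩
    rw [hφ, MonoidHom.comp_apply, QuotientGroup.mk'_apply, QuotientGroup.eq,
      Subgroup.mem_subgroupOf]
    show (u * x)⁻¹ * x ∈ d.Mx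
    have h1 := (Subgroup.mem_normalizer_iff.1 (inv_mem hx) u⁻¹).1 (inv_mem hu)
    rw [inv_inv] at h1
    rwa [mul_inv_rev]
  have h36 : Nat.card φ.ker = 36 := by
    rw [← d.card_normalizer_inf_Mx]
    exact Nat.card_congr ⟨fun g => ⟨g.1.1, g.1.2, (hker _).1 g.2⟩,
      fun g => ⟨⟨g.1, g.2.1⟩, (hker _).2 g.2.2⟩, fun g => rfl, fun g => rfl⟩
  have h1 := φ.ker.card_mul_index
  rw [h36, Subgroup.index_ker, MonoidHom.range_eq_top.2 hsurj, Subgroup.card_top,
    d.card_normalizer] at h1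
  omega

theorem mem_Mx_of_cube [Finite G] {x : G} (hx : x ∈ Subgroup.normalizer (d.Mx : Set G))
    (h3 : x * x * x = 1) : x ∈ d.Mx := by
  obtain ⟨q, hq⟩ : ∃ q : Subgroup.normalizer (d.Mx : Set G) ⧸
      d.Mx.subgroupOf (Subgroup.normalizer (d.Mx : Set G)), q = QuotientGroup.mk' _ ⟨x, hx⟩ :=
    ⟨_, rfl⟩
  have hq3 : q * q * q = 1 := by
    rw [hq, ← map_mul, ← map_mul, show (⟨x, hx⟩ * ⟨x, hx⟩ * ⟨x, hx⟩ :
      Subgroup.normalizer (d.Mx : Set G)) = 1 from Subtype.ext h3, map_one]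
  have hq4 : q ^ 4 = 1 := by rw [← d.card_quotient_H]; exact pow_card_eq_one'
  rw [pow_succ, pow_three', hq3, one_mul, hq, QuotientGroup.mk'_apply,
    QuotientGroup.eq_one_iff] at hq4
  exact hq4

theorem normal_Mx [Finite G] : d.Mx.Normal := by
  have hR : Subgroup.normalClosure ({h.τ} : Set G) ≤ Subgroup.normalizer (d.Mx : Set G) := by
    rw [Subgroup.normalClosure, Subgroup.closure_le]
    intro x hx
    obtain ⟨a, ha, hax⟩ := Group.mem_conjugatesOfSet_iff.1 hx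
    rw [Set.mem_singleton_iff] at ha
    subst ha
    obtain ⟨c, rfl⟩ := isConj_iff.1 hax
    exact d.conj_τ_mem_H c
  have hMR : d.Mx ≤ Subgroup.normalClosure ({h.τ} : Set G) :=
    d.Mx_le_of_τ_mem Subgroup.normalClosure_normal
      (Subgroup.subset_normalClosure (Set.mem_singleton _))
  rw [← Subgroup.normalizer_eq_top_iff, eq_top_iff]
  intro g _
  have hmem : ∀ x ∈ d.Mx, g * x * g⁻¹ ∈ Subgroup.normalizer (d.Mx : Set G) := fun x hx =>
    hR (Subgroup.normalClosure_normal.conj_mem _ (hMR hx) g)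
  have hthree : ∀ x ∈ d.Mx, x * x * x = 1 → g * x * g⁻¹ ∈ d.Mx := fun x hx h3 =>
    d.mem_Mx_of_cube (hmem x hx) (by
      rw [show g * x * g⁻¹ * (g * x * g⁻¹) * (g * x * g⁻¹) = g * (x * x * x) * g⁻¹ by group, h3]
      group)
  obtain ⟨⟨p, q, hp, hq, hps, hqs, hpq⟩, ⟨p', q', hp', hq', hps', hqs', hpq'⟩⟩ := three_products
  have gen : ∀ {v : G} (P : Pair v),
      (∀ σ, Perm.sign σ = 1 → P.al (1, σ) ∈ d.Mx) →
      ∀ σ, Perm.sign σ = 1 → g * P.al (1, σ) * g⁻¹ ∈ d.Mx := by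
    intro v P hP σ hσ
    let S : Subgroup (Perm (Fin 5)) := d.Mx.comap ((MulAut.conj g).toMonoidHom.comp
      (P.al.comp (MonoidHom.inr (Perm (Fin 3)) (Perm (Fin 5)))))
    have h3S : ∀ π, π * π * π = 1 → Perm.sign π = 1 → π ∈ S := fun π h3 hπ =>
      hthree _ (hP π hπ) (by
        rw [← map_mul, ← map_mul, ← map_one P.al]
        exact congrArg P.al (Prod.ext (by simp) h3))
    refine alt_closure (P := S) (h3S _ five_facts.1 five_signs.1) ?_ ?_ hσ
    · rw [← hpq]; exact mul_mem (h3S p hp hps) (h3S q hq hqs)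
    · rw [← hpq']; exact mul_mem (h3S p' hp' hps') (h3S q' hq' hqs')
  exact d.mem_normalizer_Mx (gen h.M fun σ hσ => d.M_mem_Mx hσ)
    (gen h.L fun σ hσ => d.L_mem_Mx hσ)

theorem index_Mx [Finite G] : d.Mx.index = 4 := by
  haveI := d.normal_Mx
  rw [← d.card_quotient_H, ← Subgroup.index, Subgroup.normalizer_eq_top_iff.2 d.normal_Mx]
  exact (Subgroup.relIndex_top_right _).symm

theorem sq_mem_Mx [Finite G] (g : G) : g ^ 2 ∈ d.Mx := by
  haveI := d.normal_Mx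
  obtain ⟨u, hu, hug⟩ := d.exists_mul_mem_normalizer (x := g) (by
    rw [Subgroup.normalizer_eq_top_iff.2 d.normal_Mx]; trivial)
  obtain ⟨a, -, b, -, e, he, hsq⟩ := h.sq _ hug
  obtain ⟨π, hπ⟩ : ∃ π : G →* G ⧸ d.Mx, π = QuotientGroup.mk' d.Mx := ⟨_, rfl⟩
  have hone : ∀ x ∈ d.Mx, π x = 1 := fun x hx => by
    rw [hπ, QuotientGroup.mk'_apply, QuotientGroup.eq_one_iff]; exact hx
  haveI : Fact (Nat.Prime 2) := ⟨Nat.prime_two⟩
  have hc : ∀ x y : G ⧸ d.Mx, x * y = y * x :=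
    IsPGroup.commutative_of_card_eq_prime_sq (p := 2) (by
      rw [← Subgroup.index, d.index_Mx]; norm_num)
  rw [← QuotientGroup.eq_one_iff, ← QuotientGroup.mk'_apply, ← hπ, map_pow, pow_two]
  have hgu : π g = π (u * g) := by rw [map_mul, hone u hu, one_mul]
  rw [hgu, ← map_mul, hsq, map_mul, hone e (d.D_le_Mx he), one_mul, map_mul, map_mul, map_mul,
    map_inv, map_inv, hc (π a) (π b)]
  group

theorem centralizer_Mx [Finite G] : Subgroup.centralizer (d.Mx : Set G) = ⊥ := by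
  rw [Subgroup.eq_bot_iff_forall]
  intro g hg
  have hc : ∀ x ∈ d.Mx, x * g = g * x := fun x hx => Subgroup.mem_centralizer_iff.1 hg x hx
  have hs : g * h.s = h.s * g := (hc h.s (by rw [d.hB.1]; exact d.M_mem_Mx five_signs.2.2.1)).symm
  obtain ⟨σ, π, e, rfl⟩ :=
    d.exists_el (d.centralizer_s_le (Subgroup.mem_centralizer_singleton_iff.2 hs))
  have hσ : σ = 1 := AltEightLocal.centralizer_alt σ fun ρ hρ => by
    have h1 := hc _ (d.el_mem_Mx (σ := ρ) (π := 1) (by rw [map_one, hρ]) hρ)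
    rw [d.el_mul, d.el_mul] at h1
    exact (d.el_inj h1).1.symm
  have hπ : π = 1 := AltEightLocal.centralizer_alt π fun ρ hρ => by
    have h1 := hc _ (d.el_mem_Mx (σ := 1) (π := ρ) (by rw [map_one, hρ]) (map_one _))
    rw [d.el_mul, d.el_mul] at h1
    exact (d.el_inj h1).2.symm
  exact (d.el_congr e hσ hπ).trans d.el_one

/-- The first factor. -/
def facM : alternatingGroup (Fin 5) →* G :=
  d.ιMx.comp (MonoidHom.inl (alternatingGroup (Fin 5)) (alternatingGroup (Fin 5)))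

/-- The second factor. -/
def facL : alternatingGroup (Fin 5) →* G :=
  d.ιMx.comp (MonoidHom.inr (alternatingGroup (Fin 5)) (alternatingGroup (Fin 5)))

theorem fac_apply (σ : alternatingGroup (Fin 5)) :
    d.facM σ = h.M.al (1, σ.1) ∧ d.facL σ = h.L.al (1, σ.1) :=
  ⟨d.el_M_even (d.sign_alt σ), d.el_L_even (d.sign_alt σ)⟩

theorem fac_inj : Function.Injective d.facM ∧ Function.Injective d.facL :=
  ⟨fun _ _ e => congrArg Prod.fst (d.ιMx_inj e), fun _ _ e => congrArg Prod.snd (d.ιMx_inj e)⟩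

theorem isMinimal_Mx [Finite G] (K : Subgroup G) (hK : K.Normal) (hle : K ≤ d.Mx) :
    K = ⊥ ∨ K = d.Mx := by
  refine or_iff_not_imp_left.2 fun hne => le_antisymm hle ?_
  haveI := alternatingGroup.isSimpleGroup_five
  have hconj : ∀ g x : G, x ∈ K → g * x * g⁻¹ ∈ K := fun g x hx => hK.conj_mem x hx g
  have hcase : (∀ σ : alternatingGroup (Fin 5), d.facM σ ∈ K) ∨
      ∀ σ : alternatingGroup (Fin 5), d.facL σ ∈ K := by
    obtain ⟨k, hk, hk1⟩ : ∃ k ∈ K, k ≠ 1 := by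
      by_contra! hno
      exact hne ((Subgroup.eq_bot_iff_forall K).2 hno)
    obtain ⟨⟨α, β⟩, rfl⟩ := hle hk
    have key : ∀ γ : alternatingGroup (Fin 5),
        d.ιMx (γ, 1) * d.ιMx (α, β) * (d.ιMx (γ, 1))⁻¹ * (d.ιMx (α, β))⁻¹ =
          d.facM (γ * α * γ⁻¹ * α⁻¹) := fun γ => by
      rw [← map_inv, ← map_inv, ← map_mul, ← map_mul, ← map_mul]
      exact congrArg d.ιMx (Prod.ext rfl (by simp))
    by_cases hα : α = 1
    · have hβ : β ≠ 1 := fun hβ => hk1 (by rw [hα, hβ]; exact map_one _)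
      right
      rcases (Subgroup.Normal.comap hK d.facL).eq_bot_or_eq_top with e | e
      · exfalso
        have h1 : β ∈ K.comap d.facL := by
          show d.ιMx (1, β) ∈ K
          rwa [← hα]
        rw [e, Subgroup.mem_bot] at h1
        exact hβ h1
      · exact fun σ => (e ▸ Subgroup.mem_top σ : σ ∈ K.comap d.facL)
    · left
      obtain ⟨γ, hγ⟩ : ∃ γ : alternatingGroup (Fin 5), γ * α * γ⁻¹ * α⁻¹ ≠ 1 := by
        by_contra! hno
        refine hα (Subtype.ext (AltEightLocal.centralizer_alt α.1 fun ρ hρ => ?_))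
        have h1 := hno ⟨ρ, Perm.mem_alternatingGroup.2 hρ⟩
        rw [mul_inv_eq_one, mul_inv_eq_iff_eq_mul] at h1
        exact (congrArg Subtype.val h1).symm
      rcases (Subgroup.Normal.comap hK d.facM).eq_bot_or_eq_top with e | e
      · exfalso
        have h1 : γ * α * γ⁻¹ * α⁻¹ ∈ K.comap d.facM := by
          rw [Subgroup.mem_comap, ← key]
          exact mul_mem (hconj _ _ hk) (inv_mem hk)
        rw [e, Subgroup.mem_bot] at h1
        exact hγ h1
      · exact fun σ => (e ▸ Subgroup.mem_top σ : σ ∈ K.comap d.facM)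
  obtain ⟨m, -, -, -, hmM, hmL⟩ := d.exists_swap_factors
  have both : (∀ σ, Perm.sign σ = 1 → h.M.al (1, σ) ∈ K) ∧
      ∀ σ, Perm.sign σ = 1 → h.L.al (1, σ) ∈ K := by
    rcases hcase with hc | hc
    · have hM : ∀ σ, Perm.sign σ = 1 → h.M.al (1, σ) ∈ K := fun σ hσ =>
        (d.fac_apply ⟨σ, Perm.mem_alternatingGroup.2 hσ⟩).1 ▸ hc _
      refine ⟨hM, fun σ hσ => ?_⟩
      obtain ⟨π, hπ, e⟩ := hmL σ hσ
      have h1 := hconj m⁻¹ _ (hM π hπ)
      rw [← e] at h1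
      rwa [show m⁻¹ * (m * h.L.al (1, σ) * m⁻¹) * m⁻¹⁻¹ = h.L.al (1, σ) by group] at h1
    · have hL : ∀ σ, Perm.sign σ = 1 → h.L.al (1, σ) ∈ K := fun σ hσ =>
        (d.fac_apply ⟨σ, Perm.mem_alternatingGroup.2 hσ⟩).2 ▸ hc _
      refine ⟨fun σ hσ => ?_, hL⟩
      obtain ⟨π, hπ, e⟩ := hmM σ hσ
      have h1 := hconj m⁻¹ _ (hL π hπ)
      rw [← e] at h1
      rwa [show m⁻¹ * (m * h.M.al (1, σ) * m⁻¹) * m⁻¹⁻¹ = h.M.al (1, σ) by group] at h1
  intro g hg
  obtain ⟨σ, π, e, hσ, rfl⟩ := d.exists_el_Mx hg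
  rw [show d.el σ π e = h.M.al (1, σ) * h.L.al (1, π) by
    rw [← d.el_M_even hσ, ← d.el_L_even (e ▸ hσ), d.el_mul]
    exact d.el_congr _ (mul_one σ).symm (one_mul π).symm]
  exact mul_mem (both.1 σ hσ) (both.2 π (e ▸ hσ))

theorem fstar_Mx [Finite G] : Cfsg.generalizedFittingSubgroup G = d.Mx := by
  haveI := d.normal_Mx
  haveI := alternatingGroup.isSimpleGroup_five
  have hnab : ∀ f : alternatingGroup (Fin 5) →* G, Function.Injective f →
      ¬ IsMulCommutative f.range := by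
    intro f hf hc
    obtain ⟨p, q, hps, hqs, hne⟩ : ∃ p q : Perm (Fin 5), Perm.sign p = 1 ∧ Perm.sign q = 1 ∧
        p * q ≠ q * p := ⟨cyc, cross, five_signs.1, five_signs.2.2.2.1, by decide +kernel⟩
    have h1 := hc.is_comm.comm ⟨f ⟨p, Perm.mem_alternatingGroup.2 hps⟩, _, rfl⟩
      ⟨f ⟨q, Perm.mem_alternatingGroup.2 hqs⟩, _, rfl⟩
    have h2 : f (⟨p, Perm.mem_alternatingGroup.2 hps⟩ * ⟨q, Perm.mem_alternatingGroup.2 hqs⟩) =
        f (⟨q, Perm.mem_alternatingGroup.2 hqs⟩ * ⟨p, Perm.mem_alternatingGroup.2 hps⟩) := by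
      rw [map_mul, map_mul]; exact congrArg Subtype.val h1
    exact hne (congrArg Subtype.val (hf h2))
  have hcomp : ∀ f : alternatingGroup (Fin 5) →* G, Function.Injective f → f.range ≤ d.Mx →
      (∀ x ∈ d.Mx, ∀ σ, x * f σ * x⁻¹ ∈ f.range) → Cfsg.IsComponent f.range := by
    intro f hf hle hconj
    haveI : (f.range.subgroupOf d.Mx).Normal := ⟨fun y hy x => by
      obtain ⟨σ, hσ⟩ := Subgroup.mem_subgroupOf.1 hy
      rw [Subgroup.mem_subgroupOf]
      push_cast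
      rw [← hσ]
      exact hconj _ x.2 σ⟩
    rw [← Components.isComponent_subgroupOf d.normal_Mx.isSubnormal hle]
    refine AltBlocks.isComponent_of_simple
      (inferInstance : (f.range.subgroupOf d.Mx).Normal).isSubnormal
      ((Subgroup.subgroupOfEquivOfLe hle).trans (MonoidHom.ofInjective hf).symm).isSimpleGroup
      fun hc => hnab f hf ⟨⟨fun a b => ?_⟩⟩
    exact Subtype.ext (congrArg (fun t : f.range.subgroupOf d.Mx => ((t : d.Mx) : G))
      (hc.is_comm.comm ⟨⟨a, hle a.2⟩, a.2⟩ ⟨⟨b, hle b.2⟩, b.2⟩))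
  have hM : Cfsg.IsComponent d.facM.range := by
    refine hcomp _ d.fac_inj.1 (by rintro _ ⟨σ, rfl⟩; exact ⟨_, rfl⟩) ?_
    rintro _ ⟨⟨α, β⟩, rfl⟩ σ
    refine ⟨α * σ * α⁻¹, ?_⟩
    show d.ιMx (α * σ * α⁻¹, 1) = d.ιMx (α, β) * d.ιMx (σ, 1) * (d.ιMx (α, β))⁻¹
    rw [← map_inv, ← map_mul, ← map_mul]
    exact congrArg d.ιMx (Prod.ext rfl (by simp))
  have hL : Cfsg.IsComponent d.facL.range := by
    refine hcomp _ d.fac_inj.2 (by rintro _ ⟨σ, rfl⟩; exact ⟨_, rfl⟩) ?_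
    rintro _ ⟨⟨α, β⟩, rfl⟩ σ
    refine ⟨β * σ * β⁻¹, ?_⟩
    show d.ιMx (1, β * σ * β⁻¹) = d.ιMx (α, β) * d.ιMx (1, σ) * (d.ιMx (α, β))⁻¹
    rw [← map_inv, ← map_mul, ← map_mul]
    exact congrArg d.ιMx (Prod.ext (by simp) rfl)
  refine le_antisymm (sup_le (sSup_le fun K hK => ?_) (sSup_le ?_)) ?_
  · by_contra hKN
    have h1 : ∀ f : alternatingGroup (Fin 5) →* G, f.range ≤ d.Mx →
        Cfsg.IsComponent f.range → K ≤ Subgroup.centralizer (f.range : Set G) := fun f hle hc => by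
      rw [← Subgroup.commutator_eq_bot_iff_le_centralizer]
      exact Components.IsComponent.commutator_eq_bot_of_ne hK hc fun e => hKN (e ▸ hle)
    refine Components.IsComponent.ne_bot hK (eq_bot_iff.2 ?_)
    rw [← d.centralizer_Mx]
    intro k hk
    rw [Subgroup.mem_centralizer_iff]
    rintro _ ⟨⟨α, β⟩, rfl⟩
    have c1 : Commute (d.facM α) k := Subgroup.mem_centralizer_iff.1
      (h1 d.facM (by rintro _ ⟨σ, rfl⟩; exact ⟨_, rfl⟩) hM hk) _ ⟨α, rfl⟩
    have c2 : Commute (d.facL β) k := Subgroup.mem_centralizer_iff.1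
      (h1 d.facL (by rintro _ ⟨σ, rfl⟩; exact ⟨_, rfl⟩) hL hk) _ ⟨β, rfl⟩
    have e : d.ιMx (α, β) = d.facM α * d.facL β := by
      show _ = d.ιMx (α, 1) * d.ιMx (1, β)
      rw [← map_mul]; simp
    rw [e]
    exact (c1.mul_left c2).eq
  · rintro M ⟨hM', hnil⟩
    haveI := hM'
    rcases d.isMinimal_Mx (M ⊓ d.Mx) inferInstance inf_le_right with e | e
    · have hle : M ≤ Subgroup.centralizer (d.Mx : Set G) := fun x hx =>
        Subgroup.mem_centralizer_iff.2 fun y hy => (Subgroup.commute_of_normal_of_disjoint M d.Mx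
          hM' d.normal_Mx (disjoint_iff.2 e) x y hx hy).eq.symm
      rw [d.centralizer_Mx] at hle
      exact hle.trans bot_le
    · exfalso
      have hle : d.facM.range ≤ M := fun x hx => by
        have h1 : x ∈ d.Mx := by obtain ⟨σ, rfl⟩ := hx; exact ⟨_, rfl⟩
        rw [← e] at h1
        exact h1.1
      haveI := hnil
      haveI : Group.IsNilpotent (d.facM.range.subgroupOf M) := inferInstance
      haveI : Group.IsNilpotent d.facM.range :=
        Group.nilpotent_of_mulEquiv (Subgroup.subgroupOfEquivOfLe hle)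
      haveI : IsSimpleGroup d.facM.range :=
        (MonoidHom.ofInjective d.fac_inj.1).symm.isSimpleGroup
      exact hnab _ d.fac_inj.1 ⟨⟨(IsSimpleGroup.comm_iff_isSolvable).2 inferInstance⟩⟩
  · intro g hg
    obtain ⟨⟨α, β⟩, rfl⟩ := hg
    have e : d.ιMx (α, β) = d.facM α * d.facL β := by
      show _ = d.ιMx (α, 1) * d.ιMx (1, β)
      rw [← map_mul]; simp
    rw [e]
    exact mul_mem
      (((Components.IsComponent.le_layer hM).trans le_sup_left) ⟨α, rfl⟩)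
      (((Components.IsComponent.le_layer hL).trans le_sup_left) ⟨β, rfl⟩)

end Hyp.Twinned

/-- In the second case `F*(G)` is minimal normal, `A₅ × A₅`, of index four. -/
theorem Hyp.CaseB.structure_eq [Finite G] {h : Hyp G} (hB : h.CaseB) :
    ∃ N : Subgroup G, N.Normal ∧ Cfsg.generalizedFittingSubgroup G = N ∧
      Nonempty (N ≃* alternatingGroup (Fin 5) × alternatingGroup (Fin 5)) ∧
      (∀ K : Subgroup G, K.Normal → K ≤ N → K = ⊥ ∨ K = N) ∧
      N.index = 4 ∧ ∀ g : G, g ^ 2 ∈ N := by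
  obtain ⟨d⟩ := hB.exists_twinned
  exact ⟨d.Mx, d.normal_Mx, d.fstar_Mx, ⟨(MonoidHom.ofInjective d.ιMx_inj).symm⟩,
    d.isMinimal_Mx, d.index_Mx, d.sq_mem_Mx⟩

end CfsgLib.SymEightLocal
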