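import Cfsg.Agent.SymEightLocal.Perms

/-!
`S₃ × S₅` inside `S₈`, and the facts about `S₈` used in the first case.
-/

set_option autoImplicit false

namespace CfsgLib.SymEightLocal

open Equiv
open CfsgLib.AltEightLocal (cyc tail turn)

/-- `S₃ × S₅` on the points `{0, 1, 2}` and `{3, …, 7}`. -/
def emb : Perm (Fin 3) × Perm (Fin 5) →* Perm (Fin 8) :=
  (finSumFinEquiv (m := 3) (n := 5)).permCongrHom.toMonoidHom.comp
    (Perm.sumCongrHom (Fin 3) (Fin 5))

theorem emb_facts :
    emb (swap 0 1, 1) = swap 0 1 ∧ emb (swap 1 2, 1) = swap 1 2 ∧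
      emb (1, swap 0 1) = swap 3 4 ∧ emb (1, swap 1 2) = swap 4 5 ∧
      emb (1, swap 2 3) = swap 5 6 ∧ emb (1, swap 3 4) = swap 6 7 := by decide +kernel

theorem emb_inj : Function.Injective emb :=
  (finSumFinEquiv (m := 3) (n := 5)).permCongrHom.injective.comp Perm.sumCongrHom_injective

/-- The inverter paired with a permutation of five points. -/
def twist : Perm (Fin 5) →* Perm (Fin 3) where
  toFun π := if Perm.sign π = 1 then 1 else mir
  map_one' := by simp
  map_mul' a b := by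
    rcases Int.units_eq_one_or (Perm.sign a) with ha | ha <;>
      rcases Int.units_eq_one_or (Perm.sign b) with hb | hb <;>
      simp [map_mul, ha, hb, rot_facts.2.2.1]

theorem twist_sign (π : Perm (Fin 5)) : Perm.sign (twist π) = Perm.sign π := by
  rcases Int.units_eq_one_or (Perm.sign π) with h | h
  · simp [twist, h]
  · simp [twist, h, mir]

theorem sign_emb (σ : Perm (Fin 3)) (π : Perm (Fin 5)) :
    Perm.sign (emb (σ, π)) = Perm.sign σ * Perm.sign π := by
  show Perm.sign ((finSumFinEquiv (m := 3) (n := 5)).permCongr (Perm.sumCongr σ π)) = _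
  rw [Perm.sign_permCongr, Perm.sign_sumCongr]

/-- The centraliser of `(0 1 2)(3 4 5)`. -/
def yParam (p : Fin 3 × Fin 3 × Fin 2 × Fin 2) : Perm (Fin 8) :=
  (swap 0 1 * swap 1 2) ^ (p.1 : ℕ) * (swap 3 4 * swap 4 5) ^ (p.2.1 : ℕ) *
    (swap 0 3 * swap 1 4 * swap 2 5) ^ (p.2.2.1 : ℕ) * (swap 6 7) ^ (p.2.2.2 : ℕ)

theorem yParam_facts : ∀ p : Fin 3 × Fin 3 × Fin 2 × Fin 2,
    yParam p * ((swap 0 1 * swap 1 2) * (swap 3 4 * swap 4 5)) =
      (swap 0 1 * swap 1 2) * (swap 3 4 * swap 4 5) * yParam p := by decide +kernel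

theorem yParam_inj : Function.Injective yParam := by decide +kernel

theorem yParam_counts :
    Fintype.card {p // yParam p * (swap 0 3 * swap 1 4 * swap 2 5) =
      swap 0 3 * swap 1 4 * swap 2 5 * yParam p} = 12 ∧
    Fintype.card {p // yParam p * (swap 0 3 * swap 1 4 * swap 2 5 * swap 6 7) =
      swap 0 3 * swap 1 4 * swap 2 5 * swap 6 7 * yParam p} = 12 ∧
    Fintype.card {p // Perm.sign (yParam p) = 1} = 18 := by decide +kernel

theorem triple_facts :
    (swap (0 : Fin 8) 3 * swap 1 4 * swap 2 5) *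
        ((swap 0 1 * swap 1 2) * (swap 3 4 * swap 4 5)) =
      (swap 0 1 * swap 1 2) * (swap 3 4 * swap 4 5) * (swap 0 3 * swap 1 4 * swap 2 5) ∧
    (swap (0 : Fin 8) 3 * swap 1 4 * swap 2 5 * swap 6 7) *
        ((swap 0 1 * swap 1 2) * (swap 3 4 * swap 4 5)) =
      (swap 0 1 * swap 1 2) * (swap 3 4 * swap 4 5) *
        (swap 0 3 * swap 1 4 * swap 2 5 * swap 6 7) := by decide +kernel

/-- `S₆ × S₂` inside `S₈`. -/
def sixTwo : Perm (Fin 6) × Perm (Fin 2) →* Perm (Fin 8) :=
  (finSumFinEquiv (m := 6) (n := 2)).permCongrHom.toMonoidHom.comp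
    (Perm.sumCongrHom (Fin 6) (Fin 2))

theorem sixTwo_inj : Function.Injective sixTwo :=
  (finSumFinEquiv (m := 6) (n := 2)).permCongrHom.injective.comp Perm.sumCongrHom_injective

theorem sixTwo_comm (x : Perm (Fin 6) × Perm (Fin 2)) :
    sixTwo x * swap 6 7 = swap 6 7 * sixTwo x := by
  have h : sixTwo (1, swap 0 1) = swap 6 7 := by decide +kernel
  have key : ∀ b : Perm (Fin 2), b * swap 0 1 = swap 0 1 * b := by decide +kernel
  rw [← h, ← map_mul, ← map_mul]
  exact congrArg sixTwo (Prod.ext (by simp) (key x.2))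

theorem involution_classes (σ : Perm (Fin 8)) (h2 : σ * σ = 1) (h1 : σ ≠ 1) :
    IsConj σ (swap 6 7) ∨ IsConj σ (swap 3 4 * swap 6 7) ∨
      IsConj σ (swap 0 3 * swap 1 4 * swap 2 5) ∨
      IsConj σ (swap 0 3 * swap 1 4 * swap 2 5 * swap 6 7) := by
  haveI : Fact (Nat.Prime 2) := ⟨Nat.prime_two⟩
  have ho : orderOf σ = 2 := orderOf_eq_prime (by rw [pow_two, h2]) h1
  obtain ⟨k, hk⟩ := Perm.cycleType_prime_order (σ := σ) (by rw [ho]; exact Nat.prime_two)
  rw [ho] at hk
  have hsum := Perm.sum_cycleType σ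
  have hle : σ.support.card ≤ 8 := (Finset.card_le_univ _).trans (by simp)
  rw [hk, Multiset.sum_replicate, smul_eq_mul] at hsum
  have hk4 : k ≤ 3 := by omega
  interval_cases k
  · left; rw [Perm.isConj_iff_cycleType_eq, hk]; decide +kernel
  · right; left; rw [Perm.isConj_iff_cycleType_eq, hk]; decide +kernel
  · right; right; left; rw [Perm.isConj_iff_cycleType_eq, hk]; decide +kernel
  · right; right; right; rw [Perm.isConj_iff_cycleType_eq, hk]; decide +kernel

end CfsgLib.SymEightLocal
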