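import Mathlib

/-!
Configurations in `S₆` of two commuting `S₃`s generated by `a, b` and `c, d`.
-/

set_option autoImplicit false

namespace CfsgLib.SymEightLocal

open Equiv

/-- The supports of the involutions of `S₆`. -/
def sixPairs : List (List (Fin 6 × Fin 6)) :=
  [
    [(0, 1)], [(0, 2)], [(0, 3)], [(0, 4)], [(0, 5)], [(1, 2)], [(1, 3)], [(1, 4)], [(1, 5)],
    [(2, 3)], [(2, 4)], [(2, 5)], [(3, 4)], [(3, 5)], [(4, 5)], [(0, 1), (2, 3)],
    [(0, 1), (2, 4)], [(0, 1), (2, 5)], [(0, 1), (3, 4)], [(0, 1), (3, 5)], [(0, 1), (4, 5)],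
    [(0, 2), (1, 3)], [(0, 2), (1, 4)], [(0, 2), (1, 5)], [(0, 2), (3, 4)], [(0, 2), (3, 5)],
    [(0, 2), (4, 5)], [(0, 3), (1, 2)], [(0, 3), (1, 4)], [(0, 3), (1, 5)], [(0, 3), (2, 4)],
    [(0, 3), (2, 5)], [(0, 3), (4, 5)], [(0, 4), (1, 2)], [(0, 4), (1, 3)], [(0, 4), (1, 5)],
    [(0, 4), (2, 3)], [(0, 4), (2, 5)], [(0, 4), (3, 5)], [(0, 5), (1, 2)], [(0, 5), (1, 3)],
    [(0, 5), (1, 4)], [(0, 5), (2, 3)], [(0, 5), (2, 4)], [(0, 5), (3, 4)], [(1, 2), (3, 4)],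
    [(1, 2), (3, 5)], [(1, 2), (4, 5)], [(1, 3), (2, 4)], [(1, 3), (2, 5)], [(1, 3), (4, 5)],
    [(1, 4), (2, 3)], [(1, 4), (2, 5)], [(1, 4), (3, 5)], [(1, 5), (2, 3)], [(1, 5), (2, 4)],
    [(1, 5), (3, 4)], [(2, 3), (4, 5)], [(2, 4), (3, 5)], [(2, 5), (3, 4)],
    [(0, 1), (2, 3), (4, 5)], [(0, 1), (2, 4), (3, 5)], [(0, 1), (2, 5), (3, 4)],
    [(0, 2), (1, 3), (4, 5)], [(0, 2), (1, 4), (3, 5)], [(0, 2), (1, 5), (3, 4)],
    [(0, 3), (1, 2), (4, 5)], [(0, 3), (1, 4), (2, 5)], [(0, 3), (1, 5), (2, 4)],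
    [(0, 4), (1, 2), (3, 5)], [(0, 4), (1, 3), (2, 5)], [(0, 4), (1, 5), (2, 3)],
    [(0, 5), (1, 2), (3, 4)], [(0, 5), (1, 3), (2, 4)], [(0, 5), (1, 4), (2, 3)]]

/-- The involutions of `S₆`. -/
def sixInv : List (Perm (Fin 6)) :=
  sixPairs.map fun l => (l.map fun p => swap p.1 p.2).prod

theorem mem_sixInv : ∀ a : Perm (Fin 6), a * a = 1 → a ≠ 1 → a ∈ sixInv := by decide +kernel

/-- Representatives of the three classes of involutions. -/
def sixReps : List (Perm (Fin 6)) :=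
  [swap 0 1, swap 0 1 * swap 2 3, swap 0 1 * swap 2 3 * swap 4 5]

theorem exists_sixRep (a : Perm (Fin 6)) (h2 : a * a = 1) (h1 : a ≠ 1) :
    ∃ b ∈ sixReps, ∃ g : Perm (Fin 6), g * a * g⁻¹ = b := by
  have : Fact (Nat.Prime 2) := ⟨Nat.prime_two⟩
  have ho : orderOf a = 2 := orderOf_eq_prime (by rw [pow_two, h2]) h1
  obtain ⟨k, hk⟩ := Perm.cycleType_prime_order (σ := a) (by rw [ho]; exact Nat.prime_two)
  rw [ho] at hk
  have hsum := Perm.sum_cycleType a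
  have hle : a.support.card ≤ 6 := (Finset.card_le_univ _).trans (by simp)
  rw [hk, Multiset.sum_replicate, smul_eq_mul] at hsum
  have hk2 : k ≤ 2 := by omega
  have conj : ∀ b ∈ sixReps, a.cycleType = b.cycleType →
      ∃ b ∈ sixReps, ∃ g : Perm (Fin 6), g * a * g⁻¹ = b := fun b hb e =>
    ⟨b, hb, isConj_iff.1 (Perm.isConj_iff_cycleType_eq.2 e)⟩
  interval_cases k
  · exact conj (swap 0 1) (by simp [sixReps]) (by rw [hk]; decide +kernel)
  · exact conj (swap 0 1 * swap 2 3) (by simp [sixReps]) (by rw [hk]; decide +kernel)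
  · exact conj (swap 0 1 * swap 2 3 * swap 4 5) (by simp [sixReps]) (by rw [hk]; decide +kernel)

/-- Two commuting `S₃`s with generators `a, b` and `c, d`, up to conjugation. -/
def sixStd : List (Perm (Fin 6) × Perm (Fin 6) × Perm (Fin 6) × Perm (Fin 6)) :=
  [(swap 0 1, swap 1 2, swap 4 5, swap 3 4),
    (swap 0 1 * swap 2 3 * swap 4 5, swap 0 2 * swap 1 4 * swap 3 5,
      swap 0 1 * swap 2 4 * swap 3 5, swap 0 2 * swap 1 3 * swap 4 5)]

/-- Conjugate to standard position. -/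
def StdConj (a b c d : Perm (Fin 6)) : Prop :=
  ∃ g : Perm (Fin 6), (g * a * g⁻¹, g * b * g⁻¹, g * c * g⁻¹, g * d * g⁻¹) ∈ sixStd

instance (a b c d : Perm (Fin 6)) : Decidable (StdConj a b c d) := by unfold StdConj; infer_instance

set_option synthInstance.maxSize 4096 in
theorem exists_sixStd_rep : ∀ a ∈ sixReps, ∀ b ∈ sixInv,
    a * b * (a * b) * (a * b) = 1 → a ≠ b → ∀ c ∈ sixInv, a * c = c * a → b * c = c * b →
    ∀ d ∈ sixInv, a * d = d * a → b * d = d * b → c * d * (c * d) * (c * d) = 1 → c ≠ d →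
      StdConj a b c d := by decide +kernel

theorem six_commute : ∀ e ∈ sixStd, ∀ p ∈ sixInv, p * e.1 = e.1 * p →
    p * e.2.1 * (p * e.2.1) * (p * e.2.1) = 1 → p * e.2.2.1 * (p * e.2.2.1) * (p * e.2.2.1) = 1 →
    p ≠ e.2.1 → p ≠ e.2.2.1 →
      p * e.2.2.2 = e.2.2.2 * p ∨
        e.2.2.1 * p * e.2.2.1 * e.2.2.2 = e.2.2.2 * (e.2.2.1 * p * e.2.2.1) := by
  decide +kernel

end CfsgLib.SymEightLocal

namespace CfsgLib.SymEightLocal

open Equiv

/-- A map onto `S₆` can be adjusted so that two commuting `S₃`s go to standard position. -/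
theorem exists_std_hom {C : Type*} [Group C] (f : C →* Perm (Fin 6)) (hsurj : Function.Surjective f)
    (a b c d : C) (ha : f a * f a = 1) (ha1 : f a ≠ 1) (hb : f b * f b = 1) (hb1 : f b ≠ 1)
    (hc : f c * f c = 1) (hc1 : f c ≠ 1) (hd : f d * f d = 1) (hd1 : f d ≠ 1)
    (hab : f (a * b * (a * b) * (a * b)) = 1) (habne : f a ≠ f b)
    (hac : f a * f c = f c * f a) (hbc : f b * f c = f c * f b)
    (had : f a * f d = f d * f a) (hbd : f b * f d = f d * f b)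
    (hcd : f (c * d * (c * d) * (c * d)) = 1) (hcdne : f c ≠ f d) :
    ∃ f' : C →* Perm (Fin 6), Function.Surjective f' ∧ (∀ x, f' x = 1 ↔ f x = 1) ∧
      (f' a, f' b, f' c, f' d) ∈ sixStd := by
  obtain ⟨r, hr, g₁, hg₁⟩ := exists_sixRep _ ha ha1
  let k : Perm (Fin 6) →* Perm (Fin 6) := (MulAut.conj g₁).toMonoidHom
  have hk : Function.Injective k := (MulAut.conj g₁).injective
  have kinv : ∀ x : Perm (Fin 6), x * x = 1 → x ≠ 1 → k x ∈ sixInv := fun x hx hx1 =>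
    mem_sixInv _ (by rw [← map_mul, hx, map_one]) fun e => hx1 (hk (e.trans k.map_one.symm))
  obtain ⟨g, hg⟩ := exists_sixStd_rep (k (f a)) (by
      show g₁ * f a * g₁⁻¹ ∈ sixReps
      rw [hg₁]; exact hr)
    (k (f b)) (kinv _ hb hb1)
    (by simp only [← map_mul] at hab ⊢; rw [hab, map_one]) (fun e => habne (hk e))
    (k (f c)) (kinv _ hc hc1) ((map_mul k _ _).symm.trans ((congrArg k hac).trans (map_mul k _ _))) ((map_mul k _ _).symm.trans ((congrArg k hbc).trans (map_mul k _ _)))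
    (k (f d)) (kinv _ hd hd1) ((map_mul k _ _).symm.trans ((congrArg k had).trans (map_mul k _ _))) ((map_mul k _ _).symm.trans ((congrArg k hbd).trans (map_mul k _ _)))
    (by simp only [← map_mul] at hcd ⊢; rw [hcd, map_one]) (fun e => hcdne (hk e))
  refine ⟨((MulAut.conj g).toMonoidHom.comp k).comp f,
    ((MulAut.conj g).surjective.comp (MulAut.conj g₁).surjective).comp hsurj, fun x => ?_, hg⟩
  show g * (g₁ * f x * g₁⁻¹) * g⁻¹ = 1 ↔ _
  rw [conj_eq_one_iff, conj_eq_one_iff]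

end CfsgLib.SymEightLocal
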