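import Cfsg.Agent.SymEightLocal.CentTau
import Cfsg.Agent.SymEightLocal.SixFacts
import Cfsg.Agent.SymEightLocal.EightFacts
import Cfsg.Agent.CoxeterSym.Basic

/-!
In the first case `G` contains a copy of `S₈` with the centralisers of `τ`, `z` and `z * w`.
-/

set_option autoImplicit false
set_option linter.style.haveILetI false

namespace CfsgLib.SymEightLocal

open Equiv
open CfsgLib.AltEightLocal (cyc tail turn)

variable {G : Type*} [Group G]

namespace Hyp

variable (h : Hyp G)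


theorem caseA_candidates [Finite G] (hA : h.CaseA) :
    ∃ p : G, p * p = 1 ∧ p ≠ 1 ∧ p * h.τ = h.τ * p ∧
      p * h.L.al (swap 0 1, 1) = h.L.al (swap 0 1, 1) * p ∧
      p * h.s * p = h.s * p * h.s ∧
      p * h.L.al (1, swap 0 1) * p = h.L.al (1, swap 0 1) * p * h.L.al (1, swap 0 1) ∧
      p * h.L.al (1, swap 1 2) = h.L.al (1, swap 1 2) * p ∧
      p * h.L.al (1, swap 2 3) = h.L.al (1, swap 2 3) * p := by
  classical
  obtain ⟨ρ, hρd⟩ : ∃ ρ : Perm (Fin 5),
      ρ * cyc * ρ⁻¹ = swap 2 3 * swap 3 4 ∧ ρ * tail * ρ⁻¹ = swap 0 1 ∧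
      ρ * AltEightLocal.flip * ρ⁻¹ = swap 3 4 := by decide +kernel
  obtain ⟨g, hg⟩ : ∃ g, h.L.al (1, ρ) = g := ⟨_, rfl⟩
  have hgz : g * h.z * g⁻¹ = h.z := by rw [← hg, h.L.comm_snd, mul_inv_cancel_right]
  obtain ⟨M', hM'⟩ : ∃ M' : Pair (g * h.w * g⁻¹), ∀ x, M'.al x = g * h.M.al x * g⁻¹ :=
    ⟨h.M.map g, fun _ => rfl⟩
  have hMcyc : M'.al (1, cyc) = h.z := by rw [hM', h.M_z, hgz]
  have hMflip : M'.al (1, AltEightLocal.flip) = h.s := by
    rw [hM', ← hA.1, Hyp.s, ← hg, ← h.L.fst_comm_snd, mul_inv_cancel_right]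
  have hMtail : M'.al (1, tail) = h.L.al (1, swap 0 1) := by
    rw [hM', h.τ_eq_M, τ, ← hg, map_conj]
    exact congrArg h.L.al (Prod.ext (by simp) hρd.2.1)
  have hMmir : M'.al (mir, 1) = h.τ := by
    rw [hM', show h.M.al (mir, 1) = h.r from rfl, hA.2, τ, ← hg, map_conj]
    exact congrArg h.L.al (Prod.ext (by simp) hρd.2.2)
  have hMrot : M'.al (rot, 1) = h.L.al (1, swap 2 3 * swap 3 4) := by
    rw [hM', h.M.al_rot, ← h.L_w, ← hg, map_conj]
    exact congrArg h.L.al (Prod.ext (by simp) hρd.1)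
  have h01 : M'.al (1, swap 0 1) = h.L.al (swap 0 1, 1) := by
    have e1 : ((1 : Perm (Fin 3)), (swap 0 1 : Perm (Fin 5))) =
        (1, cyc) * (1, cyc) * (1, AltEightLocal.flip) * ((1, cyc) * (1, cyc))⁻¹ := by decide +kernel
    have e2 : ((swap 0 1 : Perm (Fin 3)), (1 : Perm (Fin 5))) =
        (rot, 1) * (rot, 1) * (mir, 1) * ((rot, 1) * (rot, 1))⁻¹ := by decide +kernel
    rw [e1, e2]
    simp only [map_mul, map_inv, hMcyc, hMflip, h.L.al_rot, s]
  have h23 : h.L.al (1, swap 2 3) = M'.al (swap 0 2, 1) ∨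
      h.L.al (1, swap 2 3) = M'.al (swap 0 1, 1) := by
    have e2 : ((1 : Perm (Fin 3)), (swap 2 3 : Perm (Fin 5))) =
        (1, swap 2 3 * swap 3 4) * (1, swap 3 4) ∨
      ((1 : Perm (Fin 3)), (swap 2 3 : Perm (Fin 5))) =
        (1, swap 3 4) * (1, swap 2 3 * swap 3 4) := by decide +kernel
    have e3 : ((rot, 1) : Perm (Fin 3) × Perm (Fin 5)) * (mir, 1) = (swap 0 1, 1) ∧
      ((mir, 1) : Perm (Fin 3) × Perm (Fin 5)) * (rot, 1) = (swap 0 2, 1) := by decide +kernel
    rcases e2 with e | e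
    · right
      rw [← e3.1, map_mul, hMrot, hMmir, τ, e, map_mul]
      rfl
    · left
      rw [← e3.2, map_mul, hMrot, hMmir, τ, e, map_mul]
      rfl
  -- the properties shared by the two candidates
  have hcand : ∀ π : Perm (Fin 5), π = swap 2 3 ∨ π = swap 2 4 →
      M'.al (1, π) * M'.al (1, π) = 1 ∧ M'.al (1, π) ≠ 1 ∧
      M'.al (1, π) * h.τ = h.τ * M'.al (1, π) ∧
      M'.al (1, π) * h.L.al (swap 0 1, 1) = h.L.al (swap 0 1, 1) * M'.al (1, π) ∧
      M'.al (1, π) * h.s * M'.al (1, π) = h.s * M'.al (1, π) * h.s ∧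
      M'.al (1, π) * h.L.al (1, swap 0 1) * M'.al (1, π) =
        h.L.al (1, swap 0 1) * M'.al (1, π) * h.L.al (1, swap 0 1) ∧
      M'.al (1, π) * h.L.al (1, swap 2 3) = h.L.al (1, swap 2 3) * M'.al (1, π) := by
    intro π hπ
    have key : π * π = 1 ∧ π ≠ 1 ∧ π * swap 0 1 = swap 0 1 * π ∧
        π * AltEightLocal.flip * π = AltEightLocal.flip * π * AltEightLocal.flip ∧
        π * tail * π = tail * π * tail := by
      rcases hπ with rfl | rfl <;> decide +kernel
    refine ⟨?_, ?_, ?_, ?_, ?_, ?_, ?_⟩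
    · rw [← map_mul, ← map_one M'.al]
      exact congrArg M'.al (Prod.ext (by simp) key.1)
    · intro e
      exact key.2.1 (congrArg Prod.snd (M'.inj (e.trans M'.al.map_one.symm)))
    · rw [← hMmir]; exact (M'.fst_comm_snd mir π).symm
    · rw [← h01, ← map_mul, ← map_mul]
      exact congrArg M'.al (Prod.ext rfl key.2.2.1)
    · rw [← hMflip, ← map_mul, ← map_mul, ← map_mul, ← map_mul]
      exact congrArg M'.al (Prod.ext rfl key.2.2.2.1)
    · rw [← hMtail, ← map_mul, ← map_mul, ← map_mul, ← map_mul]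
      exact congrArg M'.al (Prod.ext rfl key.2.2.2.2)
    · rcases h23 with e | e <;> rw [e] <;> exact (M'.fst_comm_snd _ π).symm
  obtain ⟨p, hp⟩ : ∃ p, M'.al (1, swap 2 3) = p := ⟨_, rfl⟩
  obtain ⟨q, hq⟩ : ∃ q, M'.al (1, swap 2 4) = q := ⟨_, rfl⟩
  obtain ⟨hp2, hp1, hpτ, hpa, hps, hpc, hpe⟩ := hp ▸ hcand _ (Or.inl rfl)
  obtain ⟨hq2, hq1, hqτ, hqa, hqs, hqc, hqe⟩ := hq ▸ hcand _ (Or.inr rfl)
  have hqeq : q = h.L.al (1, swap 0 1) * p * h.L.al (1, swap 0 1) := by
    rw [← hq, ← hp, ← hMtail, ← map_mul, ← map_mul]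
    exact congrArg M'.al (by decide +kernel)
  -- `C(τ)/⟨τ⟩` is `S₆`
  have hzN : ∀ x : G, x ∈ Subgroup.normalizer (h.D : Set G) →
      x * h.z * x⁻¹ ∈ h.D := fun x hx => h.conj_mem hx h.z_mem
  rcases h.centralizer_τ_cases with hN | ⟨f, hfs, hfk⟩
  · exfalso
    have h1 := hzN p (hN p hpτ)
    obtain ⟨i, hi⟩ := h.exists_grid h1
    have h2 : M'.al (1, swap 2 3 * cyc * (swap 2 3)⁻¹) * M'.al (1, cyc) =
        M'.al (1, cyc) * M'.al (1, swap 2 3 * cyc * (swap 2 3)⁻¹) := by
      have e : M'.al (1, swap 2 3 * cyc * (swap 2 3)⁻¹) = p * h.z * p⁻¹ := by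
        rw [← hp, ← hMcyc, map_conj]
        exact congrArg M'.al (Prod.ext (by simp) rfl)
      rw [e, hMcyc, hi, h.L.grid_eq, h.L_w]
      exact (((Commute.refl h.z).pow_left _).mul_left
        ((show Commute h.w h.z from h.zw_comm.symm).pow_left _)).eq
    rw [map_comm_iff M'.al M'.inj] at h2
    have key : swap (2 : Fin 5) 3 * cyc * (swap 2 3)⁻¹ * cyc ≠
        cyc * (swap 2 3 * cyc * (swap 2 3)⁻¹) := by decide +kernel
    exact key (congrArg Prod.snd h2)
  obtain ⟨C, hC⟩ : ∃ C : Subgroup G, C = Subgroup.centralizer ({h.τ} : Set G) := ⟨_, rfl⟩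
  subst hC
  have mem : ∀ {x : G}, x * h.τ = h.τ * x →
      x ∈ Subgroup.centralizer ({h.τ} : Set G) := fun hx =>
    Subgroup.mem_centralizer_singleton_iff.2 hx
  have hLτ : ∀ (σ : Perm (Fin 3)) (π : Perm (Fin 5)), π * tail = tail * π →
      h.L.al (σ, π) * h.τ = h.τ * h.L.al (σ, π) := by
    intro σ π e
    rw [τ, ← map_mul, ← map_mul]
    exact congrArg h.L.al (Prod.ext (by simp) e)
  obtain ⟨c1, hc1⟩ : ∃ c : Subgroup.centralizer ({h.τ} : Set G),
      (c : G) = h.L.al (swap 0 1, 1) := ⟨⟨_, mem (hLτ _ 1 (by simp))⟩, rfl⟩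
  obtain ⟨c2, hc2⟩ : ∃ c : Subgroup.centralizer ({h.τ} : Set G),
      (c : G) = h.s := ⟨⟨_, mem (hLτ _ 1 (by simp))⟩, rfl⟩
  obtain ⟨c4, hc4⟩ : ∃ c : Subgroup.centralizer ({h.τ} : Set G),
      (c : G) = h.L.al (1, swap 0 1) := ⟨⟨_, mem (hLτ 1 _ (by decide +kernel))⟩, rfl⟩
  obtain ⟨c5, hc5⟩ : ∃ c : Subgroup.centralizer ({h.τ} : Set G),
      (c : G) = h.L.al (1, swap 1 2) := ⟨⟨_, mem (hLτ 1 _ (by decide +kernel))⟩, rfl⟩
  obtain ⟨cp, hcp⟩ : ∃ c : Subgroup.centralizer ({h.τ} : Set G), (c : G) = p :=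
    ⟨⟨p, mem hpτ⟩, rfl⟩
  have hne : ∀ x : Perm (Fin 3) × Perm (Fin 5), x ≠ 1 → x ≠ (1, tail) →
      ¬ (h.L.al x = 1 ∨ h.L.al x = h.τ) := by
    rintro x h1 h2 (e | e)
    · exact h1 (h.L.inj (e.trans h.L.al.map_one.symm))
    · exact h2 (h.L.inj e)
  have nec : ∀ c : Subgroup.centralizer ({h.τ} : Set G), (c : G) * (c : G) = 1 →
      ¬ ((c : G) = 1 ∨ (c : G) = h.τ) → f c * f c = 1 ∧ f c ≠ 1 := fun c hc hc1 =>
    ⟨by rw [← map_mul]; exact (hfk _).2 (Or.inl hc), fun e => hc1 ((hfk _).1 e)⟩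
  have neq : ∀ x y : Subgroup.centralizer ({h.τ} : Set G),
      ¬ ((x : G)⁻¹ * y = 1 ∨ (x : G)⁻¹ * y = h.τ) → f x ≠ f y := fun x y hxy e =>
    hxy (by
      have := (hfk (x⁻¹ * y)).1 (by rw [map_mul, map_inv, e, inv_mul_cancel])
      simpa using this)
  have g1 : ∀ (a b : Perm (Fin 3)) (c d : Perm (Fin 5)),
      h.L.al (a, c) * h.L.al (b, d) = h.L.al (a * b, c * d) := fun a b c d => by
    rw [← map_mul]; rfl
  have lift : ∀ x y : Subgroup.centralizer ({h.τ} : Set G), (x : G) = y → f x = f y :=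
    fun x y e => congrArg f (Subtype.ext e)
  obtain ⟨a1, b1⟩ := nec c1 (by rw [hc1, g1, ← map_one h.L.al]; exact congrArg h.L.al (by decide +kernel))
    (by rw [hc1]; exact hne _ (by decide +kernel) (by decide +kernel))
  obtain ⟨a2, b2⟩ := nec c2 (by rw [hc2, h.s_sq])
    (by rw [hc2]; exact hne _ (by decide +kernel) (by decide +kernel))
  obtain ⟨a4, b4⟩ := nec c4 (by rw [hc4, g1, ← map_one h.L.al]; exact congrArg h.L.al (by decide +kernel))
    (by rw [hc4]; exact hne _ (by decide +kernel) (by decide +kernel))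
  obtain ⟨a5, b5⟩ := nec c5 (by rw [hc5, g1, ← map_one h.L.al]; exact congrArg h.L.al (by decide +kernel))
    (by rw [hc5]; exact hne _ (by decide +kernel) (by decide +kernel))
  obtain ⟨f', -, hf'k, hstd⟩ := exists_std_hom f hfs c1 c2 c4 c5 a1 b1 a2 b2 a4 b4 a5 b5
    ((hfk _).2 (Or.inl (by
      push_cast
      rw [hc1, hc2, s, g1, g1, g1, ← map_one h.L.al]
      exact congrArg h.L.al (by decide +kernel))))
    (neq _ _ (by
      rw [hc1, hc2, s, ← map_inv, ← map_mul]
      exact hne _ (by decide +kernel) (by decide +kernel)))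
    (by rw [← map_mul, ← map_mul]; refine lift _ _ ?_; push_cast; rw [hc1, hc4, g1, g1]; simp)
    (by rw [← map_mul, ← map_mul]; refine lift _ _ ?_; push_cast; rw [hc2, hc4, s, g1, g1]; simp)
    (by rw [← map_mul, ← map_mul]; refine lift _ _ ?_; push_cast; rw [hc1, hc5, g1, g1]; simp)
    (by rw [← map_mul, ← map_mul]; refine lift _ _ ?_; push_cast; rw [hc2, hc5, s, g1, g1]; simp)
    ((hfk _).2 (Or.inl (by
      push_cast
      rw [hc4, hc5, g1, g1, g1, ← map_one h.L.al]
      exact congrArg h.L.al (by decide +kernel))))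
    (neq _ _ (by
      rw [hc4, hc5, ← map_inv, ← map_mul]
      exact hne _ (by decide +kernel) (by decide +kernel)))
  have hk' : ∀ x, f' x = 1 ↔ ((x : G) = 1 ∨ (x : G) = h.τ) := fun x => (hf'k x).trans (hfk x)
  have lift' : ∀ x y : Subgroup.centralizer ({h.τ} : Set G), (x : G) = y → f' x = f' y :=
    fun x y e => congrArg f' (Subtype.ext e)
  have neq' : ∀ x y : Subgroup.centralizer ({h.τ} : Set G),
      ¬ ((x : G)⁻¹ * y = 1 ∨ (x : G)⁻¹ * y = h.τ) → f' x ≠ f' y := fun x y hxy e =>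
    hxy (by
      have := (hk' (x⁻¹ * y)).1 (by rw [map_mul, map_inv, e, inv_mul_cancel])
      simpa using this)
  have cube : ∀ x y : G, x * x = 1 → y * y = 1 → x * y * x = y * x * y →
      x * y * (x * y) * (x * y) = 1 := fun x y hx hy e => by
    calc x * y * (x * y) * (x * y) = (x * y * x) * (y * x * y) := by group
      _ = (y * x * y) * (y * x * y) := by rw [e]
      _ = y * (x * (y * y) * x) * y := by group
      _ = 1 := by rw [hy, mul_one, hx, mul_one, hy]
  have hres := six_commute (f' c1, f' c2, f' c4, f' c5) hstd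
    (f' cp) (mem_sixInv _ (by rw [← map_mul, hk']; left; push_cast; rw [hcp, hp2])
      fun e => absurd ((hk' cp).1 e) (by
      rw [hcp]; rintro (e | e)
      · exact hp1 e
      · exfalso
        rw [← hp, ← hMmir] at e
        exact rot_facts.2.2.2.1 (congrArg Prod.fst (M'.inj e)).symm))
    (by rw [← map_mul, ← map_mul]; refine lift' _ _ ?_; push_cast; rw [hcp, hc1, hpa])
    (by
      rw [← map_mul, ← map_mul, ← map_mul, hk']; left
      push_cast
      rw [hcp, hc2]; exact cube _ _ hp2 h.s_sq hps)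
    (by
      rw [← map_mul, ← map_mul, ← map_mul, hk']; left
      push_cast
      rw [hcp, hc4]; exact cube _ _ hp2 (by
        rw [g1, ← map_one h.L.al]; exact congrArg h.L.al (by decide +kernel)) hpc)
    (neq' _ _ (by
      rw [hcp, hc2, ← hp, ← hMflip, ← map_inv, ← map_mul]
      rintro (e | e)
      · rw [← map_one M'.al] at e
        have := congrArg Prod.snd (M'.inj e)
        revert this; decide +kernel
      · rw [← hMmir] at e
        have := congrArg Prod.fst (M'.inj e)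
        revert this; decide +kernel))
    (neq' _ _ (by
      rw [hcp, hc4, ← hp, ← hMtail, ← map_inv, ← map_mul]
      rintro (e | e)
      · rw [← map_one M'.al] at e
        have := congrArg Prod.snd (M'.inj e)
        revert this; decide +kernel
      · rw [← hMmir] at e
        have := congrArg Prod.fst (M'.inj e)
        revert this; decide +kernel))
  -- commuting modulo `τ` is commuting
  have final : ∀ x : G, x * h.τ = h.τ * x → x * x = 1 →
      ∀ cx : Subgroup.centralizer ({h.τ} : Set G), (cx : G) = x →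
      f' cx * f' c5 = f' c5 * f' cx →
      x * h.L.al (1, swap 1 2) = h.L.al (1, swap 1 2) * x := by
    intro x hxτ hx2 cx hcx e
    have h1 : f' (c5⁻¹ * (cx * c5 * cx⁻¹)) = 1 := by
      simp only [map_mul, map_inv]
      rw [e, mul_inv_cancel_right, inv_mul_cancel]
    rcases (hk' _).1 h1 with e' | e' <;> push_cast at e' <;> rw [hc5, hcx] at e'
    · exact mul_inv_eq_iff_eq_mul.1 (inv_mul_eq_one.1 e').symm
    · exfalso
      rw [inv_mul_eq_iff_eq_mul, τ, g1, one_mul, show swap (1 : Fin 5) 2 * tail = turn from rfl] at e'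
      obtain ⟨ρ', hρ'⟩ : ∃ ρ' : Perm (Fin 5), ρ' * tail * ρ'⁻¹ = swap 1 2 :=
        ⟨cross, by decide +kernel⟩
      refine h.L_turn_ne_conj (x * h.L.al (1, ρ')) ?_
      rw [← e', τ, show ((1 : Perm (Fin 3)), (swap 1 2 : Perm (Fin 5))) =
        (1, ρ') * (1, tail) * (1, ρ')⁻¹ from Prod.ext (by simp) hρ'.symm, ← map_conj]
      group
  rcases hres with e | e
  · exact ⟨p, hp2, hp1, hpτ, hpa, hps, hpc, final p hpτ hp2 cp hcp e, hpe⟩
  · refine ⟨q, hq2, hq1, hqτ, hqa, hqs, hqc, ?_, hqe⟩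
    refine final q hqτ hq2 (c4 * cp * c4) (by push_cast; rw [hc4, hcp, hqeq]) ?_
    simpa [map_mul] using e

/-- The copy of `S₈`. -/
theorem exists_eight [Finite G] (hA : h.CaseA) :
    ∃ φ : Perm (Fin 8) →* G, Function.Injective φ ∧
      ∀ x : Perm (Fin 3) × Perm (Fin 5), φ (emb x) = h.L.al x := by
  obtain ⟨p, hp2, -, hpτ, hpa, hps, hpc, hp5, hp6⟩ := h.caseA_candidates hA
  have g1 : ∀ (a b : Perm (Fin 3)) (c d : Perm (Fin 5)),
      h.L.al (a, c) * h.L.al (b, d) = h.L.al (a * b, c * d) := fun a b c d => by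
    rw [← map_mul]; rfl
  let gens : List G := [h.L.al (swap 0 1, 1), h.s, p, h.L.al (1, swap 0 1), h.L.al (1, swap 1 2),
    h.L.al (1, swap 2 3), h.L.al (1, swap 3 4)]
  let t : ℕ → G := fun i => gens.getD i 1
  have hsq : ∀ (σ : Perm (Fin 3)) (π : Perm (Fin 5)), σ * σ = 1 → π * π = 1 →
      h.L.al (σ, π) * h.L.al (σ, π) = 1 := fun σ π e e' => by
    rw [g1, e, e', ← map_one h.L.al]; rfl
  have hgens : CoxeterSym.IsSymGens 7 t := by
    constructor
    · intro i hi
      interval_cases i <;> simp only [t, gens, List.getD_cons_zero, List.getD_cons_succ]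
      all_goals first
        | exact hp2
        | exact h.s_sq
        | exact hsq _ _ (by decide +kernel) (by decide +kernel)
    · intro i hi
      have hi' : i < 6 := by omega
      interval_cases i <;> simp only [t, gens, List.getD_cons_zero, List.getD_cons_succ]
      all_goals first
        | exact hps.symm
        | exact hpc
        | (rw [s]; simp only [g1]; exact congrArg h.L.al (by decide +kernel))
        | (simp only [g1]; exact congrArg h.L.al (by decide +kernel))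
    · intro i j hij hj
      have hi : i < 5 := by omega
      interval_cases i <;> interval_cases j <;>
        simp only [t, gens, List.getD_cons_zero, List.getD_cons_succ]
      all_goals first
        | exact hpa.symm
        | exact hp5
        | exact hp6
        | exact hpτ
        | (rw [s]; simp only [g1]; exact congrArg h.L.al (by decide +kernel))
        | (simp only [g1]; exact congrArg h.L.al (by decide +kernel))
  obtain ⟨φ, hφ⟩ := CoxeterSym.exists_hom hgens
  have hcomp : φ.comp emb = h.L.al := by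
    have e1 : (φ.comp emb).comp (MonoidHom.inl _ _) = h.L.al.comp (MonoidHom.inl _ _) := by
      refine MonoidHom.eq_of_eqOn_denseM (Perm.mclosure_swap_castSucc_succ 2) ?_
      rintro _ ⟨i, rfl⟩
      fin_cases i
      · exact (congrArg φ emb_facts.1).trans (hφ 0)
      · exact (congrArg φ emb_facts.2.1).trans (hφ 1)
    have e2 : (φ.comp emb).comp (MonoidHom.inr _ _) = h.L.al.comp (MonoidHom.inr _ _) := by
      refine MonoidHom.eq_of_eqOn_denseM (Perm.mclosure_swap_castSucc_succ 4) ?_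
      rintro _ ⟨i, rfl⟩
      fin_cases i
      · exact (congrArg φ emb_facts.2.2.1).trans (hφ 3)
      · exact (congrArg φ emb_facts.2.2.2.1).trans (hφ 4)
      · exact (congrArg φ emb_facts.2.2.2.2.1).trans (hφ 5)
      · exact (congrArg φ emb_facts.2.2.2.2.2).trans (hφ 6)
    refine MonoidHom.ext fun x => ?_
    have hx : x = MonoidHom.inl _ _ x.1 * MonoidHom.inr _ _ x.2 :=
      Prod.ext (by simp) (by simp)
    rw [hx, map_mul, map_mul]
    exact congrArg₂ (· * ·) (DFunLike.congr_fun e1 x.1) (DFunLike.congr_fun e2 x.2)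
  have hxe : ∀ x, φ (emb x) = h.L.al x := fun x => DFunLike.congr_fun hcomp x
  refine ⟨φ, (injective_iff_map_eq_one φ).2 fun σ hσ => ?_, hxe⟩
  by_contra hne
  have hker : φ.ker ≠ ⊥ := fun e => hne (Subgroup.mem_bot.1 (e ▸ (hσ : σ ∈ φ.ker)))
  have hle := Equiv.Perm.alternatingGroup_le_of_normal (N := φ.ker) (by simp) ((Subgroup.nontrivial_iff_ne_bot _).2 hker)
  have hr : emb (rot, 1) ∈ φ.ker := hle (Perm.mem_alternatingGroup.2 (by
    rw [sign_emb]; decide +kernel))
  rw [MonoidHom.mem_ker, hxe, h.L.al_rot] at hr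
  exact h.L.ne hr

end Hyp

end CfsgLib.SymEightLocal
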