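import Cfsg.Agent.SymEightLocal.Square

/-!
The centraliser of `s * r` fixes or exchanges `s` and `r`.
-/

set_option autoImplicit false
set_option linter.style.haveILetI false

namespace CfsgLib.SymEightLocal

open Equiv
open CfsgLib.AltEightLocal (cyc tail turn)

variable {G : Type*} [Group G]

theorem turn_cent_three : ∀ σ : Perm (Fin 5), σ * turn = turn * σ → σ * σ * σ = 1 → σ = 1 := by
  decide +kernel

theorem commute_of_dvd_card {x : G} {n : ℕ} (H : Subgroup G) (hx : ∀ q ∈ H, q * x = x * q)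
    (hH : Nat.card H = n) : n ∣ Nat.card (Subgroup.centralizer ({x} : Set G)) :=
  hH ▸ Subgroup.card_dvd_of_le fun q hq => Subgroup.mem_centralizer_singleton_iff.2 (hx q hq)

namespace Hyp.Twinned

variable {h : Hyp G} (d : h.Twinned)
include d

theorem card_cent_s [Finite G] :
    Nat.card (Subgroup.centralizer ({h.s} : Set G)) = 480 := by
  rw [← card_twin_turn]
  refine (Nat.card_congr (Equiv.ofBijective
    (fun x : {x : Twin // x.1.1 * turn = turn * x.1.1} =>
      (⟨d.Φ x.1, Subgroup.mem_centralizer_singleton_iff.2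
        ((d.mem_cent_s (mem_twin.1 x.1.2)).2 x.2)⟩ :
        Subgroup.centralizer ({h.s} : Set G))) ⟨?_, ?_⟩)).symm
  · exact fun a b e => Subtype.ext (d.inj (congrArg Subtype.val e))
  · rintro ⟨g, hg⟩
    obtain ⟨x, rfl⟩ := d.centralizer_s_le hg
    exact ⟨⟨x, (d.mem_cent_s (σ := x.1.1) (π := x.1.2) (mem_twin.1 x.2)).1
      (Subgroup.mem_centralizer_singleton_iff.1 hg)⟩, rfl⟩

theorem sr_ne_conj_s [Finite G] (k : G) : k * h.s * k⁻¹ ≠ h.s * h.r := by
  intro e
  have h1 := d.sixtyfour_dvd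
  rw [← e, AltEightLocal.card_centralizer_conj, d.card_cent_s] at h1
  omega

/-- A pair with both entries nontrivial involutions is not conjugate to `s`. -/
theorem mixed_ne_conj [Finite G] {σ π : Perm (Fin 5)} (e : Perm.sign σ = Perm.sign π)
    (hσ : InFour σ) (hπ : InFour π) (hσ1 : σ ≠ 1) (hπ1 : π ≠ 1) (k : G) :
    k * h.s * k⁻¹ ≠ d.el σ π e := by
  intro hk
  obtain ⟨s1, -, s3⟩ := inFour_facts σ hσ
  obtain ⟨p1, -, p3⟩ := inFour_facts π hπ
  obtain ⟨ρ, hρ, hc⟩ := AltEightLocal.even_involution σ s1 s3 hσ1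
  obtain ⟨ρ', hρ', hc'⟩ := AltEightLocal.even_involution π p1 p3 hπ1
  obtain ⟨u, hu⟩ : ∃ u, u = d.el ρ ρ' (hρ.trans hρ'.symm) := ⟨_, rfl⟩
  refine d.sr_ne_conj_s (u⁻¹ * k) ?_
  have e' : d.el σ π e = u * (h.s * h.r) * u⁻¹ := by
    rw [hu, d.sr_el, d.el_conj]
    exact d.el_congr _ hc.symm hc'.symm
  calc u⁻¹ * k * h.s * (u⁻¹ * k)⁻¹ = u⁻¹ * (k * h.s * k⁻¹) * u := by group
    _ = _ := by rw [hk, e']; group

/-- No element exchanging `s` and `r` is conjugate to `s`. -/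
theorem swap_ne_conj [Finite G] {x : G} (hx : x * h.s * x⁻¹ = h.r) (hx2 : x * x = 1) (k : G) :
    k * h.s * k⁻¹ ≠ x := by
  intro hk
  obtain ⟨m, -, hms, -, hmM, -⟩ := d.exists_swap_factors
  have hu : m⁻¹ * x * h.s = h.s * (m⁻¹ * x) := mul_inv_eq_iff_eq_mul.1 (by
    calc m⁻¹ * x * h.s * (m⁻¹ * x)⁻¹ = m⁻¹ * (x * h.s * x⁻¹) * m := by group
      _ = _ := by rw [hx, ← hms]; group)
  obtain ⟨α, β, e, hαβ⟩ :=
    d.exists_el (d.centralizer_s_le (Subgroup.mem_centralizer_singleton_iff.2 hu))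
  -- the image of `z` lies in the other factor
  obtain ⟨γ, hγ, hxz⟩ : ∃ γ, Perm.sign γ = 1 ∧ x * h.z * x⁻¹ = h.L.al (1, γ) := by
    obtain ⟨γ, hγ, he⟩ := hmM (α * cyc * α⁻¹) (by simp [five_signs.1])
    refine ⟨γ, hγ, ?_⟩
    rw [← he, show x = m * (m⁻¹ * x) by group, hαβ]
    have e1 : d.el α β e * h.z * (d.el α β e)⁻¹ = h.M.al (1, α * cyc * α⁻¹) := by
      rw [d.z_el, d.el_conj, ← d.el_M_even (σ := α * cyc * α⁻¹) (by simp [five_signs.1])]
      exact d.el_congr _ rfl (by simp)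
    rw [← e1]; group
  have hγ3 : γ * γ * γ = 1 := by
    have e3 : x * h.z * x⁻¹ * (x * h.z * x⁻¹) * (x * h.z * x⁻¹) = 1 := by
      rw [show x * h.z * x⁻¹ * (x * h.z * x⁻¹) * (x * h.z * x⁻¹) =
        x * (h.z * h.z * h.z) * x⁻¹ by group, h.L.cube]
      group
    rw [hxz, ← map_mul, ← map_mul, ← map_one h.L.al] at e3
    exact congrArg Prod.snd (h.L.inj e3)
  have hγ1 : γ ≠ 1 := by
    intro e1
    rw [e1, show ((1 : Perm (Fin 3)), (1 : Perm (Fin 5))) = 1 from rfl, map_one,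
      conj_eq_one_iff] at hxz
    exact h.L.ne hxz
  obtain ⟨ρ, hρ⟩ := five_three_cycle γ hγ3 hγ1
  obtain ⟨y, hy⟩ : ∃ y, y = h.z * h.L.al (1, γ) := ⟨_, rfl⟩
  -- `y` is conjugate to `z * w`
  obtain ⟨u, huy⟩ : ∃ u : G, u * (h.z * h.w) * u⁻¹ = y := by
    refine ⟨d.el (tailOf ρ) ρ (tailOf_sign ρ), ?_⟩
    rw [hy, ← d.el_L_even hγ, d.z_el, d.w_el, d.el_mul (σ := cyc) (π := 1) (σ' := 1) (π' := cyc),
      d.el_conj, d.el_mul]
    refine d.el_congr _ ?_ (by rw [one_mul, one_mul, hρ])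
    rw [mul_one]
    rcases tailOf_cases ρ with e' | e' <;> rw [e']
    · simp
    · rw [five_facts.2.2.2.2.2.2.2.1, mul_inv_cancel_right]
  have hzγ : h.L.al (1, γ) * h.z = h.z * h.L.al (1, γ) := h.L.comm_snd γ
  have hxy : x * y * x⁻¹ = y := by
    have e2 : x * h.L.al (1, γ) * x⁻¹ = h.z := by
      rw [← hxz, inv_of_sq hx2]
      calc x * (x * h.z * x) * x = (x * x) * h.z * (x * x) := by group
        _ = _ := by rw [hx2, one_mul, mul_one]
    calc x * y * x⁻¹ = (x * h.z * x⁻¹) * (x * h.L.al (1, γ) * x⁻¹) := by rw [hy]; group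
      _ = _ := by rw [hxz, e2, hzγ, hy]
  -- so `y` is conjugate into `C(s)`
  have hcs : k⁻¹ * y * k * h.s = h.s * (k⁻¹ * y * k) := by
    have e1 : x * y = y * x := mul_inv_eq_iff_eq_mul.1 hxy
    rw [← hk] at e1
    calc k⁻¹ * y * k * h.s = k⁻¹ * (y * (k * h.s * k⁻¹)) * k := by group
      _ = _ := by rw [← e1]; group
  obtain ⟨σ, π, e', hσπ⟩ :=
    d.exists_el (d.centralizer_s_le (Subgroup.mem_centralizer_singleton_iff.2 hcs))
  have hy3 : y * y * y = 1 := by
    have hzw : h.z * h.w * (h.z * h.w) * (h.z * h.w) = 1 := by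
      have hc : Commute h.z h.w := h.zw_comm
      have hz3 : h.z * h.z * h.z = 1 := h.L.cube
      rw [← pow_three', hc.mul_pow, pow_three', pow_three', hz3, h.w_cube, one_mul]
    rw [← huy, show u * (h.z * h.w) * u⁻¹ * (u * (h.z * h.w) * u⁻¹) * (u * (h.z * h.w) * u⁻¹) =
      u * (h.z * h.w * (h.z * h.w) * (h.z * h.w)) * u⁻¹ by group, hzw]
    group
  have hy1 : y ≠ 1 := by
    intro e1
    rw [hy, ← d.el_L_even hγ, d.z_el, d.el_mul, ← d.el_one] at e1
    exact five_facts.2.1 ((mul_one cyc).symm.trans (d.el_inj e1).1)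
  have hk3 : d.el σ π e' * d.el σ π e' * d.el σ π e' = 1 := by
    rw [← hσπ, show k⁻¹ * y * k * (k⁻¹ * y * k) * (k⁻¹ * y * k) = k⁻¹ * (y * y * y) * k by group,
      hy3]
    group
  rw [d.el_mul, d.el_mul, ← d.el_one] at hk3
  obtain ⟨hσ3, hπ3⟩ := d.el_inj hk3
  rw [hσπ, d.mem_cent_s] at hcs
  obtain rfl := turn_cent_three σ hcs hσ3
  have hπ1 : π ≠ 1 := fun e1 => hy1 (by
    calc y = k * (k⁻¹ * y * k) * k⁻¹ := by group
      _ = 1 := by
        rw [hσπ, (d.el_congr e' rfl e1).trans d.el_one]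
        group)
  obtain ⟨ρ', hρ'⟩ := five_three_cycle π hπ3 hπ1
  have hw : d.el 1 π e' = d.el (tailOf ρ') ρ' (tailOf_sign ρ') * h.w *
      (d.el (tailOf ρ') ρ' (tailOf_sign ρ'))⁻¹ := by
    rw [d.w_el, d.el_conj]
    exact d.el_congr _ (by simp) hρ'.symm
  obtain ⟨v, hv⟩ : ∃ v, v = k * d.el (tailOf ρ') ρ' (tailOf_sign ρ') * h.n := ⟨_, rfl⟩
  have hvy : v * h.z * v⁻¹ = y := by
    rw [hv]
    calc k * d.el (tailOf ρ') ρ' (tailOf_sign ρ') * h.n * h.z *
          (k * d.el (tailOf ρ') ρ' (tailOf_sign ρ') * h.n)⁻¹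
        = k * (d.el (tailOf ρ') ρ' (tailOf_sign ρ') * (h.n * h.z * h.n⁻¹) *
            (d.el (tailOf ρ') ρ' (tailOf_sign ρ'))⁻¹) * k⁻¹ := by group
      _ = k * (k⁻¹ * y * k) * k⁻¹ := by rw [h.n_z, ← hw, hσπ]
      _ = y := by group
  -- but the orders of the centralisers differ
  have hcard : Nat.card (Subgroup.centralizer ({h.z} : Set G)) = 36 := by
    rw [← AltEightLocal.card_centralizer_conj v, hvy, ← huy, AltEightLocal.card_centralizer_conj,
      h.cy]
  have h5 := commute_of_dvd_card (x := h.z)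
    ((h.L.al.comp (MonoidHom.inr (Perm (Fin 3)) (Perm (Fin 5)))).range)
    (by rintro _ ⟨τ, rfl⟩; exact h.L.comm_snd τ) (n := 120) (by
      rw [← Nat.card_congr (MonoidHom.ofInjective (f :=
        h.L.al.comp (MonoidHom.inr (Perm (Fin 3)) (Perm (Fin 5))))
        (fun a b e => congrArg Prod.snd (h.L.inj e))).toEquiv, Nat.card_perm, Nat.card_fin]
      rfl)
  rw [hcard] at h5
  omega

/-- The centraliser of `s * r` permutes `s` and `r`. -/
theorem cent_sr [Finite G] {g₀ : G} (hg₀ : g₀ * (h.s * h.r) = h.s * h.r * g₀) :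
    g₀ * h.s * g₀⁻¹ = h.s ∨ g₀ * h.s * g₀⁻¹ = h.r := by
  classical
  obtain ⟨e₀, he₀⟩ : ∃ e, e = h.s * h.r := ⟨_, rfl⟩
  have hsr : Commute h.s h.r := d.hB.s_r
  have hee : e₀ * e₀ = 1 := by
    rw [he₀, ← mul_assoc, mul_assoc h.s h.r h.s, ← hsr.eq, ← mul_assoc, h.s_sq, one_mul, h.r_sq]
  have hse : h.s * e₀ = h.r := by rw [he₀, ← mul_assoc, h.s_sq, one_mul]
  have hre : h.r * e₀ = h.s := by rw [he₀, hsr.eq, ← mul_assoc, h.r_sq, one_mul]
  rw [← he₀] at hg₀
  obtain ⟨C, hC⟩ : ∃ C : Subgroup G, C = Subgroup.centralizer ({e₀} : Set G) := ⟨_, rfl⟩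
  have hCmem : ∀ g, g ∈ C ↔ g * e₀ = e₀ * g := fun g => by
    rw [hC, Subgroup.mem_centralizer_singleton_iff]
  obtain ⟨sc, hsc⟩ : ∃ x : C, (x : G) = h.s := ⟨⟨h.s, (hCmem _).2 (by
    rw [he₀]; exact ((Commute.refl h.s).mul_right hsr).eq)⟩, rfl⟩
  obtain ⟨ec, hec⟩ : ∃ x : C, (x : G) = e₀ := ⟨⟨e₀, (hCmem _).2 rfl⟩, rfl⟩
  have he2 : ∀ g : C, g ∈ Subgroup.zpowers ec ↔ ((g : G) = 1 ∨ (g : G) = e₀) := by
    intro g
    constructor
    · rintro ⟨k, rfl⟩
      show ((ec ^ k : C) : G) = 1 ∨ _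
      rw [Subgroup.coe_zpow, hec]
      have h2 : e₀ ^ (2 : ℤ) = 1 := by rw [zpow_two, hee]
      rcases Int.even_or_odd k with ⟨j, rfl⟩ | ⟨j, rfl⟩
      · left; rw [← two_mul, zpow_mul, h2, one_zpow]
      · right; rw [zpow_add, zpow_mul, h2, one_zpow, one_mul, zpow_one]
    · rintro (e | e)
      · rw [show g = 1 from Subtype.ext e]; exact one_mem _
      · rw [show g = ec from Subtype.ext (e.trans hec.symm)]; exact Subgroup.mem_zpowers ec
  haveI : (Subgroup.zpowers ec).Normal := ⟨fun a ha g => by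
    obtain ⟨k, rfl⟩ := ha
    have hc : Commute g ec := Subtype.ext (by
      show (g : G) * (ec : G) = (ec : G) * (g : G)
      rw [hec]; exact (hCmem _).1 g.2)
    rw [(hc.zpow_right k).eq, mul_inv_cancel_right]
    exact ⟨k, rfl⟩⟩
  obtain ⟨f, hf⟩ : ∃ f : C →* C ⧸ Subgroup.zpowers ec, f = QuotientGroup.mk' _ := ⟨_, rfl⟩
  have hfs : Function.Surjective f := hf ▸ QuotientGroup.mk'_surjective _
  have hfk : ∀ g, f g = 1 ↔ ((g : G) = 1 ∨ (g : G) = e₀) := fun g => by
    rw [hf, QuotientGroup.mk'_apply, QuotientGroup.eq_one_iff, he2]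
  have hfeq : ∀ u v : C, f u = f v → (u : G) = v ∨ (u : G) = v * e₀ := by
    intro u v e
    refine ((hfk (v⁻¹ * u)).1 (by rw [map_mul, map_inv, e, inv_mul_cancel])).imp
      (fun e' => ?_) (fun e' => ?_) <;> push_cast at e'
    · exact (inv_mul_eq_one.1 e').symm
    · exact inv_mul_eq_iff_eq_mul.1 e'
  have hs1 : h.s ≠ 1 := fun e => rot_facts.2.2.2.1
    (congrArg Prod.fst (h.L.inj (e.trans h.L.al.map_one.symm)))
  have hne : h.s ≠ e₀ := by
    intro e
    rw [he₀, left_eq_mul] at e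
    exact rot_facts.2.2.2.1 (congrArg Prod.fst (h.M.inj (e.trans h.M.al.map_one.symm)))
  have hfs1 : f sc ≠ 1 := fun e => by
    rcases (hfk _).1 e with e' | e' <;> rw [hsc] at e'
    exacts [hs1 e', hne e']
  have hfs2 : f sc * f sc = 1 := by
    rw [← map_mul, hfk]; left; push_cast; rw [hsc, h.s_sq]
  -- `s` is isolated modulo `s * r`
  have hiso : Cfsg.IsIsolatedInvolution (f sc) := by
    haveI : Fact (Nat.Prime 2) := ⟨Nat.prime_two⟩
    refine ⟨orderOf_eq_prime (by rw [pow_two, hfs2]) hfs1, fun q hq => ?_⟩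
    obtain ⟨g, rfl⟩ := hfs q
    obtain ⟨x, hxdef⟩ : ∃ x : G, x = (g : G) * h.s * (g : G)⁻¹ := ⟨_, rfl⟩
    have hxe : Commute x e₀ := by
      have hg : Commute (g : G) e₀ := (hCmem _).1 g.2
      have hs' : Commute h.s e₀ := he₀ ▸ (Commute.refl h.s).mul_right hsr
      exact hxdef ▸ (hg.mul_left hs').mul_left hg.inv_left
    have hx2 : x * x = 1 := by
      rw [hxdef, show (g : G) * h.s * (g : G)⁻¹ * ((g : G) * h.s * (g : G)⁻¹) =
        (g : G) * (h.s * h.s) * (g : G)⁻¹ by group, h.s_sq]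
      group
    have hx1 : x ≠ 1 := fun e => hs1 (conj_eq_one_iff.1 (hxdef.symm.trans e))
    suffices x = h.s ∨ x = h.r by
      rw [← map_inv, ← map_mul, ← map_mul]
      rcases this with e | e
      · exact congrArg f (Subtype.ext (by push_cast; rw [hsc, ← hxdef, e]))
      · rw [show g * sc * g⁻¹ = sc * ec from Subtype.ext (by
          push_cast; rw [hsc, hec, ← hxdef, e, hse]), map_mul, (hfk ec).2 (Or.inr hec), mul_one]
    have hxc : x * h.s = h.s * x ∨ x * h.s * x⁻¹ = h.r := by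
      rw [← map_inv, ← map_mul, ← map_mul] at hq
      have hq' := hq.eq
      rw [← map_mul, ← map_mul] at hq'
      rcases hfeq _ _ hq' with e | e <;> push_cast at e <;> rw [hsc, ← hxdef] at e
      · exact Or.inl e.symm
      · right
        rw [inv_of_sq hx2]
        calc x * h.s * x = x * (h.s * x) := mul_assoc _ _ _
          _ = x * (x * h.s * e₀) := by rw [e]
          _ = (x * x) * (h.s * e₀) := by group
          _ = h.r := by rw [hx2, hse, one_mul]
    rcases hxc with hc | hc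
    swap
    · exact absurd hxdef.symm (d.swap_ne_conj hc hx2 (g : G))
    obtain ⟨σ, π, e, hxel⟩ :=
      d.exists_el (d.centralizer_s_le (Subgroup.mem_centralizer_singleton_iff.2 hc))
    have hσ : σ * turn = turn * σ := (d.mem_cent_s e).1 (hxel ▸ hc)
    have hπ : π * turn = turn * π := by
      have h' := hxe.eq
      rw [hxel, he₀, d.sr_el, d.el_mul, d.el_mul] at h'
      exact (d.el_inj h').2
    have hsq : σ * σ = 1 ∧ π * π = 1 := by
      have h' := hx2
      rw [hxel, d.el_mul, ← d.el_one] at h'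
      exact d.el_inj h'
    have heven : Perm.sign σ = 1 := by
      rcases Int.units_eq_one_or (Perm.sign σ) with hs | hs
      · exact hs
      exfalso
      rcases d.involution_cases e hσ (hxel ▸ hx2) (hxel ▸ hx1) with
        ⟨-, ρ, ρ', -, he, hk⟩ | ⟨hs', -⟩
      · refine h.M_turn_ne_conj ((g : G)⁻¹ * d.el ρ ρ' he) ?_
        rw [← d.hB.1]
        calc (g : G)⁻¹ * d.el ρ ρ' he * h.τ * ((g : G)⁻¹ * d.el ρ ρ' he)⁻¹
            = (g : G)⁻¹ * (d.el ρ ρ' he * h.τ * (d.el ρ ρ' he)⁻¹) * g := by group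
          _ = (g : G)⁻¹ * x * g := by rw [← hk, hxel]
          _ = _ := by rw [hxdef]; group
      · rw [hs] at hs'; exact absurd hs' (by decide)
    have h4 : InFour σ ∧ InFour π := ⟨(turn_centralizer σ hσ hsq.1).1 heven,
      (turn_centralizer π hπ hsq.2).1 (e.symm.trans heven)⟩
    -- its partner
    have hgr : (g : G) * h.r * (g : G)⁻¹ = x * e₀ := by
      have hg : Commute (g : G) e₀ := (hCmem _).1 g.2
      rw [← hse, hxdef, show (g : G) * (h.s * e₀) * (g : G)⁻¹ =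
        (g : G) * h.s * (e₀ * (g : G)⁻¹) by group, ← hg.inv_left.eq]
      group
    obtain ⟨mm, hms, -⟩ := d.exists_swap
    have hne' : ∀ {σ' π' : Perm (Fin 5)} (e' : Perm.sign σ' = Perm.sign π'), InFour σ' →
        InFour π' → σ' ≠ 1 → π' ≠ 1 → x * e₀ ≠ d.el σ' π' e' := by
      intro σ' π' e' h1 h2 h3 h4 hxx
      refine d.mixed_ne_conj e' h1 h2 h3 h4 ((g : G) * mm) ?_
      rw [← hxx, ← hgr, ← hms]; group
    by_cases hσ1 : σ = 1
    · right
      have hπ1 : π ≠ 1 := fun e1 => hx1 (by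
        rw [hxel]; exact (d.el_congr e hσ1 e1).trans d.el_one)
      by_cases hπt : π = turn
      · rw [hxel, d.r_el]; exact d.el_congr _ hσ1 hπt
      exfalso
      refine hne' (σ' := σ * turn) (π' := π * turn) (by simp [e]) (inFour_mul _ _ h4.1
        (Or.inr (Or.inl rfl))) (inFour_mul _ _ h4.2 (Or.inr (Or.inl rfl)))
        (by rw [hσ1, one_mul]; exact five_facts.2.2.2.2.2.2.2.2.2.2.1)
        (fun e1 => hπt (by rw [← inv_of_sq hsq.2]; exact inv_eq_of_mul_eq_one_right e1)) ?_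
      rw [hxel, he₀, d.sr_el, d.el_mul]
    · left
      by_cases hπ1 : π = 1
      · by_cases hσt : σ = turn
        · rw [hxel, d.s_el]; exact d.el_congr _ hσt hπ1
        exfalso
        refine hne' (σ' := σ * turn) (π' := π * turn) (by simp [e]) (inFour_mul _ _ h4.1
          (Or.inr (Or.inl rfl))) (inFour_mul _ _ h4.2 (Or.inr (Or.inl rfl)))
          (fun e1 => hσt (by rw [← inv_of_sq hsq.1]; exact inv_eq_of_mul_eq_one_right e1))
          (by rw [hπ1, one_mul]; exact five_facts.2.2.2.2.2.2.2.2.2.2.1) ?_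
        rw [hxel, he₀, d.sr_el, d.el_mul]
      · exact absurd (hxdef.symm.trans hxel) (d.mixed_ne_conj e h4.1 h4.2 hσ1 hπ1 g)
  obtain ⟨N, hN, hNodd, hNc⟩ := ZStar.exists_oddNormal hiso
  haveI := hN
  have hNord : ∀ q ∈ N, Odd (orderOf q) := fun q hq => by
    refine Odd.of_dvd_nat hNodd ?_
    have := orderOf_dvd_natCard (G := N) ⟨q, hq⟩
    rwa [Subgroup.orderOf_mk] at this
  obtain ⟨tc, htc⟩ : ∃ x : C, (x : G) = h.τ := ⟨⟨h.τ, (hCmem _).2 (by
    rw [he₀]
    exact ((show Commute h.τ h.s from h.τ_s).mul_right (show Commute h.τ h.r from h.τ_r)).eq)⟩, rfl⟩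
  obtain ⟨ac, hac⟩ : ∃ x : C, (x : G) = h.a := ⟨⟨h.a, (hCmem _).2 (by
    rw [he₀]
    exact ((show Commute h.a h.s from d.hB.a_s).mul_right (show Commute h.a h.r from h.a_r)).eq)⟩,
    rfl⟩
  have hτfree : ∀ q ∈ N, f tc * q * (f tc)⁻¹ = q → q = 1 := by
    intro q hq hfix
    obtain ⟨g, rfl⟩ := hfs q
    rw [← map_inv, ← map_mul, ← map_mul] at hfix
    have hge : Commute (g : G) e₀ := (hCmem _).1 g.2
    have hte : Commute h.τ e₀ := htc ▸ (hCmem _).1 tc.2
    have hg2 : (g : G) * g * h.τ = h.τ * ((g : G) * g) := by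
      have hτ' : h.τ⁻¹ = h.τ := inv_of_sq h.τ_sq
      rcases hfeq _ _ hfix with e | e <;> push_cast at e <;> rw [htc, hτ'] at e
      · have hc : Commute (g : G) h.τ := by
          show (g : G) * h.τ = h.τ * g
          calc (g : G) * h.τ = h.τ * g * h.τ * h.τ := by rw [e]
            _ = _ := by rw [mul_assoc (h.τ * (g : G)), h.τ_sq, mul_one]
        exact (hc.mul_left hc).eq
      · have hc : h.τ * (g : G) = (g : G) * e₀ * h.τ := by
          calc h.τ * (g : G) = h.τ * g * h.τ * h.τ := by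
                rw [mul_assoc (h.τ * (g : G)), h.τ_sq, mul_one]
            _ = _ := by rw [e]
        symm
        calc h.τ * ((g : G) * g) = (g : G) * e₀ * h.τ * g := by rw [← mul_assoc, hc]
          _ = (g : G) * e₀ * (h.τ * g) := by group
          _ = (g : G) * (e₀ * g) * e₀ * h.τ := by rw [hc]; group
          _ = (g : G) * g * (e₀ * e₀) * h.τ := by rw [← hge.eq]; group
          _ = _ := by rw [hee, mul_one]
    obtain ⟨p, hpdef⟩ : ∃ p, p = (g : G) * g := ⟨_, rfl⟩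
    rw [← hpdef] at hg2
    have hpN := d.hB.centralizer_τ_le p hg2
    have hpe : Commute p e₀ := hpdef ▸ hge.mul_left hge
    obtain ⟨K, hK⟩ : ∃ K : Subgroup G, K = Subgroup.normalizer (h.D : Set G) := ⟨_, rfl⟩
    have hpK : p ∈ K := hK ▸ hpN
    have hDK : h.D ≤ K := hK ▸ Subgroup.le_normalizer
    haveI hDn : (h.D.subgroupOf K).Normal := hK ▸ inferInstance
    have hidx : (h.D.subgroupOf K).index = 16 := by
      have h1 := (h.D.subgroupOf K).card_mul_index
      rw [Nat.card_congr (Subgroup.subgroupOfEquivOfLe hDK).toEquiv, h.card_D] at h1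
      have h2 : Nat.card K = 144 := hK ▸ d.card_normalizer
      rw [h2] at h1
      omega
    have hp16 : p ^ 16 ∈ h.D := by
      have h1 := Subgroup.pow_index_mem (h.D.subgroupOf K) ⟨p, hpK⟩
      rw [hidx, Subgroup.mem_subgroupOf] at h1
      simpa using h1
    obtain ⟨v, hv⟩ := h.exists_grid hp16
    have hinvD : e₀ * h.L.grid v * e₀⁻¹ = (h.L.grid v)⁻¹ := by
      rw [he₀, d.hB.2, Hyp.s, show h.L.al (mir, 1) * h.L.al (1, turn) * h.L.grid v *
        (h.L.al (mir, 1) * h.L.al (1, turn))⁻¹ = h.L.al (mir, 1) * (h.L.al (1, turn) * h.L.grid v *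
        (h.L.al (1, turn))⁻¹) * (h.L.al (mir, 1))⁻¹ by group, h.L.grid_conj_turn,
        h.L.grid_conj_mir, h.L.grid_inv]
    have hv1 : p ^ 16 = 1 := by
      have h1 : Commute (p ^ 16) e₀ := hpe.pow_left 16
      rw [hv] at h1 ⊢
      rw [← h1.eq, mul_inv_cancel_right] at hinvD
      have h3 : h.L.grid v * h.L.grid v * h.L.grid v = 1 := by
        have hc : ∀ v : Fin 3 × Fin 3, ((rot ^ (v.1 : ℕ), cyc ^ (v.2 : ℕ)) :
          Perm (Fin 3) × Perm (Fin 5)) * (rot ^ (v.1 : ℕ), cyc ^ (v.2 : ℕ)) *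
          (rot ^ (v.1 : ℕ), cyc ^ (v.2 : ℕ)) = 1 := by decide +kernel
        rw [Pair.grid, ← map_mul, ← map_mul, hc, map_one]
      have h2 : h.L.grid v * h.L.grid v = 1 := by
        nth_rw 2 [hinvD]
        exact mul_inv_cancel _
      rwa [h2, one_mul] at h3
    refine eq_one_of_odd_of_pow (k := 5) (hNord _ hq) ?_
    rw [show (2 : ℕ) ^ 5 = 2 * 16 from rfl, pow_mul, pow_two, ← map_mul, ← map_pow, hfk]
    left
    push_cast
    rw [← hpdef, hv1]
  have hft2 : f tc * f tc = 1 := by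
    rw [← map_mul, hfk]; left; push_cast; rw [htc, h.τ_sq]
  have hτinv := inverts_of_fixedPointFree N hft2 hτfree
  have hsN : ∀ q ∈ N, f sc * q * (f sc)⁻¹ = q := by
    intro q hq
    have e : f sc = f ac * f tc * (f ac)⁻¹ * f tc := by
      simp only [← map_inv, ← map_mul]
      refine congrArg f (Subtype.ext ?_)
      push_cast
      rw [hsc, hac, htc, inv_of_sq h.a_sq, d.hB.a_τ_a, mul_assoc, h.τ_sq, mul_one]
    rw [e]
    have h2 : (f ac)⁻¹ * q⁻¹ * f ac ∈ N := by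
      have := hN.conj_mem _ (inv_mem hq) (f ac)⁻¹
      rwa [inv_inv] at this
    calc f ac * f tc * (f ac)⁻¹ * f tc * q * (f ac * f tc * (f ac)⁻¹ * f tc)⁻¹
        = f ac * (f tc * ((f ac)⁻¹ * (f tc * q * (f tc)⁻¹) * f ac) * (f tc)⁻¹) * (f ac)⁻¹ := by
          group
      _ = _ := by rw [hτinv q hq, hτinv _ h2]; group
  have hNbot : ∀ q ∈ N, q = 1 := by
    intro q hq
    obtain ⟨g, rfl⟩ := hfs q
    have hc := hsN _ hq
    rw [← map_inv, ← map_mul, ← map_mul] at hc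
    obtain ⟨p, hpdef⟩ : ∃ p, p = (g : G) * g := ⟨_, rfl⟩
    have hge : Commute (g : G) e₀ := (hCmem _).1 g.2
    have hps : p * h.s = h.s * p := by
      have hc' : (g : G) * h.s * (g : G)⁻¹ = h.s ∨ (g : G) * h.s * (g : G)⁻¹ = h.r := by
        rcases hfeq _ _ hc with e | e <;> push_cast at e <;> rw [hsc] at e
        · left
          rw [mul_inv_eq_iff_eq_mul] at e ⊢
          exact e.symm
        · right
          rw [mul_inv_eq_iff_eq_mul] at e ⊢
          have hr' : e₀ * h.r = h.r * e₀ := by rw [he₀]; exact (hsr.mul_left (Commute.refl h.r)).eq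
          calc (g : G) * h.s = (g : G) * (e₀ * h.r) := by rw [hr', hre]
            _ = (g : G) * e₀ * (h.s * e₀) := by rw [hse, mul_assoc]
            _ = h.s * g * e₀ := by rw [e]; group
            _ = h.r * g := by rw [mul_assoc, hge.eq, ← mul_assoc, hse]
      rcases hc' with e | e
      · have hgs : Commute (g : G) h.s := mul_inv_eq_iff_eq_mul.1 e
        exact hpdef ▸ (hgs.mul_left hgs).eq
      · have e' : (g : G) * h.r * (g : G)⁻¹ = h.s := by
          rw [← hse, show (g : G) * (h.s * e₀) * (g : G)⁻¹ =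
            (g : G) * h.s * (e₀ * (g : G)⁻¹) by group, ← hge.inv_left.eq, ← mul_assoc, e, hre]
        refine mul_inv_eq_iff_eq_mul.1 ?_
        rw [hpdef, show (g : G) * g * h.s * ((g : G) * g)⁻¹ =
          (g : G) * ((g : G) * h.s * (g : G)⁻¹) * (g : G)⁻¹ by group, e, e']
    obtain ⟨σ, π, e, hel⟩ :=
      d.exists_el (d.centralizer_s_le (Subgroup.mem_centralizer_singleton_iff.2 hps))
    have hπ : π * turn = turn * π := by
      have h' : Commute p e₀ := hpdef ▸ hge.mul_left hge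
      have h'' := h'.eq
      rw [hel, he₀, d.sr_el, d.el_mul, d.el_mul] at h''
      exact (d.el_inj h'').2
    have hσ : σ * turn = turn * σ := (d.mem_cent_s e).1 (hel ▸ hps)
    have hp4 : p ^ 4 = 1 := by
      rw [hel, pow_succ, pow_three', d.el_mul, d.el_mul, d.el_mul, ← d.el_one]
      refine d.el_congr _ ?_ ?_
      · rw [← pow_three', ← pow_succ]; exact turn_centralizer_four σ hσ
      · rw [← pow_three', ← pow_succ]; exact turn_centralizer_four π hπ
    refine eq_one_of_odd_of_pow (k := 3) (hNord _ hq) ?_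
    rw [show (2 : ℕ) ^ 3 = 2 * 4 from rfl, pow_mul, pow_two, ← map_mul, ← map_pow, hfk]
    left
    push_cast
    rw [← hpdef, hp4]
  obtain ⟨g, hg⟩ : ∃ g : C, (g : G) = g₀ := ⟨⟨g₀, (hCmem _).2 hg₀⟩, rfl⟩
  have h1 := hNbot _ (hNc (f g))
  have h3 := mul_inv_eq_one.1 h1
  have h4 : f sc * f g = f g * f sc := mul_inv_eq_iff_eq_mul.1 h3
  have h2 : f (g * sc * g⁻¹) = f sc := by
    rw [map_mul, map_mul, map_inv, ← h4, mul_inv_cancel_right]
  refine (hfeq _ _ h2).imp (fun e => ?_) (fun e => ?_) <;> push_cast at e <;> rw [hg, hsc] at e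
  · exact e
  · exact e.trans hse

end Hyp.Twinned

end CfsgLib.SymEightLocal
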