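import Cfsg.Agent.SymEightLocal.TwinFacts

/-!
The pairs from the four-group `{1, turn, cross, cross * turn}`.
-/

set_option autoImplicit false

namespace CfsgLib.SymEightLocal

open Equiv
open CfsgLib.AltEightLocal (cyc tail turn)

/-- Membership of the four-group. -/
def InFour (σ : Perm (Fin 5)) : Prop := σ = 1 ∨ σ = turn ∨ σ = cross ∨ σ = cross * turn

instance : DecidablePred InFour := fun σ => by unfold InFour; infer_instance

theorem inFour_facts : ∀ σ : Perm (Fin 5), InFour σ →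
    Perm.sign σ = 1 ∧ σ * turn = turn * σ ∧ σ * σ = 1 := by decide +kernel

theorem inFour_mul : ∀ σ τ : Perm (Fin 5), InFour σ → InFour τ → InFour (σ * τ) := by
  intro σ τ hσ hτ
  rcases hσ with rfl | rfl | rfl | rfl <;> rcases hτ with rfl | rfl | rfl | rfl <;> decide +kernel

theorem inFour_centralizer : ∀ σ : Perm (Fin 5), σ * turn = turn * σ → σ * cross = cross * σ →
    InFour σ := by decide +kernel

theorem four_card : Fintype.card {σ : Perm (Fin 5) // InFour σ} = 4 := by decide +kernel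

theorem odd_pair_small : ∀ σ : Perm (Fin 5), (σ = tail ∨ σ = AltEightLocal.flip) →
    Fintype.card {σ' : Perm (Fin 5) // σ' * turn = turn * σ' ∧ σ' * σ = σ * σ' ∧ σ' * σ' = 1 ∧
      Perm.sign σ' = 1} = 2 ∧
    Fintype.card {σ' : Perm (Fin 5) // σ' * turn = turn * σ' ∧ σ' * σ = σ * σ' ∧ σ' * σ' = 1 ∧
      Perm.sign σ' = -1} = 2 := by
  rintro σ (rfl | rfl) <;> decide +kernel

theorem cyc_product : ∃ t : Perm (Fin 5), Perm.sign t = 1 ∧ t * t = 1 ∧ t ≠ 1 ∧ t * turn = cyc := by
  decide +kernel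

theorem tail_turn_centralizer : ∀ σ : Perm (Fin 5), σ * turn = turn * σ → σ * tail = tail * σ →
    σ * σ = 1 := by decide +kernel

theorem tail_centralizer_sq : ∀ π : Perm (Fin 5), π * tail = tail * π →
    π * π = 1 ∨ π * π = cyc ∨ π * π = cyc⁻¹ := by decide +kernel

theorem turn_centralizer_four : ∀ π : Perm (Fin 5), π * turn = turn * π → π ^ 4 = 1 := by
  decide +kernel

theorem three_pow_four : ∀ σ : Perm (Fin 3), σ * rot = rot * σ →
    σ ^ 4 = 1 ∨ σ ^ 4 = rot ∨ σ ^ 4 = rot⁻¹ := by decide +kernel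

end CfsgLib.SymEightLocal
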