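import Mathlib

/-!
Fusion in a weakly closed abelian 2-subgroup, and automorphisms of order two without fixed points.
-/

set_option autoImplicit false

namespace CfsgLib.SymEightLocal

variable {K : Type*} [Group K] [Finite K]

/-- Fusion in a weakly closed abelian `2`-subgroup is realised in its normaliser. -/
theorem exists_normalizing_conj (T : Sylow 2 K) (W : Subgroup K) (hWT : W ≤ (T : Subgroup K))
    (hcomm : ∀ u ∈ W, ∀ v ∈ W, u * v = v * u)
    (hclosed : ∀ g : K, W.map (MulAut.conj g).toMonoidHom ≤ (T : Subgroup K) →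
      W.map (MulAut.conj g).toMonoidHom = W)
    {a : K} (ha : a ∈ W) (g : K) (hga : g * a * g⁻¹ ∈ W) :
    ∃ n : K, W.map (MulAut.conj n).toMonoidHom = W ∧ n * a * n⁻¹ = g * a * g⁻¹ := by
  haveI : Fact (Nat.Prime 2) := ⟨Nat.prime_two⟩
  obtain ⟨x, hx⟩ : ∃ x, x = g * a * g⁻¹ := ⟨_, rfl⟩
  rw [← hx] at hga ⊢
  obtain ⟨C, hC⟩ : ∃ C : Subgroup K, C = Subgroup.centralizer ({x} : Set K) := ⟨_, rfl⟩
  have hWC : W ≤ C := fun u hu =>
    hC ▸ Subgroup.mem_centralizer_singleton_iff.2 (hcomm u hu x hga)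
  have hWC' : W.map (MulAut.conj g).toMonoidHom ≤ C := by
    rintro _ ⟨u, hu, rfl⟩
    rw [hC, Subgroup.mem_centralizer_singleton_iff, hx]
    show g * u * g⁻¹ * (g * a * g⁻¹) = g * a * g⁻¹ * (g * u * g⁻¹)
    calc g * u * g⁻¹ * (g * a * g⁻¹) = g * (u * a) * g⁻¹ := by group
      _ = _ := by rw [hcomm u hu a ha]; group
  have hW2 : IsPGroup 2 W := T.isPGroup'.to_le hWT
  obtain ⟨P₁, hP₁⟩ := ((hW2.comap_of_injective C.subtype Subtype.val_injective :
    IsPGroup 2 (W.subgroupOf C))).exists_le_sylow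
  obtain ⟨P₂, hP₂⟩ := (((hW2.map (MulAut.conj g).toMonoidHom).comap_of_injective C.subtype
    Subtype.val_injective :
    IsPGroup 2 ((W.map (MulAut.conj g).toMonoidHom).subgroupOf C))).exists_le_sylow
  obtain ⟨k, hk⟩ := MulAction.exists_smul_eq C P₂ P₁
  obtain ⟨P₀, hP₀⟩ := (P₁.isPGroup'.map C.subtype).exists_le_sylow
  obtain ⟨l, hl⟩ := MulAction.exists_smul_eq K P₀ T
  have hin : ∀ q ∈ P₁, l * (q : K) * l⁻¹ ∈ (T : Subgroup K) := by
    intro q hq
    rw [← hl]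
    exact Subgroup.smul_mem_pointwise_smul _ (MulAut.conj l) _ (hP₀ ⟨q, hq, rfl⟩)
  have h1 : W.map (MulAut.conj l).toMonoidHom = W := hclosed l (by
    rintro _ ⟨u, hu, rfl⟩
    exact hin ⟨u, hWC hu⟩ (hP₁ hu))
  have h2 : W.map (MulAut.conj (l * ((k : K) * g))).toMonoidHom = W := hclosed _ (by
    rintro _ ⟨u, hu, rfl⟩
    have hu' : (⟨g * u * g⁻¹, hWC' ⟨u, hu, rfl⟩⟩ : C) ∈ P₂ := hP₂ ⟨u, hu, rfl⟩
    have hk' : k * ⟨g * u * g⁻¹, hWC' ⟨u, hu, rfl⟩⟩ * k⁻¹ ∈ (P₁ : Subgroup C) := by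
      rw [← hk]
      exact Subgroup.smul_mem_pointwise_smul _ (MulAut.conj k) _ hu'
    have := hin _ hk'
    push_cast at this
    show l * ((k : K) * g) * u * (l * ((k : K) * g))⁻¹ ∈ (T : Subgroup K)
    rwa [show l * ((k : K) * g) * u * (l * ((k : K) * g))⁻¹ =
      l * ((k : K) * (g * u * g⁻¹) * (k : K)⁻¹) * l⁻¹ by group])
  refine ⟨(k : K) * g, ?_, ?_⟩
  · ext v
    constructor
    · rintro ⟨u, hu, rfl⟩
      have h3 : l * ((k : K) * g * u * ((k : K) * g)⁻¹) * l⁻¹ ∈ W.map (MulAut.conj l).toMonoidHom := by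
        rw [h1]
        have h4 : l * ((k : K) * g) * u * (l * ((k : K) * g))⁻¹ ∈ W := h2.le ⟨u, hu, rfl⟩
        rwa [show l * ((k : K) * g) * u * (l * ((k : K) * g))⁻¹ =
          l * ((k : K) * g * u * ((k : K) * g)⁻¹) * l⁻¹ by group] at h4
      obtain ⟨u', hu', he⟩ := h3
      show (k : K) * g * u * ((k : K) * g)⁻¹ ∈ W
      rwa [← (MulAut.conj l).injective he]
    · intro hv
      have h4 : l * v * l⁻¹ ∈ W := h1.le ⟨v, hv, rfl⟩
      obtain ⟨u, hu, he⟩ := h2.ge h4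
      refine ⟨u, hu, ?_⟩
      apply (MulAut.conj l).injective
      show l * ((k : K) * g * u * ((k : K) * g)⁻¹) * l⁻¹ = l * v * l⁻¹
      rw [← he]
      show _ = l * ((k : K) * g) * u * (l * ((k : K) * g))⁻¹
      group
  · rw [show (k : K) * g * a * ((k : K) * g)⁻¹ = (k : K) * x * (k : K)⁻¹ by rw [hx]; group]
    have hk2 : (k : K) * x = x * k := Subgroup.mem_centralizer_singleton_iff.1 (hC ▸ k.2)
    rw [hk2, mul_inv_cancel_right]

/-- An involutory conjugation without fixed points inverts. -/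
theorem inverts_of_fixedPointFree (N : Subgroup K) [N.Normal] {t : K} (ht : t * t = 1)
    (hfree : ∀ n ∈ N, t * n * t⁻¹ = n → n = 1) : ∀ n ∈ N, t * n * t⁻¹ = n⁻¹ := by
  intro n hn
  have hi : t⁻¹ = t := inv_eq_of_mul_eq_one_right ht
  let f : N → N := fun m =>
    ⟨(m : K)⁻¹ * (t * m * t⁻¹), mul_mem (inv_mem m.2) (Subgroup.Normal.conj_mem ‹_› _ m.2 t)⟩
  have hf : Function.Injective f := by
    intro p q hpq
    have e : (p : K)⁻¹ * (t * p * t⁻¹) = (q : K)⁻¹ * (t * q * t⁻¹) := congrArg Subtype.val hpq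
    refine Subtype.ext (mul_inv_eq_one.1 (hfree _ (mul_mem q.2 (inv_mem p.2)) ?_)).symm
    calc t * ((q : K) * (p : K)⁻¹) * t⁻¹ = (q : K) * ((q : K)⁻¹ * (t * q * t⁻¹)) *
          ((p : K)⁻¹ * (t * p * t⁻¹))⁻¹ * (p : K)⁻¹ := by group
      _ = (q : K) * (p : K)⁻¹ := by rw [← e]; group
  obtain ⟨m, hm⟩ := (Finite.injective_iff_surjective.1 hf) ⟨n, hn⟩
  have e : (m : K)⁻¹ * (t * m * t⁻¹) = n := congrArg Subtype.val hm
  rw [← e, hi]
  calc t * ((m : K)⁻¹ * (t * m * t)) * t = t * (m : K)⁻¹ * t * m * (t * t) := by group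
    _ = t * (m : K)⁻¹ * t * m := by rw [ht, mul_one]
    _ = ((m : K)⁻¹ * (t⁻¹ * m * t⁻¹))⁻¹ := by group
    _ = _ := by rw [hi]

/-- An element of odd order whose square is trivial modulo a relation of odd exponent. -/
theorem eq_one_of_odd_of_pow {x : K} {k : ℕ} (hx : Odd (orderOf x)) (hk : x ^ (2 ^ k) = 1) :
    x = 1 := by
  obtain ⟨j, -, hj⟩ := (Nat.dvd_prime_pow Nat.prime_two).1 (orderOf_dvd_of_pow_eq_one hk)
  rcases Nat.eq_zero_or_pos j with rfl | hpos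
  · rw [pow_zero, orderOf_eq_one_iff] at hj; exact hj
  · exfalso
    rw [hj, Nat.odd_pow_iff (by omega)] at hx
    exact absurd hx (by decide)

end CfsgLib.SymEightLocal
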