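import Cfsg.Agent.SymEightLocal.TwinSwap
import Cfsg.Agent.SymEightLocal.FourFacts
import Cfsg.Agent.SymEightLocal.OddIndex
import Cfsg.Agent.SymEightLocal.Weak
import Cfsg.Agent.ZStar.Theorem
import Cfsg.Agent.S3331

/-!
In the second case `C(s)` consists of pairs.
-/

set_option autoImplicit false
set_option linter.style.haveILetI false

namespace CfsgLib.SymEightLocal

open Equiv
open CfsgLib.AltEightLocal (cyc tail turn)

variable {G : Type*} [Group G]

namespace Hyp.Twinned

variable {h : Hyp G} (d : h.Twinned)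
include d

theorem single_fixed [Finite G] {g : G} (hgs : g * h.s = h.s * g)
    (hg : g⁻¹ * h.τ * g ∈ d.Φ.range) : g ∈ d.Φ.range := by
  obtain ⟨σ, π, e, he⟩ := d.exists_el hg
  have hc : (g⁻¹ * h.τ * g) * h.s = h.s * (g⁻¹ * h.τ * g) :=
    (((show Commute g h.s from hgs).inv_left.mul_left (show Commute h.τ h.s from h.τ_s)).mul_left
      hgs).eq
  rw [he, d.mem_cent_s] at hc
  have hodd := d.τ_ne_even (g := g⁻¹) e hc (by rw [inv_inv]; exact he)
  have h2 : d.el σ π e * d.el σ π e = 1 := by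
    rw [← he, show g⁻¹ * h.τ * g * (g⁻¹ * h.τ * g) = g⁻¹ * (h.τ * h.τ) * g by group, h.τ_sq]
    group
  have h1 : d.el σ π e ≠ 1 := fun e' => h.τ_ne (by
    calc h.τ = g * (g⁻¹ * h.τ * g) * g⁻¹ := by group
      _ = 1 := by rw [he, e']; group)
  rcases d.involution_cases e hc h2 h1 with ⟨-, ρ, ρ', hρ, hρe, hk⟩ | ⟨hs, -⟩
  · obtain ⟨k, hk'⟩ : ∃ k, k = d.el ρ ρ' hρe := ⟨_, rfl⟩
    rw [← hk', ← he] at hk
    have hks : k * h.s = h.s * k := hk' ▸ (d.mem_cent_s hρe).2 hρ
    have hgk : g * k * h.τ = h.τ * (g * k) := by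
      calc g * k * h.τ = g * (k * h.τ * k⁻¹) * k := by group
        _ = _ := by rw [← hk]; group
    have hgks : g * k * h.s = h.s * (g * k) :=
      ((show Commute g h.s from hgs).mul_left (show Commute k h.s from hks)).eq
    have hmem := d.normalizer_cent_s (d.hB.centralizer_τ_le _ hgk) hgks
    have := mul_mem hmem (inv_mem (hk' ▸ d.el_range hρe : k ∈ d.Φ.range))
    rwa [mul_inv_cancel_right] at this
  · rw [hs] at hodd; exact absurd hodd (by decide)

/-- The centraliser of `s` permutes `a` and `a * s`. -/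
theorem cent_s_conj_a [Finite G] {g₀ : G} (hg₀ : g₀ * h.s = h.s * g₀) :
    g₀ * h.a * g₀⁻¹ = h.a ∨ g₀ * h.a * g₀⁻¹ = h.a * h.s := by
  classical
  haveI : Fact (Nat.Prime 2) := ⟨Nat.prime_two⟩
  have ssgn : Perm.sign (cross * tail) = Perm.sign tail := by decide +kernel
  obtain ⟨C, hC⟩ : ∃ C : Subgroup G, C = Subgroup.centralizer ({h.s} : Set G) := ⟨_, rfl⟩
  have hCmem : ∀ g, g ∈ C ↔ g * h.s = h.s * g := fun g => by
    rw [hC, Subgroup.mem_centralizer_singleton_iff]
  have memC : ∀ {σ π : Perm (Fin 5)} (e : Perm.sign σ = Perm.sign π), σ * turn = turn * σ →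
      d.el σ π e ∈ C := fun e hσ => (hCmem _).2 ((d.mem_cent_s e).2 hσ)
  obtain ⟨HK, hHK⟩ : ∃ HK : Subgroup C, HK = d.Φ.range.subgroupOf C := ⟨_, rfl⟩
  have hHKcard : Nat.card HK = 480 := by
    rw [← card_twin_turn]
    let F : {x : Twin // x.1.1 * turn = turn * x.1.1} → HK := fun x =>
      ⟨⟨d.Φ x.1, memC (mem_twin.1 x.1.2) x.2⟩, by rw [hHK]; exact ⟨x.1, rfl⟩⟩
    refine (Nat.card_congr (Equiv.ofBijective F ⟨?_, ?_⟩)).symm
    · intro a b e
      exact Subtype.ext (d.inj (congrArg (fun q : HK => ((q : C) : G)) e))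
    · rintro ⟨⟨g, hgC⟩, hg⟩
      rw [hHK] at hg
      obtain ⟨x, rfl⟩ := (hg : g ∈ d.Φ.range)
      exact ⟨⟨x, (d.mem_cent_s (σ := x.1.1) (π := x.1.2) (mem_twin.1 x.2)).1
        ((hCmem _).1 hgC)⟩, rfl⟩
  obtain ⟨tC, htC⟩ : ∃ t : C, (t : G) = h.τ := ⟨⟨h.τ, (hCmem _).2 h.τ_s⟩, rfl⟩
  have hodd : Odd HK.index := by
    refine odd_index_of_single_fixed HK (t := tC) (Subtype.ext ?_) ?_ ?_ ?_
    · push_cast; rw [htC, h.τ_sq]
    · exact fun e => h.τ_ne (by rw [← htC, e]; rfl)
    · rw [hHK, Subgroup.mem_subgroupOf, htC, d.τ_el]; exact d.el_range _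
    · intro g hg
      rw [hHK, Subgroup.mem_subgroupOf] at hg ⊢
      push_cast at hg
      rw [htC] at hg
      exact d.single_fixed ((hCmem _).1 g.2) hg
  have hKcard : Nat.card C = 480 * HK.index := by rw [← hHKcard, Subgroup.card_mul_index]
  have h64 : ¬ 64 ∣ Nat.card C := by
    intro e
    rw [hKcard] at e
    obtain ⟨m, hm⟩ := hodd
    omega
  -- `s * r` is not conjugate to `s`
  have hsr : ∀ k : G, k * h.s * k⁻¹ ≠ h.s * h.r := by
    intro k e
    refine h64 ?_
    rw [hC, ← AltEightLocal.card_centralizer_conj k, e]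
    exact d.sixtyfour_dvd
  -- involutions from the four-group with both entries nontrivial
  have hmixed : ∀ {σ π : Perm (Fin 5)} (e : Perm.sign σ = Perm.sign π), InFour σ → InFour π →
      σ ≠ 1 → π ≠ 1 → ∀ k : G, k * h.s * k⁻¹ ≠ d.el σ π e := by
    intro σ π e hσ hπ hσ1 hπ1 k hk
    obtain ⟨s1, -, s3⟩ := inFour_facts σ hσ
    obtain ⟨p1, -, p3⟩ := inFour_facts π hπ
    obtain ⟨ρ, hρ, hc⟩ := AltEightLocal.even_involution σ s1 s3 hσ1
    obtain ⟨ρ', hρ', hc'⟩ := AltEightLocal.even_involution π p1 p3 hπ1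
    obtain ⟨u, hu⟩ : ∃ u, u = d.el ρ ρ' (hρ.trans hρ'.symm) := ⟨_, rfl⟩
    refine hsr (u⁻¹ * k) ?_
    have e' : d.el σ π e = u * (h.s * h.r) * u⁻¹ := by
      rw [hu, d.sr_el, d.el_conj]
      exact d.el_congr _ hc.symm hc'.symm
    calc u⁻¹ * k * h.s * (u⁻¹ * k)⁻¹ = u⁻¹ * (k * h.s * k⁻¹) * u := by group
      _ = _ := by rw [hk, e']; group
  obtain ⟨ac, hac⟩ : ∃ x : C, (x : G) = h.a := ⟨⟨h.a, (hCmem _).2 d.hB.a_s⟩, rfl⟩
  obtain ⟨sc, hsc⟩ : ∃ x : C, (x : G) = h.s := ⟨⟨h.s, (hCmem _).2 rfl⟩, rfl⟩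
  -- `a` is conjugate to `s`
  obtain ⟨va, hva⟩ : ∃ v : G, v * h.s * v⁻¹ = h.a := by
    obtain ⟨ρ, hρ, hc⟩ := AltEightLocal.even_involution cross five_signs.2.2.2.1
      five_facts.2.2.2.2.2.1 four_facts.2.2.1
    refine ⟨d.el ρ 1 (by rw [map_one, hρ]), ?_⟩
    rw [d.s_el, d.el_conj, d.a_el]
    exact d.el_congr _ hc (by simp)
  -- the Sylow subgroup and the weakly closed subgroup
  let TT : Subgroup Twin :=
    Subgroup.centralizer ({(⟨(turn, 1), mem_twin.2 (by rw [five_signs.2.2.1, map_one])⟩ : Twin)} :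
      Set Twin) ⊓
    Subgroup.centralizer ({(⟨(1, turn), mem_twin.2 (by rw [five_signs.2.2.1, map_one])⟩ : Twin)} :
      Set Twin)
  have hTTmem : ∀ x : Twin, x ∈ TT ↔ x.1.1 * turn = turn * x.1.1 ∧ x.1.2 * turn = turn * x.1.2 := by
    intro x
    rw [Subgroup.mem_inf, Subgroup.mem_centralizer_singleton_iff,
      Subgroup.mem_centralizer_singleton_iff]
    refine ⟨fun hx => ⟨congrArg (fun t : Twin => t.1.1) hx.1, congrArg (fun t : Twin => t.1.2) hx.2⟩,
      fun hx => ⟨Subtype.ext (Prod.ext hx.1 (by simp)), Subtype.ext (Prod.ext (by simp) hx.2)⟩⟩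
  let T₀ : Subgroup C := (TT.map d.Φ).subgroupOf C
  have hTTle : TT.map d.Φ ≤ C := by
    rintro _ ⟨x, hx, rfl⟩
    exact memC (mem_twin.1 x.2) ((hTTmem x).1 hx).1
  have hT₀card : Nat.card T₀ = 32 := by
    rw [Nat.card_congr (Subgroup.subgroupOfEquivOfLe hTTle).toEquiv,
      Subgroup.card_map_of_injective d.inj, ← card_twin_both]
    exact Nat.card_congr (Equiv.subtypeEquivRight hTTmem)
  obtain ⟨T, hT⟩ : ∃ T : Sylow 2 C, (T : Subgroup C) = T₀ := by
    have hp : IsPGroup 2 T₀ := IsPGroup.of_card (n := 5) (by rw [hT₀card]; norm_num)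
    refine ⟨hp.toSylow ?_, rfl⟩
    intro e
    have h1 := T₀.card_mul_index
    rw [hT₀card, hKcard] at h1
    obtain ⟨m, hm⟩ := hodd
    obtain ⟨j, hj⟩ := e
    omega
  have hTmem : ∀ x : C, x ∈ (T : Subgroup C) → ∃ (σ π : Perm (Fin 5))
      (e : Perm.sign σ = Perm.sign π), (x : G) = d.el σ π e ∧ σ * turn = turn * σ ∧
        π * turn = turn * π := by
    intro x hx
    rw [hT] at hx
    obtain ⟨⟨⟨σ, π⟩, hy⟩, hyT, he⟩ := Subgroup.mem_subgroupOf.1 hx
    exact ⟨σ, π, mem_twin.1 hy, he.symm, (hTTmem _).1 hyT⟩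
  let W₀ : Subgroup Twin :=
    { carrier := {x | InFour x.1.1 ∧ InFour x.1.2}
      mul_mem' := fun {x y} hx hy => ⟨inFour_mul _ _ hx.1 hy.1, inFour_mul _ _ hx.2 hy.2⟩
      one_mem' := ⟨Or.inl rfl, Or.inl rfl⟩
      inv_mem' := fun {x} hx => by
        show InFour (x.1.1)⁻¹ ∧ InFour (x.1.2)⁻¹
        rw [inv_of_sq (inFour_facts _ hx.1).2.2, inv_of_sq (inFour_facts _ hx.2).2.2]
        exact hx }
  have hW0le : W₀ ≤ TT := fun x hx =>
    (hTTmem x).2 ⟨(inFour_facts _ hx.1).2.1, (inFour_facts _ hx.2).2.1⟩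
  let W : Subgroup C := (W₀.map d.Φ).subgroupOf C
  have hW0C : W₀.map d.Φ ≤ C := (Subgroup.map_mono hW0le).trans hTTle
  have hWcard : Nat.card W = 16 := by
    rw [Nat.card_congr (Subgroup.subgroupOfEquivOfLe hW0C).toEquiv,
      Subgroup.card_map_of_injective d.inj]
    have e : Nat.card W₀ = Nat.card ({σ : Perm (Fin 5) // InFour σ} ×
        {σ : Perm (Fin 5) // InFour σ}) := Nat.card_congr
      { toFun := fun x => (⟨x.1.1.1, x.2.1⟩, ⟨x.1.1.2, x.2.2⟩)
        invFun := fun y => ⟨⟨(y.1.1, y.2.1), mem_twin.2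
          ((inFour_facts _ y.1.2).1.trans (inFour_facts _ y.2.2).1.symm)⟩, y.1.2, y.2.2⟩
        left_inv := fun _ => rfl
        right_inv := fun _ => rfl }
    rw [e, Nat.card_prod, Nat.card_eq_fintype_card, four_card]
  have hWT : W ≤ (T : Subgroup C) := by
    rw [hT]; exact Subgroup.comap_mono (Subgroup.map_mono hW0le)
  have hWmem : ∀ x : C, x ∈ W → ∃ (σ π : Perm (Fin 5)) (e : Perm.sign σ = Perm.sign π),
      (x : G) = d.el σ π e ∧ InFour σ ∧ InFour π := by
    intro x hx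
    obtain ⟨⟨⟨σ, π⟩, hy⟩, hyW, he⟩ := Subgroup.mem_subgroupOf.1 hx
    exact ⟨σ, π, mem_twin.1 hy, he.symm, hyW⟩
  have memW : ∀ {σ π : Perm (Fin 5)} (e : Perm.sign σ = Perm.sign π) (x : C),
      (x : G) = d.el σ π e → InFour σ → InFour π → x ∈ W := fun {σ π} e x hx hσ hπ =>
    Subgroup.mem_subgroupOf.2 ⟨⟨(σ, π), mem_twin.2 e⟩, ⟨hσ, hπ⟩, hx.symm⟩
  have hWsq : ∀ x ∈ W, x * x = 1 := by
    intro x hx
    obtain ⟨σ, π, e, he, hσ, hπ⟩ := hWmem x hx
    refine Subtype.ext ?_
    push_cast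
    rw [he, d.el_mul]
    exact (d.el_congr _ (inFour_facts σ hσ).2.2 (inFour_facts π hπ).2.2).trans d.el_one
  have hWcomm : ∀ u ∈ W, ∀ v ∈ W, u * v = v * u := by
    intro u hu v hv
    have e := hWsq _ (mul_mem hu hv)
    have e1 := inv_of_sq e
    rw [mul_inv_rev, inv_of_sq (hWsq u hu), inv_of_sq (hWsq v hv)] at e1
    exact e1.symm
  have hclosed : ∀ g : C, W.map (MulAut.conj g).toMonoidHom ≤ (T : Subgroup C) →
      W.map (MulAut.conj g).toMonoidHom = W := by
    intro g hg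
    have hcard' : Nat.card (W.map (MulAut.conj g).toMonoidHom) = 16 := by
      rw [Subgroup.card_map_of_injective (f := (MulAut.conj g).toMonoidHom)
        (MulAut.conj g).injective, hWcard]
    refine Subgroup.eq_of_le_of_card_ge ?_ (by rw [hcard', hWcard])
    intro x hx
    obtain ⟨σ, π, e, he, hσ, hπ⟩ := hTmem x (hg hx)
    have hsq' : ∀ y ∈ W.map (MulAut.conj g).toMonoidHom, y * y = 1 := by
      rintro _ ⟨u, hu, rfl⟩
      rw [← map_mul, hWsq u hu, map_one]
    have hsq : σ * σ = 1 ∧ π * π = 1 := by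
      have h1 := congrArg Subtype.val (hsq' x hx)
      push_cast at h1
      rw [he, d.el_mul, ← d.el_one] at h1
      exact d.el_inj h1
    rcases Int.units_eq_one_or (Perm.sign σ) with hs | hs
    · exact memW e x he ((turn_centralizer σ hσ hsq.1).1 hs)
        ((turn_centralizer π hπ hsq.2).1 (e.symm.trans hs))
    exfalso
    have hσo := (turn_centralizer σ hσ hsq.1).2 hs
    have hπo := (turn_centralizer π hπ hsq.2).2 (e.symm.trans hs)
    let Sset : Type := {p : {σ' : Perm (Fin 5) // σ' * turn = turn * σ' ∧ σ' * σ = σ * σ' ∧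
        σ' * σ' = 1} × {π' : Perm (Fin 5) // π' * turn = turn * π' ∧ π' * π = π * π' ∧
        π' * π' = 1} // Perm.sign p.1.1 = Perm.sign p.2.1}
    have hsmall : Nat.card Sset ≤ 8 := by
      have key : ∀ σ π : Perm (Fin 5), (σ = tail ∨ σ = AltEightLocal.flip) →
          (π = tail ∨ π = AltEightLocal.flip) →
          Fintype.card {p : {σ' : Perm (Fin 5) // σ' * turn = turn * σ' ∧ σ' * σ = σ * σ' ∧
            σ' * σ' = 1} × {π' : Perm (Fin 5) // π' * turn = turn * π' ∧ π' * π = π * π' ∧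
            π' * π' = 1} // Perm.sign p.1.1 = Perm.sign p.2.1} = 8 := by
        rintro σ π (rfl | rfl) (rfl | rfl) <;> decide +kernel
      rw [Nat.card_eq_fintype_card, key σ π hσo hπo]
    have hbig : 16 ≤ Nat.card Sset := by
      rw [← hcard']
      choose σ' π' e' he' hσ' hπ' using fun y : ↥(W.map (MulAut.conj g).toMonoidHom) =>
        hTmem y (hg y.2)
      have hsq2 : ∀ y, σ' y * σ' y = 1 ∧ π' y * π' y = 1 := by
        intro y
        have h1 := congrArg Subtype.val (hsq' y y.2)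
        push_cast at h1
        rw [he' y, d.el_mul, ← d.el_one] at h1
        exact d.el_inj h1
      have hc : ∀ y, σ' y * σ = σ * σ' y ∧ π' y * π = π * π' y := by
        intro y
        have h0 : (y : C) * x = x * y := by
          obtain ⟨u, hu, hue⟩ := y.2
          obtain ⟨v, hv, hve⟩ := hx
          rw [← hue, ← hve, ← map_mul, ← map_mul, hWcomm u hu v hv]
        have h1 := congrArg Subtype.val h0
        push_cast at h1
        rw [he' y, he, d.el_mul, d.el_mul] at h1
        exact d.el_inj h1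
      refine Nat.card_le_card_of_injective (fun y => (⟨(⟨σ' y, hσ' y, (hc y).1, (hsq2 y).1⟩,
        ⟨π' y, hπ' y, (hc y).2, (hsq2 y).2⟩), e' y⟩ : Sset)) fun y₁ y₂ hy => ?_
      refine Subtype.ext (Subtype.ext ?_)
      rw [he' y₁, he' y₂]
      exact d.el_congr _ (congrArg (fun p : Sset => p.1.1.1) hy)
        (congrArg (fun p : Sset => p.1.2.1) hy)
    omega
  have haW : ac ∈ W := memW (σ := cross) (π := 1) (by rw [five_signs.2.2.2.1, map_one]) ac
    (hac.trans d.a_el) (Or.inr (Or.inr (Or.inl rfl))) (Or.inl rfl)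
  -- the quotient by `s`
  have hs2 : ∀ g : C, g ∈ Subgroup.zpowers sc ↔ ((g : G) = 1 ∨ (g : G) = h.s) := by
    intro g
    constructor
    · rintro ⟨k, rfl⟩
      show ((sc ^ k : C) : G) = 1 ∨ _
      rw [Subgroup.coe_zpow, hsc]
      have h2 : h.s ^ (2 : ℤ) = 1 := by rw [zpow_two, h.s_sq]
      rcases Int.even_or_odd k with ⟨m, rfl⟩ | ⟨m, rfl⟩
      · left; rw [← two_mul, zpow_mul, h2, one_zpow]
      · right; rw [zpow_add, zpow_mul, h2, one_zpow, one_mul, zpow_one]
    · rintro (e | e)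
      · rw [show g = 1 from Subtype.ext e]; exact one_mem _
      · rw [show g = sc from Subtype.ext (e.trans hsc.symm)]; exact Subgroup.mem_zpowers sc
  haveI : (Subgroup.zpowers sc).Normal := ⟨fun a ha g => by
    obtain ⟨k, rfl⟩ := ha
    have hc : Commute g sc := Subtype.ext (by
      show (g : G) * (sc : G) = (sc : G) * (g : G)
      rw [hsc]; exact (hCmem _).1 g.2)
    rw [(hc.zpow_right k).eq, mul_inv_cancel_right]
    exact ⟨k, rfl⟩⟩
  obtain ⟨f, hf⟩ : ∃ f : C →* C ⧸ Subgroup.zpowers sc, f = QuotientGroup.mk' _ := ⟨_, rfl⟩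
  have hfs : Function.Surjective f := hf ▸ QuotientGroup.mk'_surjective _
  have hfk : ∀ g, f g = 1 ↔ ((g : G) = 1 ∨ (g : G) = h.s) := fun g => by
    rw [hf, QuotientGroup.mk'_apply, QuotientGroup.eq_one_iff, hs2]
  have hfeq : ∀ u v : C, f u = f v → (u : G) = v ∨ (u : G) = v * h.s := by
    intro u v e
    refine ((hfk (v⁻¹ * u)).1 (by rw [map_mul, map_inv, e, inv_mul_cancel])).imp
      (fun e' => ?_) (fun e' => ?_) <;> push_cast at e'
    · exact (inv_mul_eq_one.1 e').symm
    · exact inv_mul_eq_iff_eq_mul.1 e'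
  have hfs' : f sc = 1 := (hfk sc).2 (Or.inr hsc)
  have ha1 : f ac ≠ 1 := by
    intro e
    rcases (hfk _).1 e with e' | e' <;> rw [hac, d.a_el] at e'
    · exact four_facts.2.2.1 (d.el_inj (e'.trans d.el_one.symm)).1
    · exact four_facts.2.2.2.2.1 (d.el_inj (e'.trans d.s_el)).1
  have hiso : ∀ q, q * f ac * q⁻¹ ∈ (Sylow.mapSurjective hfs T : Sylow 2 (C ⧸ _)) →
      q * f ac * q⁻¹ = f ac := by
    intro q hq
    obtain ⟨g, rfl⟩ := hfs q
    rw [← map_inv, ← map_mul, ← map_mul] at hq ⊢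
    obtain ⟨x₀, hx₀, hxe⟩ := (hq : f (g * ac * g⁻¹) ∈ (T : Subgroup C).map f)
    have hgaT : g * ac * g⁻¹ ∈ (T : Subgroup C) := by
      rcases hfeq _ _ hxe.symm with e | e
      · rw [show g * ac * g⁻¹ = x₀ from Subtype.ext e]; exact hx₀
      · rw [show g * ac * g⁻¹ = x₀ * sc from Subtype.ext (by rw [e, Subgroup.coe_mul, hsc])]
        exact mul_mem hx₀ (hWT (memW (σ := turn) (π := 1) (by rw [five_signs.2.2.1, map_one]) sc
          (hsc.trans d.s_el) (Or.inr (Or.inl rfl)) (Or.inl rfl)))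
    obtain ⟨σ, π, e, he, hσ, hπ⟩ := hTmem _ hgaT
    push_cast at he
    rw [hac] at he
    have hsq : σ * σ = 1 ∧ π * π = 1 := by
      refine d.el_inj (e := by simp [e]) (e' := rfl) ?_
      rw [← d.el_mul e e, ← he, d.el_one]
      calc (g : G) * h.a * (g : G)⁻¹ * ((g : G) * h.a * (g : G)⁻¹)
          = (g : G) * (h.a * h.a) * (g : G)⁻¹ := by group
        _ = 1 := by rw [h.a_sq]; group
    rcases Int.units_eq_one_or (Perm.sign σ) with hs | hs
    swap
    · exfalso
      have h1 : d.el σ π e ≠ 1 := by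
        rw [← he]
        intro e1
        exact four_facts.2.2.1 (d.el_inj ((d.a_el.symm.trans (conj_eq_one_iff.1 e1)).trans
          d.el_one.symm)).1
      rcases d.involution_cases e hσ (by rw [d.el_mul]; exact (d.el_congr _ hsq.1 hsq.2).trans d.el_one)
          h1 with ⟨-, ρ, ρ', -, hρe, hk⟩ | ⟨hs', -⟩
      · refine h.M_turn_ne_conj (((g : G) * va)⁻¹ * d.el ρ ρ' hρe) ?_
        rw [← d.hB.1]
        calc ((g : G) * va)⁻¹ * d.el ρ ρ' hρe * h.τ * (((g : G) * va)⁻¹ * d.el ρ ρ' hρe)⁻¹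
            = ((g : G) * va)⁻¹ * (d.el ρ ρ' hρe * h.τ * (d.el ρ ρ' hρe)⁻¹) * ((g : G) * va) := by
              group
          _ = ((g : G) * va)⁻¹ * ((g : G) * h.a * (g : G)⁻¹) * ((g : G) * va) := by rw [← hk, he]
          _ = va⁻¹ * h.a * va := by group
          _ = _ := by rw [← hva]; group
      · rw [hs] at hs'; exact absurd hs' (by decide)
    have hgaW : g * ac * g⁻¹ ∈ W := memW e _ (by push_cast; rw [hac]; exact he)
      ((turn_centralizer σ hσ hsq.1).1 hs) ((turn_centralizer π hπ hsq.2).1 (e.symm.trans hs))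
    obtain ⟨n, -, hna⟩ := exists_normalizing_conj T W hWT hWcomm hclosed haW g hgaW
    obtain ⟨σ', π', e', he', hσ', hπ'⟩ := hWmem _ hgaW
    rw [← hna] at he'
    push_cast at he'
    rw [hac] at he'
    have hconjS : (n : G) * va * h.s * ((n : G) * va)⁻¹ = d.el σ' π' e' := by
      rw [← he', ← hva]; group
    have hσ1 : σ' ≠ 1 := by
      intro hσ1
      have hπ1 : π' ≠ 1 := by
        intro hπ1
        have e1 := he'.trans ((d.el_congr e' hσ1 hπ1).trans d.el_one)
        exact four_facts.2.2.1 (d.el_inj ((d.a_el.symm.trans (conj_eq_one_iff.1 e1)).trans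
          d.el_one.symm)).1
      -- then the conjugate of `a * s` has both entries nontrivial
      obtain ⟨vb, hvb⟩ : ∃ v : G, v * h.s * v⁻¹ = h.a * h.s := by
        obtain ⟨ρ, hρ, hc⟩ := AltEightLocal.even_involution (cross * turn) four_facts.1
          four_facts.2.2.2.1 four_facts.2.1
        refine ⟨d.el ρ 1 (by rw [map_one, hρ]), ?_⟩
        rw [d.s_el, d.el_conj, d.a_el, d.el_mul]
        exact d.el_congr _ hc (by simp)
      refine hmixed (σ := σ' * turn) (π := π') (by rw [map_mul, e', five_signs.2.2.1, mul_one])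
        (inFour_mul _ _ hσ' (Or.inr (Or.inl rfl))) hπ'
        (by rw [hσ1, one_mul]; exact five_facts.2.2.2.2.2.2.2.2.2.2.1) hπ1 ((n : G) * vb) ?_
      have hns : (n : G) * h.s * (n : G)⁻¹ = h.s := mul_inv_eq_iff_eq_mul.2 ((hCmem _).1 n.2)
      calc (n : G) * vb * h.s * ((n : G) * vb)⁻¹ = (n : G) * (vb * h.s * vb⁻¹) * (n : G)⁻¹ := by
            group
        _ = (n : G) * h.a * (n : G)⁻¹ * ((n : G) * h.s * (n : G)⁻¹) := by rw [hvb]; group
        _ = _ := by
          rw [he', hns, d.s_el, d.el_mul]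
          exact d.el_congr _ rfl (mul_one _)
    have hπ1 : π' = 1 := by_contra fun hπ1 => hmixed e' hσ' hπ' hσ1 hπ1 _ hconjS
    rw [← hna]
    rcases hσ' with h1 | h1 | h1 | h1
    · exact absurd h1 hσ1
    · exfalso
      have e1 : (n : G) * h.a * (n : G)⁻¹ = h.s := by
        rw [he', d.s_el]; exact d.el_congr _ h1 hπ1
      have e2 : h.a = h.s := by
        calc h.a = (n : G)⁻¹ * ((n : G) * h.a * (n : G)⁻¹) * n := by group
          _ = (n : G)⁻¹ * (h.s * n) := by rw [e1]; group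
          _ = h.s := by rw [← (hCmem _).1 n.2]; group
      rw [d.a_el, d.s_el] at e2
      exact four_facts.2.2.2.2.1 (d.el_inj e2).1
    · refine congrArg f (Subtype.ext ?_)
      push_cast
      rw [hac, he', d.a_el]
      exact d.el_congr _ h1 hπ1
    · have e1 : n * ac * n⁻¹ = ac * sc := Subtype.ext (by
        push_cast
        rw [hac, hsc, he', d.a_el, d.s_el, d.el_mul]
        exact d.el_congr _ h1 (by rw [hπ1, one_mul]))
      rw [e1, map_mul, hfs', mul_one]
  obtain ⟨N, hN, hNodd, hNc⟩ := ZStar.exists_oddNormal_of_sylow (Sylow.mapSurjective hfs T)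
    (orderOf_eq_prime (by
      rw [pow_two, ← map_mul, hfk]; left; push_cast; rw [hac, h.a_sq]) ha1)
    (Subgroup.mem_map_of_mem f (hWT haW)) hiso
  haveI := hN
  have hNord : ∀ q ∈ N, Odd (orderOf q) := fun q hq => by
    refine Odd.of_dvd_nat hNodd ?_
    have := orderOf_dvd_natCard (G := N) ⟨q, hq⟩
    rwa [Subgroup.orderOf_mk] at this
  -- the `A₅` of `L` meets `N` trivially
  let ι : alternatingGroup (Fin 5) →* C :=
    ((h.L.al.comp (MonoidHom.inr (Perm (Fin 3)) (Perm (Fin 5)))).comp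
      (alternatingGroup (Fin 5)).subtype).codRestrict C fun π =>
        (hCmem _).2 (h.L.fst_comm_snd mir π.1).symm
  have hιv : ∀ π, ((ι π : C) : G) = h.L.al (1, π.1) := fun π => rfl
  have hιinj : Function.Injective (f.comp ι) := by
    refine (injective_iff_map_eq_one _).2 fun π hπ => ?_
    rcases (hfk _).1 hπ with e | e <;> rw [hιv] at e
    · exact Subtype.ext (congrArg Prod.snd (h.L.inj (e.trans h.L.al.map_one.symm)))
    · exact absurd (congrArg Prod.fst (h.L.inj e)).symm rot_facts.2.2.2.1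
  have hwN : ∀ q : C, ((q : G) = h.w ∨ (q : G) = h.w⁻¹) → f q ∉ N := by
    intro q hq hqN
    obtain ⟨cA, hcA⟩ : ∃ c : alternatingGroup (Fin 5), c.1 = cyc :=
      ⟨⟨cyc, Perm.mem_alternatingGroup.2 five_signs.1⟩, rfl⟩
    have hmem : cA ∈ N.comap (f.comp ι) := by
      rcases hq with e | e
      · rw [Subgroup.mem_comap, MonoidHom.comp_apply,
          show ι cA = q from Subtype.ext (by rw [hιv, hcA, h.L_w, e])]
        exact hqN
      · rw [Subgroup.mem_comap, MonoidHom.comp_apply,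
          show ι cA = q⁻¹ from Subtype.ext (by rw [hιv, hcA, h.L_w, Subgroup.coe_inv, e, inv_inv]),
          map_inv]
        exact inv_mem hqN
    haveI := alternatingGroup.isSimpleGroup_five
    rcases (Subgroup.Normal.comap hN (f.comp ι)).eq_bot_or_eq_top with e | e
    · rw [e, Subgroup.mem_bot] at hmem
      rw [hmem] at hcA
      exact five_facts.2.1 hcA.symm
    · have hdvd : Nat.card (alternatingGroup (Fin 5)) ∣ Nat.card N := by
        have hle : (⊤ : Subgroup (alternatingGroup (Fin 5))).map (f.comp ι) ≤ N := by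
          rw [Subgroup.map_le_iff_le_comap, e]
        have := Subgroup.card_dvd_of_le hle
        rwa [Subgroup.card_map_of_injective hιinj, Subgroup.card_top] at this
      rw [nat_card_alternatingGroup, Nat.card_fin] at hdvd
      obtain ⟨j, hj⟩ := hdvd
      rw [show Nat.factorial 5 / 2 = 60 from rfl] at hj
      obtain ⟨m, hm⟩ := hNodd
      omega
  -- conjugates of `τ` invert `N`
  have hτfree : ∀ q ∈ N, f tC * q * (f tC)⁻¹ = q → q = 1 := by
    intro q hq hfix
    obtain ⟨g, rfl⟩ := hfs q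
    rw [← map_inv, ← map_mul, ← map_mul] at hfix
    have hs' : (g : G) * h.s = h.s * g := (hCmem _).1 g.2
    have hg2 : ((g * g : C) : G) * h.τ = h.τ * ((g * g : C) : G) := by
      have hτ' : h.τ⁻¹ = h.τ := inv_of_sq h.τ_sq
      push_cast
      rcases hfeq _ _ hfix with e | e <;> push_cast at e <;> rw [htC, hτ'] at e
      · have hc : h.τ * (g : G) = g * h.τ := by
          calc h.τ * (g : G) = h.τ * g * (h.τ * h.τ) := by rw [h.τ_sq, mul_one]
            _ = (g : G) * h.τ := by rw [← mul_assoc, e]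
        exact ((show Commute (g : G) h.τ from hc.symm).mul_left hc.symm).eq
      · have hc : h.τ * (g : G) = (g : G) * h.s * h.τ := by
          calc h.τ * (g : G) = h.τ * g * (h.τ * h.τ) := by rw [h.τ_sq, mul_one]
            _ = (g : G) * h.s * h.τ := by rw [← mul_assoc, e]
        symm
        calc h.τ * ((g : G) * g) = (g : G) * h.s * h.τ * g := by rw [← mul_assoc, hc]
          _ = (g : G) * h.s * (h.τ * g) := by group
          _ = (g : G) * (h.s * g) * h.s * h.τ := by rw [hc]; group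
          _ = (g : G) * g * (h.s * h.s) * h.τ := by rw [← hs']; group
          _ = _ := by rw [h.s_sq]; group
    obtain ⟨σ, π, e, he⟩ := d.exists_el (d.normalizer_cent_s (d.hB.centralizer_τ_le _ hg2)
      ((hCmem _).1 (g * g).2))
    have hσπ : (σ * turn = turn * σ) ∧ (σ * tail = tail * σ ∧ π * tail = tail * π) := by
      refine ⟨(d.mem_cent_s e).1 (he ▸ (hCmem _).1 (g * g).2), ?_⟩
      rw [he, d.τ_el, d.el_mul, d.el_mul] at hg2
      exact d.el_inj hg2
    have h4 : ((g ^ 4 : C) : G) = d.el 1 (π * π) (by simp) := by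
      rw [show g ^ 4 = (g * g) * (g * g) from (pow_mul g 2 2).trans (by rw [pow_two, pow_two]),
        Subgroup.coe_mul, he, d.el_mul]
      exact d.el_congr _ (tail_turn_centralizer σ hσπ.1 hσπ.2.1) rfl
    have hfin : π * π = 1 → f g = 1 := fun hp => by
      refine eq_one_of_odd_of_pow (k := 2) (hNord _ hq) ?_
      rw [show (2 : ℕ) ^ 2 = 4 from rfl, ← map_pow, hfk]
      left
      rw [h4]
      exact (d.el_congr _ rfl hp).trans d.el_one
    have hfN : f (g ^ 4) ∈ N := by rw [map_pow]; exact pow_mem hq _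
    rcases tail_centralizer_sq π hσπ.2.2 with hp | hp | hp
    · exact hfin hp
    · exact absurd hfN (hwN _ (Or.inl (by rw [h4, d.w_el]; exact d.el_congr _ rfl hp)))
    · exact absurd hfN (hwN _ (Or.inr (by
        rw [h4, d.w_el, d.el_inv]; exact d.el_congr _ inv_one.symm hp)))
  have hft2 : f tC * f tC = 1 := by
    rw [← map_mul, hfk]; left; push_cast; rw [htC, h.τ_sq]
  have hτinv := inverts_of_fixedPointFree N hft2 hτfree
  obtain ⟨bc, hbc⟩ : ∃ x : C, (x : G) = h.b := ⟨⟨h.b, (hCmem _).2 h.b_s⟩, rfl⟩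
  obtain ⟨rc, hrc⟩ : ∃ x : C, (x : G) = h.r := ⟨⟨h.r, (hCmem _).2 d.hB.s_r.symm⟩, rfl⟩
  have hrN : ∀ q ∈ N, f rc * q * (f rc)⁻¹ = q := by
    intro q hq
    have e : f rc = f bc * f tC * (f bc)⁻¹ * f tC := by
      simp only [← map_inv, ← map_mul]
      refine congrArg f (Subtype.ext ?_)
      push_cast
      rw [hrc, hbc, htC, inv_of_sq h.b_sq, d.hB.b_τ_b, mul_assoc, h.τ_sq, mul_one]
    rw [e]
    have h1 : f tC * q * (f tC)⁻¹ = q⁻¹ := hτinv q hq
    have h2 : (f bc)⁻¹ * q⁻¹ * f bc ∈ N := by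
      have := hN.conj_mem _ (inv_mem hq) (f bc)⁻¹
      rwa [inv_inv] at this
    calc f bc * f tC * (f bc)⁻¹ * f tC * q * (f bc * f tC * (f bc)⁻¹ * f tC)⁻¹
        = f bc * (f tC * ((f bc)⁻¹ * (f tC * q * (f tC)⁻¹) * f bc) * (f tC)⁻¹) * (f bc)⁻¹ := by
          group
      _ = _ := by rw [h1, hτinv _ h2]; group
  -- hence so does `w`
  obtain ⟨wc, hwc⟩ : ∃ x : C, (x : G) = h.w :=
    ⟨⟨h.w, (hCmem _).2 h.s_w.symm⟩, rfl⟩
  have hwcN : ∀ q ∈ N, f wc * q * (f wc)⁻¹ = q := by
    obtain ⟨t, ht, ht2, ht1, htc⟩ := cyc_product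
    obtain ⟨ρ, hρ, hc⟩ := AltEightLocal.even_involution t ht ht2 ht1
    obtain ⟨uc, huc⟩ : ∃ x : C, (x : G) = h.L.al (1, ρ) :=
      ⟨⟨_, (hCmem _).2 (h.L.fst_comm_snd mir ρ).symm⟩, rfl⟩
    have e : f wc = f uc * f rc * (f uc)⁻¹ * f rc := by
      simp only [← map_inv, ← map_mul]
      refine congrArg f (Subtype.ext ?_)
      push_cast
      rw [hwc, huc, hrc, ← h.L_w, d.hB.2, map_conj, ← map_mul]
      exact congrArg h.L.al (Prod.ext (by simp) (by
        show cyc = ρ * turn * ρ⁻¹ * turn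
        rw [hc, htc]))
    intro q hq
    rw [e]
    have h2 : (f uc)⁻¹ * q * f uc ∈ N := by
      have := hN.conj_mem _ hq (f uc)⁻¹
      rwa [inv_inv] at this
    calc f uc * f rc * (f uc)⁻¹ * f rc * q * (f uc * f rc * (f uc)⁻¹ * f rc)⁻¹
        = f uc * (f rc * ((f uc)⁻¹ * (f rc * q * (f rc)⁻¹) * f uc) * (f rc)⁻¹) * (f uc)⁻¹ := by
          group
      _ = _ := by rw [hrN q hq, hrN _ h2]; group
  have hNbot : ∀ q ∈ N, q = 1 := by
    intro q hq
    obtain ⟨g, rfl⟩ := hfs q
    have hc := hwcN _ hq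
    rw [← map_inv, ← map_mul, ← map_mul] at hc
    have hgw : (g : G) * h.w = h.w * g := by
      rcases hfeq _ _ hc with e | e <;> push_cast at e <;> rw [hwc] at e
      · exact (mul_inv_eq_iff_eq_mul.1 e).symm
      · exfalso
        have hgs : (g : G) * h.s = h.s * g := (hCmem _).1 g.2
        have h3w : h.w * h.w * h.w = 1 := h.w_cube
        have e2 : (g : G)⁻¹ * h.w * g = h.w * h.s := by
          have : h.w * (g : G) = (g : G) * h.s * h.w := mul_inv_eq_iff_eq_mul.1 e
          rw [mul_assoc, this, mul_assoc (g : G), ← mul_assoc (g : G)⁻¹, inv_mul_cancel, one_mul,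
            h.s_w]
        have e3 : (g : G)⁻¹ * h.w * g * ((g : G)⁻¹ * h.w * g) * ((g : G)⁻¹ * h.w * g) = 1 := by
          rw [show (g : G)⁻¹ * h.w * g * ((g : G)⁻¹ * h.w * g) * ((g : G)⁻¹ * h.w * g) =
            (g : G)⁻¹ * (h.w * h.w * h.w) * g by group, h3w]
          group
        rw [e2] at e3
        have hcm : Commute h.w h.s := h.s_w.symm
        have := hcm.mul_pow 3
        rw [pow_three', pow_three', pow_three', e3, h3w, one_mul, h.s_sq, one_mul] at this
        exact rot_facts.2.2.2.1 (congrArg Prod.fst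
          (h.L.inj (this.symm.trans h.L.al.map_one.symm)))
    obtain ⟨x, hx, hge⟩ := h.M.of_commute hgw
    have hxt : x.2 * turn = turn * x.2 := by
      have hgs : (g : G) * h.s = h.s * g := (hCmem _).1 g.2
      rw [hge, d.hB.1, map_comm_iff h.M.al h.M.inj] at hgs
      exact congrArg Prod.snd hgs
    have h4 : ((g ^ 4 : C) : G) = h.M.al (x.1 ^ 4, 1) := by
      rw [Subgroup.coe_pow, hge, ← map_pow]
      exact congrArg h.M.al (Prod.ext rfl (turn_centralizer_four _ hxt))
    have hfN : f (g ^ 4) ∈ N := by rw [map_pow]; exact pow_mem hq _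
    rcases three_pow_four x.1 hx with e | e | e
    · refine eq_one_of_odd_of_pow (k := 2) (hNord _ hq) ?_
      rw [show (2 : ℕ) ^ 2 = 4 from rfl, ← map_pow, hfk]
      left
      rw [h4, e, show ((1 : Perm (Fin 3)), (1 : Perm (Fin 5))) = 1 from rfl, map_one]
    · exact absurd hfN (hwN _ (Or.inl (by rw [h4, e, h.M.al_rot])))
    · exact absurd hfN (hwN _ (Or.inr (by
        rw [h4, e, show ((rot⁻¹ : Perm (Fin 3)), (1 : Perm (Fin 5))) = (rot, 1)⁻¹ by simp, map_inv,
          h.M.al_rot])))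
  have hnorm : ∀ g : C, (g : G) * h.a * (g : G)⁻¹ = h.a ∨
      (g : G) * h.a * (g : G)⁻¹ = h.a * h.s := by
    intro g
    have h1 := hNbot _ (hNc (f g))
    have h2 : f (g * ac * g⁻¹) = f ac := by
      have h3 := mul_inv_eq_one.1 h1
      have h4 : f ac * f g = f g * f ac := mul_inv_eq_iff_eq_mul.1 h3
      rw [map_mul, map_mul, map_inv, ← h4, mul_inv_cancel_right]
    refine (hfeq _ _ h2).imp (fun e => ?_) (fun e => ?_) <;>
    · push_cast at e
      rwa [hac] at e
  exact hnorm ⟨g₀, (hCmem _).2 hg₀⟩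

/-- In the second case `C(s)` consists of pairs. -/
theorem centralizer_s_le [Finite G] : Subgroup.centralizer ({h.s} : Set G) ≤ d.Φ.range := by
  classical
  haveI : Fact (Nat.Prime 2) := ⟨Nat.prime_two⟩
  have ssgn : Perm.sign (cross * tail) = Perm.sign tail := by decide +kernel
  obtain ⟨C, hC⟩ : ∃ C : Subgroup G, C = Subgroup.centralizer ({h.s} : Set G) := ⟨_, rfl⟩
  rw [← hC]
  have hCmem : ∀ g, g ∈ C ↔ g * h.s = h.s * g := fun g => by
    rw [hC, Subgroup.mem_centralizer_singleton_iff]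
  have memC : ∀ {σ π : Perm (Fin 5)} (e : Perm.sign σ = Perm.sign π), σ * turn = turn * σ →
      d.el σ π e ∈ C := fun e hσ => (hCmem _).2 ((d.mem_cent_s e).2 hσ)
  obtain ⟨HK, hHK⟩ : ∃ HK : Subgroup C, HK = d.Φ.range.subgroupOf C := ⟨_, rfl⟩
  have hHKcard : Nat.card HK = 480 := by
    rw [← card_twin_turn]
    let F : {x : Twin // x.1.1 * turn = turn * x.1.1} → HK := fun x =>
      ⟨⟨d.Φ x.1, memC (mem_twin.1 x.1.2) x.2⟩, by rw [hHK]; exact ⟨x.1, rfl⟩⟩
    refine (Nat.card_congr (Equiv.ofBijective F ⟨?_, ?_⟩)).symm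
    · intro a b e
      exact Subtype.ext (d.inj (congrArg (fun q : HK => ((q : C) : G)) e))
    · rintro ⟨⟨g, hgC⟩, hg⟩
      rw [hHK] at hg
      obtain ⟨x, rfl⟩ := (hg : g ∈ d.Φ.range)
      exact ⟨⟨x, (d.mem_cent_s (σ := x.1.1) (π := x.1.2) (mem_twin.1 x.2)).1
        ((hCmem _).1 hgC)⟩, rfl⟩
  obtain ⟨tC, htC⟩ : ∃ t : C, (t : G) = h.τ := ⟨⟨h.τ, (hCmem _).2 h.τ_s⟩, rfl⟩
  have hodd : Odd HK.index := by
    refine odd_index_of_single_fixed HK (t := tC) (Subtype.ext ?_) ?_ ?_ ?_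
    · push_cast; rw [htC, h.τ_sq]
    · exact fun e => h.τ_ne (by rw [← htC, e]; rfl)
    · rw [hHK, Subgroup.mem_subgroupOf, htC, d.τ_el]; exact d.el_range _
    · intro g hg
      rw [hHK, Subgroup.mem_subgroupOf] at hg ⊢
      push_cast at hg
      rw [htC] at hg
      exact d.single_fixed ((hCmem _).1 g.2) hg
  have hKcard : Nat.card C = 480 * HK.index := by rw [← hHKcard, Subgroup.card_mul_index]
  obtain ⟨ac, hac⟩ : ∃ x : C, (x : G) = h.a := ⟨⟨h.a, (hCmem _).2 d.hB.a_s⟩, rfl⟩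
  obtain ⟨sc, hsc⟩ : ∃ x : C, (x : G) = h.s := ⟨⟨h.s, (hCmem _).2 rfl⟩, rfl⟩
  have hnorm : ∀ g : C, (g : G) * h.a * (g : G)⁻¹ = h.a ∨
      (g : G) * h.a * (g : G)⁻¹ = h.a * h.s := fun g => d.cent_s_conj_a ((hCmem _).1 g.2)
  let ι : alternatingGroup (Fin 5) →* C :=
    ((h.L.al.comp (MonoidHom.inr (Perm (Fin 3)) (Perm (Fin 5)))).comp
      (alternatingGroup (Fin 5)).subtype).codRestrict C fun π =>
        (hCmem _).2 (h.L.fst_comm_snd mir π.1).symm
  have hιv : ∀ π, ((ι π : C) : G) = h.L.al (1, π.1) := fun π => rfl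
  -- `C(s)` has order 480
  obtain ⟨X, hX⟩ : ∃ X : Subgroup C, X = Subgroup.centralizer ({ac} : Set C) := ⟨_, rfl⟩
  have hXmem : ∀ g : C, g ∈ X ↔ (g : G) * h.a * (g : G)⁻¹ = h.a := fun g => by
    rw [hX, Subgroup.mem_centralizer_singleton_iff, Subtype.ext_iff, mul_inv_eq_iff_eq_mul]
    push_cast
    rw [hac]
  have haτ : h.τ * h.a * h.τ = h.a * h.s := by
    rw [d.τ_el, d.a_el, d.s_el, d.el_mul, d.el_mul, d.el_mul]
    exact d.el_congr _ five_facts.2.2.2.2.2.2.2.2.1 (by simp [five_facts.2.2.1])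
  have has : h.a * h.s ≠ h.a := fun e => h.L.ne (by
    have : h.s = 1 := mul_eq_left.1 e
    exact absurd (congrArg Prod.fst (h.L.inj (this.trans h.L.al.map_one.symm))) rot_facts.2.2.2.1)
  have hXidx : X.index = 2 := by
    refine Subgroup.index_eq_two_iff.2 ⟨tC, fun g => ?_⟩
    have hτg : ((g * tC : C) : G) * h.a * ((g * tC : C) : G)⁻¹ =
        (g : G) * h.a * (g : G)⁻¹ * h.s := by
      push_cast
      rw [htC]
      calc (g : G) * h.τ * h.a * ((g : G) * h.τ)⁻¹ = (g : G) * (h.τ * h.a * h.τ⁻¹) * (g : G)⁻¹ := by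
            group
        _ = (g : G) * h.a * (h.s * (g : G)⁻¹) := by rw [inv_of_sq h.τ_sq, haτ]; group
        _ = _ := by
          rw [((show Commute h.s (g : G) from ((hCmem _).1 g.2).symm).inv_right).eq]; group
    rw [hXmem, hXmem, hτg]
    rcases hnorm g with e | e <;> rw [e]
    · exact Or.inr ⟨rfl, has⟩
    · exact Or.inl ⟨by rw [mul_assoc, h.s_sq, mul_one], has⟩
  obtain ⟨U, hU⟩ : ∃ U : Subgroup X, U = ((Subgroup.closure {ac, sc} : Subgroup C)).subgroupOf X :=
    ⟨_, rfl⟩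
  have hacX : ac ∈ X := (hXmem _).2 (by rw [hac]; group)
  have hscX : sc ∈ X := (hXmem _).2 (by
    rw [hsc]; exact mul_inv_eq_iff_eq_mul.2 d.hB.a_s.symm)
  have hcl : ∀ u : C, u ∈ Subgroup.closure ({ac, sc} : Set C) ↔
      ((u : G) = 1 ∨ (u : G) = h.a ∨ (u : G) = h.s ∨ (u : G) = h.a * h.s) := by
    intro u
    constructor
    · intro hu
      induction hu using Subgroup.closure_induction with
      | mem v hv =>
        rcases hv with rfl | rfl
        · exact Or.inr (Or.inl hac)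
        · exact Or.inr (Or.inr (Or.inl hsc))
      | one => exact Or.inl rfl
      | mul v v' _ _ hv hv' =>
        push_cast
        have ha := h.a_sq
        have hs := h.s_sq
        have hc := d.hB.a_s
        rcases hv with e | e | e | e <;> rcases hv' with e' | e' | e' | e' <;> rw [e, e'] <;>
          first
          | (left; simp [ha, hs]; done)
          | (right; left; simp [ha, hs]; done)
          | (right; right; left; simp [ha, hs]; done)
          | (right; right; right; simp [ha, hs]; done)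
          | (right; right; left; rw [← mul_assoc, ha, one_mul]; done)
          | (right; left; rw [mul_assoc, hs, mul_one]; done)
          | (right; right; right; exact hc.symm)
          | (right; left; rw [← mul_assoc, ← hc, mul_assoc, hs, mul_one]; done)
          | (right; right; left; rw [hc, mul_assoc, ha, mul_one]; done)
          | (left; rw [mul_assoc, ← mul_assoc h.s h.a, ← hc, mul_assoc h.a h.s, hs, mul_one, ha])
      | inv v _ hv =>
        push_cast
        rcases hv with e | e | e | e <;> rw [e]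
        · left; rw [inv_one]
        · right; left; exact inv_of_sq h.a_sq
        · right; right; left; exact inv_of_sq h.s_sq
        · right; right; right
          rw [mul_inv_rev, inv_of_sq h.a_sq, inv_of_sq h.s_sq, d.hB.a_s]
    · have m1 : ac ∈ Subgroup.closure ({ac, sc} : Set C) := Subgroup.subset_closure (Or.inl rfl)
      have m2 : sc ∈ Subgroup.closure ({ac, sc} : Set C) := Subgroup.subset_closure (Or.inr rfl)
      rintro (e | e | e | e)
      · rw [show u = 1 from Subtype.ext e]; exact one_mem _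
      · rw [show u = ac from Subtype.ext (e.trans hac.symm)]; exact m1
      · rw [show u = sc from Subtype.ext (e.trans hsc.symm)]; exact m2
      · rw [show u = ac * sc from Subtype.ext (by push_cast; rw [hac, hsc]; exact e)]
        exact mul_mem m1 m2
  have hUmem : ∀ g : X, g ∈ U ↔ (((g : C) : G) = 1 ∨ ((g : C) : G) = h.a ∨ ((g : C) : G) = h.s ∨
      ((g : C) : G) = h.a * h.s) := fun g => by rw [hU, Subgroup.mem_subgroupOf, hcl]
  have hUcentral : ∀ g : X, ∀ u ∈ U, g * u = u * g := by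
    intro g u hu
    have c1 : Commute ((g : C) : G) h.a := mul_inv_eq_iff_eq_mul.1 ((hXmem _).1 g.2)
    have c2 : Commute ((g : C) : G) h.s := (hCmem _).1 (g : C).2
    refine Subtype.ext (Subtype.ext ?_)
    push_cast
    rcases (hUmem u).1 hu with e | e | e | e <;> rw [e]
    · simp
    · exact c1.eq
    · exact c2.eq
    · exact (c1.mul_right c2).eq
  haveI hUn : U.Normal := ⟨fun u hu g => by
    rw [hUcentral g u hu, mul_inv_cancel_right]; exact hu⟩
  have hUcard : Nat.card U = 4 := by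
    let F : Fin 2 × Fin 2 → U := fun p => ⟨⟨ac ^ (p.1 : ℕ) * sc ^ (p.2 : ℕ),
      mul_mem (pow_mem hacX _) (pow_mem hscX _)⟩, by
        rw [hU, Subgroup.mem_subgroupOf]
        have n1 : ac ∈ Subgroup.closure ({ac, sc} : Set C) :=
          Subgroup.subset_closure (Set.mem_insert ac {sc})
        have n2 : sc ∈ Subgroup.closure ({ac, sc} : Set C) :=
          Subgroup.subset_closure (Set.mem_insert_of_mem ac (Set.mem_singleton sc))
        show ac ^ (p.1 : ℕ) * sc ^ (p.2 : ℕ) ∈ Subgroup.closure ({ac, sc} : Set C)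
        exact mul_mem (pow_mem n1 _) (pow_mem n2 _)⟩
    have hFv : ∀ p, (((F p : U) : X) : C).1 =
        h.M.al (1, cross ^ (p.1 : ℕ) * turn ^ (p.2 : ℕ)) := by
      intro p
      show ((ac ^ (p.1 : ℕ) * sc ^ (p.2 : ℕ) : C) : G) = _
      push_cast
      rw [hac, hsc, Hyp.a, d.hB.1, ← map_pow, ← map_pow, ← map_mul]
      exact congrArg h.M.al (Prod.ext (by simp) rfl)
    have hb : Function.Bijective F := ⟨fun p q e => by
      have key : ∀ p q : Fin 2 × Fin 2, cross ^ (p.1 : ℕ) * turn ^ (p.2 : ℕ) =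
          cross ^ (q.1 : ℕ) * turn ^ (q.2 : ℕ) → p = q := by decide +kernel
      have e1 := congrArg (fun v : U => (((v : X) : C) : G)) e
      simp only [hFv] at e1
      exact key p q (congrArg Prod.snd (h.M.inj e1)), fun u => by
      rcases (hUmem _).1 u.2 with e | e | e | e
      · exact ⟨(0, 0), Subtype.ext (Subtype.ext (Subtype.ext (by simp [F, e])))⟩
      · exact ⟨(1, 0), Subtype.ext (Subtype.ext (Subtype.ext (by simp [F, e, hac])))⟩
      · exact ⟨(0, 1), Subtype.ext (Subtype.ext (Subtype.ext (by simp [F, e, hsc])))⟩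
      · exact ⟨(1, 1), Subtype.ext (Subtype.ext (Subtype.ext (by simp [F, e, hac, hsc])))⟩⟩
    rw [← Nat.card_congr (Equiv.ofBijective F hb), Nat.card_prod, Nat.card_fin]
  obtain ⟨π₅, hπ₅⟩ : ∃ p : X →* X ⧸ U, p = QuotientGroup.mk' U := ⟨_, rfl⟩
  have hιX : ∀ π : alternatingGroup (Fin 5), ι π ∈ X := fun π => (hXmem _).2 (by
    rw [hιv, Hyp.a]
    exact mul_inv_eq_iff_eq_mul.2 (d.hB.even_comm five_signs.2.2.2.1
      (Perm.mem_alternatingGroup.1 π.2)).symm)
  obtain ⟨θ, hθ⟩ : ∃ θ : alternatingGroup (Fin 5) →* X ⧸ U,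
      θ = π₅.comp (ι.codRestrict X hιX) := ⟨_, rfl⟩
  have hθinj : Function.Injective θ := by
    refine (injective_iff_map_eq_one θ).2 fun π hπ => ?_
    rw [hθ, MonoidHom.comp_apply, hπ₅, QuotientGroup.mk'_apply, QuotientGroup.eq_one_iff,
      hUmem] at hπ
    have hv : (((ι.codRestrict X hιX π : X) : C) : G) = h.L.al (1, π.1) := rfl
    rw [hv, ← d.el_L, d.a_el, d.s_el, d.el_mul, ← d.el_one] at hπ
    refine Subtype.ext ?_
    rcases hπ with e | e | e | e
    all_goals
      have := (d.el_inj e).2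
      simpa using this
  obtain ⟨cA, hcA⟩ : ∃ c : alternatingGroup (Fin 5), c.1 = cyc :=
    ⟨⟨cyc, Perm.mem_alternatingGroup.2 five_signs.1⟩, rfl⟩
  haveI := alternatingGroup.isSimpleGroup_five
  have hcard5 : Nat.card (alternatingGroup (Fin 5)) = 60 := by
    rw [nat_card_alternatingGroup, Nat.card_fin]; rfl
  have hw1 : θ cA ≠ 1 := fun e => five_facts.2.1 (by
    rw [← hcA, hθinj (e.trans θ.map_one.symm)]; rfl)
  have hw3 : θ cA ^ 3 = 1 := by
    rw [← map_pow, ← map_one θ]
    refine congrArg θ (Subtype.ext ?_)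
    push_cast
    rw [hcA, pow_three', five_facts.1]
  have hself : Subgroup.centralizer ((Subgroup.zpowers (θ cA) : Subgroup (X ⧸ U)) : Set (X ⧸ U)) =
      Subgroup.zpowers (θ cA) := by
    refine le_antisymm (fun q hq => ?_) (fun q hq => Subgroup.mem_centralizer_iff.2 fun v hv => ?_)
    · have hq' : θ cA * q = q * θ cA :=
        Subgroup.mem_centralizer_iff.1 hq _ (Subgroup.mem_zpowers _)
      obtain ⟨g, rfl⟩ := QuotientGroup.mk_surjective q
      obtain ⟨wX, hwX, hwXv⟩ : ∃ v : X, (QuotientGroup.mk v : X ⧸ U) = θ cA ∧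
          ((v : C) : G) = h.w :=
        ⟨ι.codRestrict X hιX cA, by rw [hθ, hπ₅]; rfl, by
          show h.L.al (1, cA.1) = h.w
          rw [hcA, h.L_w]⟩
      rw [← hwX, ← QuotientGroup.mk_mul, ← QuotientGroup.mk_mul, QuotientGroup.eq, hUmem] at hq'
      push_cast at hq'
      rw [hwXv] at hq'
      obtain ⟨gg, hgg⟩ : ∃ gg, ((g : C) : G) = gg := ⟨_, rfl⟩
      rw [hgg] at hq'
      have hgs : gg * h.s = h.s * gg := hgg ▸ (hCmem _).1 (g : C).2
      have hga : gg * h.a = h.a * gg := hgg ▸ mul_inv_eq_iff_eq_mul.1 ((hXmem _).1 g.2)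
      obtain ⟨u, hu, hu2, huw⟩ : ∃ u, (h.w * gg)⁻¹ * (gg * h.w) = u ∧ u * u = 1 ∧
          Commute h.w u := by
        refine ⟨_, rfl, ?_⟩
        have cwa : Commute h.w h.a := h.a_w.symm
        have cws : Commute h.w h.s := h.s_w.symm
        rcases hq' with e | e | e | e <;> rw [e]
        · exact ⟨one_mul 1, Commute.one_right _⟩
        · exact ⟨h.a_sq, cwa⟩
        · exact ⟨h.s_sq, cws⟩
        · refine ⟨?_, cwa.mul_right cws⟩
          rw [mul_assoc, ← mul_assoc h.s h.a, ← d.hB.a_s, mul_assoc h.a h.s, h.s_sq, mul_one,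
            h.a_sq]
      have e' : gg * h.w * gg⁻¹ = h.w * (gg * u * gg⁻¹) := by rw [← hu]; group
      have hug : gg * u = u * gg := by
        rcases hq' with e | e | e | e <;> rw [← hu, e]
        · simp
        · exact hga
        · exact hgs
        · exact ((show Commute gg h.a from hga).mul_right (show Commute gg h.s from hgs)).eq
      rw [hug, mul_inv_cancel_right] at e'
      have hu1 : u = 1 := by
        have h3 := congrArg (fun t => t * t * t) e'
        rw [show gg * h.w * gg⁻¹ * (gg * h.w * gg⁻¹) * (gg * h.w * gg⁻¹) =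
          gg * (h.w * h.w * h.w) * gg⁻¹ by group, h.w_cube, mul_one, mul_inv_cancel] at h3
        have h3' := huw.mul_pow 3
        rw [pow_three', pow_three', pow_three', ← h3, h.w_cube, one_mul, hu2, one_mul] at h3'
        exact h3'.symm
      rw [hu1, mul_one] at e'
      obtain ⟨x, hx, hge⟩ := h.M.of_commute (mul_inv_eq_iff_eq_mul.1 e')
      rw [hge, d.hB.1, map_comm_iff h.M.al h.M.inj] at hgs
      rw [hge, Hyp.a, map_comm_iff h.M.al h.M.inj] at hga
      have hfour := inFour_centralizer x.2 (congrArg Prod.snd hgs) (congrArg Prod.snd hga)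
      have k3 : ∀ σ : Perm (Fin 3), σ * rot = rot * σ → ∃ i : Fin 3, σ = rot ^ (i : ℕ) := by
        decide +kernel
      obtain ⟨i, hi⟩ := k3 x.1 hx
      have key : ∀ π : Perm (Fin 5), InFour π → h.M.al (1, π) = 1 ∨ h.M.al (1, π) = h.a ∨
          h.M.al (1, π) = h.s ∨ h.M.al (1, π) = h.a * h.s := by
        rintro π (rfl | rfl | rfl | rfl)
        · exact Or.inl h.M.al.map_one
        · exact Or.inr (Or.inr (Or.inl d.hB.1.symm))
        · exact Or.inr (Or.inl rfl)
        · refine Or.inr (Or.inr (Or.inr ?_))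
          rw [Hyp.a, d.hB.1, ← map_mul]; rfl
      refine ⟨((i : ℕ) : ℤ), ?_⟩
      show θ cA ^ ((i : ℕ) : ℤ) = _
      rw [zpow_natCast, ← hwX, ← QuotientGroup.mk_pow, QuotientGroup.eq, hUmem]
      push_cast
      rw [hwXv, hgg, hge]
      have e0 : (h.w ^ (i : ℕ))⁻¹ * h.M.al x = h.M.al (1, x.2) := by
        have h0 : h.w ^ (i : ℕ) = h.M.al (rot ^ (i : ℕ), 1) := by
          refine (congrArg (· ^ (i : ℕ)) h.M.al_rot.symm).trans ?_
          rw [← map_pow]
          exact congrArg h.M.al (Prod.ext rfl (by simp))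
        rw [h0, ← map_inv, ← map_mul]
        exact congrArg h.M.al (Prod.ext (by simp [hi]) (by simp))
      rw [e0]
      exact key _ hfour
    · obtain ⟨i, rfl⟩ := hq
      obtain ⟨j, rfl⟩ := hv
      exact ((Commute.refl (θ cA)).zpow_zpow j i).eq
  have hord : orderOf (θ cA) = 3 := by
    haveI : Fact (Nat.Prime 3) := ⟨Nat.prime_three⟩
    exact orderOf_eq_prime hw3 hw1
  have hCdvd : 480 ∣ Nat.card C := ⟨_, hKcard⟩
  have hXcard : Nat.card C = 8 * Nat.card (X ⧸ U) := by
    rw [← Subgroup.card_mul_index X, hXidx, Subgroup.card_eq_card_quotient_mul_card_subgroup U,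
      hUcard]
    ring
  have hθdvd : 60 ∣ Nat.card (X ⧸ U) := hcard5 ▸ Subgroup.card_dvd_of_injective θ hθinj
  have hfin : Nat.card (X ⧸ U) = 60 := by
    rcases Cfsg.Agent.S3331.result (Subgroup.zpowers (θ cA)) (by rw [Nat.card_zpowers, hord]) hself
      with ⟨M', hM', -, hcop, hq6⟩ | ⟨M', hM', -, hsq, ⟨eA⟩⟩ | ⟨⟨eP⟩⟩
    · exfalso
      haveI := hM'
      have hsmall : Nat.card ((X ⧸ U) ⧸ M') < 60 := by
        rcases hq6 with e | ⟨⟨e⟩⟩
        · omega
        · rw [Nat.card_congr e.toEquiv, Nat.card_perm, Nat.card_fin]; decide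
      rcases (inferInstance : ((QuotientGroup.mk' M').comp θ).ker.Normal).eq_bot_or_eq_top with
        e | e
      · have := Nat.card_le_card_of_injective _ ((MonoidHom.ker_eq_bot_iff _).1 e)
        omega
      · have hmem : θ cA ∈ M' := by
          rw [← QuotientGroup.eq_one_iff]
          exact (e ▸ Subgroup.mem_top cA : cA ∈ ((QuotientGroup.mk' M').comp θ).ker)
        have h3 := orderOf_dvd_natCard (G := M') ⟨_, hmem⟩
        rw [Subgroup.orderOf_mk, hord] at h3
        exact absurd (Nat.eq_one_of_dvd_coprimes hcop h3 dvd_rfl) (by norm_num)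
    · haveI := hM'
      have h2p : IsPGroup 2 M' := fun x => ⟨1, Subtype.ext (by simpa using hsq x x.2)⟩
      obtain ⟨k, hk⟩ := IsPGroup.iff_card.1 h2p
      have hq : Nat.card (X ⧸ U) = 60 * 2 ^ k := by
        rw [Subgroup.card_eq_card_quotient_mul_card_subgroup M', Nat.card_congr eA.toEquiv, hcard5,
          hk]
      rcases k with _ | k
      · rw [hq]; rfl
      · exfalso
        rw [hq, hKcard, pow_succ] at hXcard
        obtain ⟨m, hm⟩ := hodd
        omega
    · exfalso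
      have h1 := Nat.card_congr eP.toEquiv
      have h2 : Nat.card (Matrix.ProjectiveSpecialLinearGroup (Fin 2) (ZMod 7)) ∣ 2016 := by
        haveI : Fact (Nat.Prime 7) := ⟨by norm_num⟩
        have hGL : Nat.card (GL (Fin 2) (ZMod 7)) = 2016 := by
          rw [Matrix.card_GL_field, ZMod.card]; decide
        refine (Subgroup.card_dvd_of_surjective (QuotientGroup.mk' _)
          (QuotientGroup.mk'_surjective _)).trans ?_
        rw [← hGL]
        exact Subgroup.card_dvd_of_injective Matrix.SpecialLinearGroup.toGL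
          Matrix.SpecialLinearGroup.toGL_injective
      rw [← h1] at h2
      have := hθdvd.trans h2
      norm_num at this
  intro g hg
  have htop : HK = ⊤ := Subgroup.eq_top_of_card_eq _ (by rw [hHKcard, hXcard, hfin])
  have := htop ▸ Subgroup.mem_top (⟨g, hg⟩ : C)
  rw [hHK] at this
  exact this

end Hyp.Twinned

end CfsgLib.SymEightLocal
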