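import Cfsg.Agent.SymEightLocal.Local
import Cfsg.Agent.S3333

/-!
`C(τ)` normalises `D`, or `C(τ)/⟨τ⟩ ≅ S₆`.
-/

set_option autoImplicit false
set_option linter.style.haveILetI false

namespace CfsgLib.SymEightLocal

open Equiv
open CfsgLib.AltEightLocal (cyc tail turn)

variable {G : Type*} [Group G]

namespace Hyp

variable (h : Hyp G)

theorem centralizer_τ_mem_le {d : G} (hd : d ∈ h.D) (hd1 : d ≠ 1) {g : G}
    (hgd : g * d = d * g) (hgτ : g * h.τ = h.τ * g) :
    g ∈ Subgroup.normalizer (h.D : Set G) := by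
  have key5 : ∀ π : Perm (Fin 5), π * tail = tail * π →
      π * cyc * π⁻¹ = cyc ∨ π * cyc * π⁻¹ = cyc⁻¹ := by decide +kernel
  have hz : ∀ g : G, g * h.z = h.z * g → g * h.τ = h.τ * g →
      g ∈ Subgroup.normalizer (h.D : Set G) := by
    intro g hgz hgτ
    obtain ⟨x, -, rfl⟩ := h.L.of_commute hgz
    rw [τ, map_comm_iff h.L.al h.L.inj] at hgτ
    exact h.mem_normalizer_of_al x.2 x.1 (key5 _ (congrArg Prod.snd hgτ))
  have hw : ∀ g : G, g * h.w = h.w * g → g * h.τ = h.τ * g →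
      g ∈ Subgroup.normalizer (h.D : Set G) := by
    intro g hgw hgτ
    obtain ⟨x, -, rfl⟩ := h.M.of_commute hgw
    rw [← h.τ_eq_M, map_comm_iff h.M.al h.M.inj] at hgτ
    refine h.mem_normalizer ?_ ?_
    · have e : h.M.al x * h.z * (h.M.al x)⁻¹ = h.M.al (1, x.2 * cyc * x.2⁻¹) := by
        rw [← h.M_z, map_conj]
        exact congrArg h.M.al (Prod.ext (by simp) rfl)
      rw [e]
      rcases key5 _ (congrArg Prod.snd hgτ) with e | e <;> rw [e]
      · rw [h.M_z]; exact h.z_mem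
      · rw [show ((1 : Perm (Fin 3)), cyc⁻¹) = ((1, cyc) : Perm (Fin 3) × Perm (Fin 5))⁻¹ by simp,
          map_inv, h.M_z]
        exact inv_mem h.z_mem
    · rcases h.M.mem_normalizer x with e | e <;> rw [e]
      exacts [h.w_mem, inv_mem h.w_mem]
  have hy : ∀ g : G, g * h.L.grid (1, 1) = h.L.grid (1, 1) * g → g * h.τ = h.τ * g →
      g ∈ Subgroup.normalizer (h.D : Set G) := by
    intro g hg _
    refine h.cy_norm g ?_
    rwa [h.L.grid_eq, h.L_w, Fin.val_one, pow_one, pow_one] at hg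
  have hconj : ∀ k ∈ Subgroup.normalizer (h.D : Set G), ∀ x : G,
      (∀ g : G, g * x = x * g → g * h.τ = h.τ * g → g ∈ Subgroup.normalizer (h.D : Set G)) →
      ∀ g : G, g * (k * x * k⁻¹) = k * x * k⁻¹ * g → g * h.τ = h.τ * g →
        g ∈ Subgroup.normalizer (h.D : Set G) := by
    intro k hk x hx g hgx hgτ
    have h1 := h.comm_τ hk
    have h3 : k⁻¹ * g * k ∈ Subgroup.normalizer (h.D : Set G) := by
      refine hx _ ?_ ?_
      · calc k⁻¹ * g * k * x = k⁻¹ * (g * (k * x * k⁻¹)) * k := by group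
          _ = _ := by rw [hgx]; group
      · exact ((Commute.inv_left (show Commute k h.τ from h1)).mul_left
          (show Commute g h.τ from hgτ)).mul_left (show Commute k h.τ from h1)
    have := mul_mem (mul_mem hk h3) (inv_mem hk)
    rwa [show k * (k⁻¹ * g * k) * k⁻¹ = g by group] at this
  have hinv : ∀ x : G,
      (∀ g : G, g * x = x * g → g * h.τ = h.τ * g → g ∈ Subgroup.normalizer (h.D : Set G)) →
      ∀ g : G, g * x⁻¹ = x⁻¹ * g → g * h.τ = h.τ * g →
        g ∈ Subgroup.normalizer (h.D : Set G) :=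
    fun x hx g hg => hx g (Commute.inv_right_iff.1 hg)
  have hs : h.L.al (mir, 1) ∈ Subgroup.normalizer (h.D : Set G) :=
    h.mem_normalizer_of_al 1 mir (Or.inl (by simp))
  have ht : h.L.al (1, turn) ∈ Subgroup.normalizer (h.D : Set G) :=
    h.mem_normalizer_of_al turn 1 (Or.inr (by decide +kernel))
  obtain ⟨⟨i, j⟩, rfl⟩ := h.exists_grid hd
  have cases9 : ∀ i j : Fin 3, (i, j) = ((0, 0) : Fin 3 × Fin 3) ∨
      (i, j) = (1, 0) ∨ (i, j) = (-1, -0) ∨ (i, j) = (0, 1) ∨ (i, j) = (-0, -1) ∨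
      (i, j) = (1, 1) ∨ (i, j) = (-1, -1) ∨ (i, j) = (1, -1) ∨ (i, j) = (-1, 1) := by
    decide +kernel
  rcases cases9 i j with e | e | e | e | e | e | e | e | e <;> rw [e] at hd1 hgd
  · exact absurd h.L.grid_zero_zero hd1
  · rw [← h.z_grid] at hgd; exact hz g hgd hgτ
  · rw [← h.L.grid_inv (1, 0), ← h.z_grid] at hgd; exact hinv _ hz g hgd hgτ
  · rw [← h.w_grid] at hgd; exact hw g hgd hgτ
  · rw [← h.L.grid_inv (0, 1), ← h.w_grid] at hgd; exact hinv _ hw g hgd hgτ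
  · exact hy g hgd hgτ
  · rw [← h.L.grid_inv (1, 1)] at hgd; exact hinv _ hy g hgd hgτ
  · rw [← h.L.grid_conj_turn (1, 1)] at hgd; exact hconj _ ht _ hy g hgd hgτ
  · rw [← h.L.grid_conj_mir (1, 1)] at hgd; exact hconj _ hs _ hy g hgd hgτ

theorem centralizer_τ_cases [Finite G] :
    (∀ g : G, g * h.τ = h.τ * g → g ∈ Subgroup.normalizer (h.D : Set G)) ∨
      ∃ f : Subgroup.centralizer ({h.τ} : Set G) →* Perm (Fin 6),
        Function.Surjective f ∧ ∀ g, f g = 1 ↔ ((g : G) = 1 ∨ (g : G) = h.τ) := by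
  classical
  haveI : Fact (Nat.Prime 3) := ⟨Nat.prime_three⟩
  obtain ⟨C, hC⟩ : ∃ C : Subgroup G, C = Subgroup.centralizer ({h.τ} : Set G) := ⟨_, rfl⟩
  rw [← hC]
  have hCmem : ∀ g, g ∈ C ↔ g * h.τ = h.τ * g := fun g => by
    rw [hC, Subgroup.mem_centralizer_singleton_iff]
  obtain ⟨t, ht⟩ : ∃ t : C, (t : G) = h.τ := ⟨⟨h.τ, (hCmem _).2 rfl⟩, rfl⟩
  have ht2 : ∀ g : C, g ∈ Subgroup.zpowers t ↔ ((g : G) = 1 ∨ (g : G) = h.τ) := by
    intro g
    constructor
    · rintro ⟨k, rfl⟩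
      show ((t ^ k : C) : G) = 1 ∨ _
      rw [Subgroup.coe_zpow, ht]
      have h2 : h.τ ^ (2 : ℤ) = 1 := by rw [zpow_two, h.τ_sq]
      rcases Int.even_or_odd k with ⟨m, rfl⟩ | ⟨m, rfl⟩
      · left; rw [← two_mul, zpow_mul, h2, one_zpow]
      · right; rw [zpow_add, zpow_mul, h2, one_zpow, one_mul, zpow_one]
    · rintro (e | e)
      · rw [show g = 1 from Subtype.ext e]; exact one_mem _
      · rw [show g = t from Subtype.ext (e.trans ht.symm)]; exact Subgroup.mem_zpowers t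
  haveI hnormal : (Subgroup.zpowers t).Normal := ⟨fun a ha g => by
    obtain ⟨k, rfl⟩ := ha
    have hc : Commute g t := Subtype.ext (by
      show (g : G) * (t : G) = (t : G) * (g : G)
      rw [ht]; exact (hCmem _).1 g.2)
    rw [(hc.zpow_right k).eq, mul_inv_cancel_right]
    exact ⟨k, rfl⟩⟩
  obtain ⟨f, hf⟩ : ∃ f : C →* C ⧸ Subgroup.zpowers t, f = QuotientGroup.mk' _ := ⟨_, rfl⟩
  have hfsurj : Function.Surjective f := hf ▸ QuotientGroup.mk'_surjective _
  have hfker : ∀ g, f g = 1 ↔ ((g : G) = 1 ∨ (g : G) = h.τ) := fun g => by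
    rw [hf, QuotientGroup.mk'_apply, QuotientGroup.eq_one_iff, ht2]
  have hDC : h.D ≤ C := fun d hd => (hCmem d).2 (h.comm_τ (Subgroup.le_normalizer hd))
  obtain ⟨S, hS⟩ : ∃ S : Subgroup (C ⧸ Subgroup.zpowers t),
      S = (h.D.subgroupOf C).map f := ⟨_, rfl⟩
  -- conjugation of an element of order three, read modulo `τ`
  have hlift : ∀ (g : C) (x x' : G) (hx : x ∈ C) (hx' : x' ∈ C), x * x * x = 1 →
      x' * x' * x' = 1 → f g * f ⟨x, hx⟩ * (f g)⁻¹ = f ⟨x', hx'⟩ →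
      (g : G) * x * (g : G)⁻¹ = x' := by
    intro g x x' hx hx' h3 h3' hfe
    rw [← map_inv, ← map_mul, ← map_mul] at hfe
    have h1 : f ((⟨x', hx'⟩ : C)⁻¹ * (g * ⟨x, hx⟩ * g⁻¹)) = 1 := by
      rw [map_mul, map_inv, hfe, inv_mul_cancel]
    rcases (hfker _).1 h1 with e | e <;> push_cast at e
    · exact (inv_mul_eq_one.1 e).symm
    · exfalso
      apply h.τ_ne
      have hgx : (g : G) * x * (g : G)⁻¹ = x' * h.τ := by rw [← e, mul_inv_cancel_left]
      have hcube : (g : G) * x * (g : G)⁻¹ * ((g : G) * x * (g : G)⁻¹) *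
          ((g : G) * x * (g : G)⁻¹) = 1 := by
        rw [show (g : G) * x * (g : G)⁻¹ * ((g : G) * x * (g : G)⁻¹) *
          ((g : G) * x * (g : G)⁻¹) = (g : G) * (x * x * x) * (g : G)⁻¹ by group, h3]
        group
      have hc : Commute x' h.τ := (hCmem x').1 hx'
      have h3c := hc.mul_pow 3
      rw [pow_three', pow_three', pow_three'] at h3c
      rw [hgx] at hcube
      rw [← hcube, h3c, h3', one_mul, h.τ_sq, one_mul]
  have hD3 : ∀ d ∈ h.D, d * d * d = 1 := by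
    intro d hd
    obtain ⟨p, rfl⟩ := h.exists_grid hd
    have key : ∀ p : Fin 3 × Fin 3, ((rot ^ (p.1 : ℕ), cyc ^ (p.2 : ℕ)) : Perm (Fin 3) ×
      Perm (Fin 5)) * (rot ^ (p.1 : ℕ), cyc ^ (p.2 : ℕ)) *
      (rot ^ (p.1 : ℕ), cyc ^ (p.2 : ℕ)) = 1 := by decide +kernel
    rw [Pair.grid, ← map_mul, ← map_mul, key, map_one]
  have hτD : h.τ ∉ h.D := fun e => h.τ_ne (by
    have h1 := hD3 _ e
    rwa [h.τ_sq, one_mul] at h1)
  have hinjD : Function.Injective fun d : h.D => f ⟨d, hDC d.2⟩ := by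
    intro a b hab
    have h1 : f ((⟨a, hDC a.2⟩ : C)⁻¹ * ⟨b, hDC b.2⟩) = 1 := by
      rw [map_mul, map_inv]; exact inv_mul_eq_one.2 hab
    rcases (hfker _).1 h1 with e | e
    · exact Subtype.ext (inv_mul_eq_one.1 e)
    · exact absurd (e ▸ mul_mem (inv_mem a.2) b.2) hτD
  have hmemS : ∀ q, q ∈ S ↔ ∃ (d : G) (hd : d ∈ h.D), f ⟨d, hDC hd⟩ = q := by
    intro q
    rw [hS, Subgroup.mem_map]
    exact ⟨fun ⟨c, hc, e⟩ => ⟨c, hc, e⟩, fun ⟨d, hd, e⟩ => ⟨⟨d, hDC hd⟩, hd, e⟩⟩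
  have hScard : Nat.card S = 9 := by
    rw [← h.card_D]
    exact (Nat.card_congr (Equiv.ofBijective
      (fun d : h.D => (⟨f ⟨d, hDC d.2⟩, (hmemS _).2 ⟨d, d.2, rfl⟩⟩ : S))
      ⟨fun a b e => hinjD (congrArg Subtype.val e), fun q => by
        obtain ⟨d, hd, e⟩ := (hmemS _).1 q.2
        exact ⟨⟨d, hd⟩, Subtype.ext e⟩⟩)).symm
  have hnorm : ∀ g : C, (g : G) ∈ Subgroup.normalizer (h.D : Set G) ↔
      f g ∈ Subgroup.normalizer (S : Set (C ⧸ Subgroup.zpowers t)) := by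
    intro g
    constructor
    · intro hg
      rw [Subgroup.mem_normalizer_iff_map_conj_eq]
      refine Subgroup.eq_of_le_of_card_ge ?_ (le_of_eq
        (Subgroup.card_map_of_injective (f := (MulAut.conj (f g)).toMonoidHom)
          (MulAut.conj (f g)).injective).symm)
      rintro _ ⟨q, hq, rfl⟩
      obtain ⟨d, hd, rfl⟩ := (hmemS q).1 hq
      show f g * f _ * (f g)⁻¹ ∈ S
      rw [← map_inv, ← map_mul, ← map_mul]
      exact (hmemS _).2 ⟨_, h.conj_mem hg hd, congrArg f (Subtype.ext rfl)⟩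
    · intro hg
      have hd : ∀ d ∈ h.D, (g : G) * d * (g : G)⁻¹ ∈ h.D := by
        intro d hd
        obtain ⟨d', hd', e⟩ := (hmemS _).1
          ((Subgroup.mem_normalizer_iff.1 hg _).1 ((hmemS _).2 ⟨d, hd, rfl⟩))
        rw [hlift g d d' (hDC hd) (hDC hd') (hD3 d hd) (hD3 d' hd') e.symm]
        exact hd'
      exact h.mem_normalizer (hd _ h.z_mem) (hd _ h.w_mem)
  have hcen : ∀ (g : C) (d : G) (hd : d ∈ h.D), f g * f ⟨d, hDC hd⟩ = f ⟨d, hDC hd⟩ * f g →
      (g : G) * d = d * g := fun g d hd e =>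
    mul_inv_eq_iff_eq_mul.1 (hlift g d d (hDC hd) (hDC hd) (hD3 d hd) (hD3 d hd)
      (mul_inv_eq_iff_eq_mul.2 e))
  have hSC : Subgroup.centralizer (S : Set (C ⧸ Subgroup.zpowers t)) = S := by
    refine le_antisymm (fun q hq => ?_) (fun q hq => ?_)
    · obtain ⟨g, rfl⟩ := hfsurj q
      have hd : ∀ d ∈ h.D, (g : G) * d = d * g := fun d hd => hcen g d hd
        (Subgroup.mem_centralizer_iff.1 hq _ ((hmemS _).2 ⟨d, hd, rfl⟩)).symm
      obtain ⟨i, j, k, e⟩ := h.of_centralizes (hd _ h.z_mem) (hd _ h.w_mem)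
      refine (hmemS _).2 ⟨h.L.grid (i, j), h.grid_mem _, ?_⟩
      have hk : k = 0 ∨ k = 1 := by fin_cases k <;> simp
      rw [← inv_mul_eq_one, ← map_inv, ← map_mul, hfker]
      push_cast
      rw [e, Pair.grid, ← map_inv, ← map_mul, τ]
      rcases hk with rfl | rfl
      · left; rw [← map_one h.L.al]; congr 1; simp
      · right; congr 1; simp
    · refine Subgroup.mem_centralizer_iff.2 fun q' hq' => ?_
      obtain ⟨d, hd, rfl⟩ := (hmemS q).1 hq
      obtain ⟨d', hd', rfl⟩ := (hmemS q').1 hq'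
      rw [← map_mul, ← map_mul]
      congr 1
      obtain ⟨p, rfl⟩ := h.exists_grid hd
      obtain ⟨p', rfl⟩ := h.exists_grid hd'
      refine Subtype.ext ?_
      show h.L.grid p' * h.L.grid p = h.L.grid p * h.L.grid p'
      have key : ∀ p p' : Fin 3 × Fin 3, ((rot ^ (p'.1 : ℕ), cyc ^ (p'.2 : ℕ)) : Perm (Fin 3) ×
        Perm (Fin 5)) * (rot ^ (p.1 : ℕ), cyc ^ (p.2 : ℕ)) =
        (rot ^ (p.1 : ℕ), cyc ^ (p.2 : ℕ)) * (rot ^ (p'.1 : ℕ), cyc ^ (p'.2 : ℕ)) := by
        decide +kernel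
      simp only [Pair.grid, ← map_mul, key]
  have h27 : ¬ 27 ∣ Nat.card (C ⧸ Subgroup.zpowers t) := fun e =>
    h.sylow (e.trans ((Subgroup.card_quotient_dvd_card _).trans (Subgroup.card_subgroup_dvd_card C)))
  have hP : IsPGroup 3 S := IsPGroup.of_card (n := 2) (by rw [hScard]; norm_num)
  obtain ⟨P, hP'⟩ := hP.exists_le_sylow
  have hPeq : S = P := by
    refine Subgroup.eq_of_le_of_card_ge hP' ?_
    obtain ⟨k, hk⟩ := IsPGroup.iff_card.1 P.isPGroup'
    rw [hScard, hk]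
    by_contra hlt
    have hk3 : 3 ≤ k := by
      by_contra hk3
      interval_cases k <;> simp_all
    exact h27 ((pow_dvd_pow 3 hk3).trans (hk ▸ Subgroup.card_subgroup_dvd_card _))
  -- the quotient of the normaliser
  obtain ⟨N, hN⟩ : ∃ N : Subgroup G, N = Subgroup.normalizer (h.D : Set G) := ⟨_, rfl⟩
  have hNC : N ≤ C := fun g hg => (hCmem g).2 (h.comm_τ (hN ▸ hg))
  let θ : Subgroup.normalizer (h.D : Set G) →*
      Subgroup.normalizer (S : Set (C ⧸ Subgroup.zpowers t)) :=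
    (f.comp (Subgroup.inclusion (hN ▸ hNC))).codRestrict _ fun g => (hnorm _).1 g.2
  have hθsurj : Function.Surjective θ := by
    rintro ⟨q, hq⟩
    obtain ⟨g, rfl⟩ := hfsurj q
    exact ⟨⟨g, (hnorm g).2 hq⟩, Subtype.ext (congrArg f (Subtype.ext rfl))⟩
  let mkS := QuotientGroup.mk' (S.subgroupOf (Subgroup.normalizer (S : Set (C ⧸ Subgroup.zpowers t))))
  let θ' := mkS.comp θ
  have hθ' : Function.Surjective θ' := (QuotientGroup.mk'_surjective _).comp hθsurj
  let ψD : Subgroup.normalizer (h.D : Set G) →* DihedralGroup 4 := h.ψ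
  have hkereq : θ'.ker = ψD.ker := by
    ext g
    have e : g ∈ ψD.ker ↔ (g : G) * h.z = h.z * g ∧ (g : G) * h.w = h.w * g := h.ψ_ker g
    rw [e, MonoidHom.mem_ker, MonoidHom.comp_apply,
      QuotientGroup.mk'_apply, QuotientGroup.eq_one_iff, Subgroup.mem_subgroupOf]
    show f _ ∈ S ↔ _
    constructor
    · intro hg
      obtain ⟨d, hd, e⟩ := (hmemS _).1 hg
      have h1 : f ((⟨d, hDC hd⟩ : C)⁻¹ * Subgroup.inclusion (hN ▸ hNC) g) = 1 := by
        rw [map_mul, map_inv]; exact inv_mul_eq_one.2 e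
      have hg' : (g : G) = d ∨ (g : G) = d * h.τ := by
        refine ((hfker _).1 h1).imp (fun e' => ?_) (fun e' => ?_)
        · exact (inv_mul_eq_one.1 e').symm
        · exact (inv_mul_eq_iff_eq_mul).1 e'
      obtain ⟨p, rfl⟩ := h.exists_grid hd
      have c1 : Commute (h.L.grid p) h.z := by
        rw [h.L.grid_eq, h.L_w]
        exact ((Commute.refl h.z).pow_left _).mul_left
          ((show Commute h.w h.z from h.zw_comm.symm).pow_left _)
      have c2 : Commute (h.L.grid p) h.w := by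
        rw [h.L.grid_eq, h.L_w]
        exact ((show Commute h.z h.w from h.zw_comm).pow_left _).mul_left
          ((Commute.refl h.w).pow_left _)
      rcases hg' with e | e <;> rw [e]
      · exact ⟨c1.eq, c2.eq⟩
      · exact ⟨(c1.mul_left h.τ_z).eq, (c2.mul_left h.τ_w).eq⟩
    · rintro ⟨hz, hw⟩
      rw [← hSC]
      refine Subgroup.mem_centralizer_iff.2 fun q hq => ?_
      obtain ⟨d, hd, rfl⟩ := (hmemS q).1 hq
      rw [← map_mul, ← map_mul]
      refine congrArg f (Subtype.ext ?_)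
      show d * (g : G) = (g : G) * d
      obtain ⟨p, rfl⟩ := h.exists_grid hd
      rw [h.L.grid_eq, h.L_w]
      exact ((Commute.pow_left (show Commute h.z (g : G) from hz.symm) _).mul_left
        (Commute.pow_left (show Commute h.w (g : G) from hw.symm) _)).eq
  have eN : Subgroup.normalizer (S : Set (C ⧸ Subgroup.zpowers t)) ⧸
      S.subgroupOf (Subgroup.normalizer (S : Set (C ⧸ Subgroup.zpowers t))) ≃* DihedralGroup 4 :=
    ((QuotientGroup.quotientKerEquivOfSurjective θ' hθ').symm.trans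
      (QuotientGroup.quotientMulEquivOfEq hkereq)).trans
      (QuotientGroup.quotientKerEquivOfSurjective ψD h.ψ_surj)
  have hcent : ∀ x ∈ S, x ≠ 1 → Subgroup.centralizer ({x} : Set (C ⧸ Subgroup.zpowers t)) ≤
      Subgroup.normalizer (S : Set (C ⧸ Subgroup.zpowers t)) := by
    intro x hx hx1 q hq
    obtain ⟨d, hd, rfl⟩ := (hmemS x).1 hx
    obtain ⟨g, rfl⟩ := hfsurj q
    refine (hnorm g).1 (h.centralizer_τ_mem_le hd ?_ ?_ ((hCmem _).1 g.2))
    · intro e
      exact hx1 ((hfker _).2 (Or.inl e))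
    · exact hcen g d hd (Subgroup.mem_centralizer_singleton_iff.1 hq)
  rcases Cfsg.Agent.S3333.result P S hPeq hScard hSC eN hcent with hnor | hiso
  · left
    intro g hg
    have h1 : f ⟨g, (hCmem g).2 hg⟩ ∈ Subgroup.normalizer (S : Set (C ⧸ Subgroup.zpowers t)) := by
      haveI := hnor
      rw [Subgroup.normalizer_eq_top]
      exact Subgroup.mem_top _
    exact (hnorm ⟨g, (hCmem g).2 hg⟩).2 h1
  · right
    obtain ⟨e⟩ := hiso
    refine ⟨e.toMonoidHom.comp f, e.surjective.comp hfsurj, fun g => ?_⟩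
    rw [MonoidHom.comp_apply, MulEquiv.coe_toMonoidHom, MulEquiv.map_eq_one_iff, hfker]

end Hyp

end CfsgLib.SymEightLocal
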