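import Cfsg.Agent.SymEightLocal.Local

/-!
The hypothesis is symmetric in `z` and `w`.
-/

set_option autoImplicit false

namespace CfsgLib.SymEightLocal

open Equiv
open CfsgLib.AltEightLocal (cyc tail turn)

variable {G : Type*} [Group G]

namespace Hyp

theorem closure_comm (h : Hyp G) :
    Subgroup.closure {h.w, h.z} = Subgroup.closure {h.z, h.w} := by rw [Set.pair_comm]

/-- The two descriptions of the normaliser of `D`. -/
def normEquiv (h : Hyp G) : Subgroup.normalizer (Subgroup.closure {h.w, h.z} : Set G) ≃*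
    Subgroup.normalizer (Subgroup.closure {h.z, h.w} : Set G) :=
  MulEquiv.subgroupCongr (by rw [h.closure_comm])

/-- The hypothesis with `z` and `w` exchanged. -/
def symm (h : Hyp G) : Hyp G where
  z := h.w
  w := h.z
  n := h.n⁻¹
  L := h.M
  M := h.L
  L_w := h.M_z
  M_z := h.L_w
  n_z := by rw [← h.n_z]; group
  n_w := by
    rcases h.n_w with e | e
    · left; rw [← e]; group
    · right
      have e' : h.n * h.w⁻¹ * h.n⁻¹ = h.z := by
        rw [show h.n * h.w⁻¹ * h.n⁻¹ = (h.n * h.w * h.n⁻¹)⁻¹ by group, e, inv_inv]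
      calc h.n⁻¹ * h.z * h.n⁻¹⁻¹ = h.n⁻¹ * (h.n * h.w⁻¹ * h.n⁻¹) * h.n⁻¹⁻¹ := by rw [e']
        _ = h.w⁻¹ := by group
  n_s := by rw [← h.n_s]; group
  cy := by rw [← h.zw_comm]; exact h.cy
  cy_norm g hg := by
    rw [h.closure_comm]
    exact h.cy_norm g (by rwa [h.zw_comm])
  sylow := h.sylow
  ψ := h.ψ.comp h.normEquiv.toMonoidHom
  ψ_surj := h.ψ_surj.comp h.normEquiv.surjective
  ψ_ker g := (h.ψ_ker _).trans and_comm
  sq g hg := by
    rw [h.closure_comm] at hg ⊢
    exact h.sq g hg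

theorem symm_τ (h : Hyp G) : h.symm.τ = h.τ := h.τ_eq_M

theorem symm_caseB {h : Hyp G} (hB : h.CaseB) : h.symm.CaseB := ⟨hB.2, hB.1⟩

end Hyp

end CfsgLib.SymEightLocal
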