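import Cfsg.Agent.SymEightLocal.Perms

/-!
Pairs of permutations of five points with the same sign.
-/

set_option autoImplicit false

namespace CfsgLib.SymEightLocal

open Equiv
open CfsgLib.AltEightLocal (cyc tail turn)

/-- The pairs with the same sign. -/
abbrev Twin : Subgroup (Perm (Fin 5) × Perm (Fin 5)) :=
  (((Perm.sign).comp (MonoidHom.fst (Perm (Fin 5)) (Perm (Fin 5)))) *
    ((Perm.sign).comp (MonoidHom.snd (Perm (Fin 5)) (Perm (Fin 5))))).ker

theorem mem_twin {p : Perm (Fin 5) × Perm (Fin 5)} :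
    p ∈ Twin ↔ Perm.sign p.1 = Perm.sign p.2 := by
  rw [MonoidHom.mem_ker]
  show Perm.sign p.1 * Perm.sign p.2 = 1 ↔ _
  rcases Int.units_eq_one_or (Perm.sign p.1) with h | h <;>
    rcases Int.units_eq_one_or (Perm.sign p.2) with h' | h' <;> simp [h, h']

/-- `1` or `tail`, of the sign of the argument. -/
def tailOf : Perm (Fin 5) →* Perm (Fin 5) where
  toFun π := if Perm.sign π = 1 then 1 else tail
  map_one' := by simp
  map_mul' a b := by
    rcases Int.units_eq_one_or (Perm.sign a) with ha | ha <;>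
      rcases Int.units_eq_one_or (Perm.sign b) with hb | hb <;>
      simp [map_mul, ha, hb, five_facts.2.2.1]

theorem tailOf_sign (π : Perm (Fin 5)) : Perm.sign (tailOf π) = Perm.sign π := by
  rcases Int.units_eq_one_or (Perm.sign π) with h | h
  · simp [tailOf, h]
  · simp [tailOf, h, five_signs.2.1]

theorem tailOf_even {π : Perm (Fin 5)} (h : Perm.sign π = 1) : tailOf π = 1 := by simp [tailOf, h]

theorem tailOf_odd {π : Perm (Fin 5)} (h : Perm.sign π = -1) : tailOf π = tail := by
  simp [tailOf, h]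

theorem tailOf_cases (π : Perm (Fin 5)) : tailOf π = 1 ∨ tailOf π = tail :=
  (Int.units_eq_one_or (Perm.sign π)).imp tailOf_even tailOf_odd

theorem sign_tailOf_mul {σ π : Perm (Fin 5)} (h : Perm.sign σ = Perm.sign π) :
    Perm.sign (tailOf σ * π) = 1 := by
  rw [map_mul, tailOf_sign, ← h, Int.units_mul_self]

theorem tail_word :
    cyc * cyc * (cross * tail) * cyc * (cross * tail) * cyc * turn * (cross * tail) * cyc *
      (cross * tail) * cyc * (cross * tail) = tail := by decide +kernel

/-- The even permutations are generated by `cyc`, `turn` and `cross`. -/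
theorem alt_words : ∀ π : Perm (Fin 5), Perm.sign π = 1 →
    ∃ (i : Fin 5) (j : Fin 3) (k l : Fin 2), π = (cyc * cross) ^ (i : ℕ) *
      (cyc * cyc * cross * cyc * cross * cyc) ^ (j : ℕ) * turn ^ (k : ℕ) * cross ^ (l : ℕ) := by
  decide +kernel

theorem alt_closure {P : Subgroup (Perm (Fin 5))} (h1 : cyc ∈ P) (h2 : turn ∈ P) (h3 : cross ∈ P)
    {π : Perm (Fin 5)} (hπ : Perm.sign π = 1) : π ∈ P := by
  obtain ⟨i, j, k, l, rfl⟩ := alt_words π hπ
  exact mul_mem (mul_mem (mul_mem (pow_mem (mul_mem h1 h3) _) (pow_mem (mul_mem (mul_mem (mul_mem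
    (mul_mem (mul_mem h1 h1) h3) h1) h3) h1) _)) (pow_mem h2 _)) (pow_mem h3 _)

theorem cyc_cross_pow : (cyc * cross) ^ 5 = 1 := by decide +kernel

end CfsgLib.SymEightLocal
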