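import Cfsg.Agent.SymEightLocal.NoSix
import Cfsg.Agent.SymEightLocal.Symm
import Cfsg.Agent.SymEightLocal.Twin
import Cfsg.Agent.AltEightLocal.LocalModel

/-!
In the second case the two `A₅`s commute.
-/

set_option autoImplicit false
set_option linter.style.haveILetI false

namespace CfsgLib.SymEightLocal

open Equiv
open CfsgLib.AltEightLocal (cyc tail turn)

variable {G : Type*} [Group G]

namespace Hyp

variable {h : Hyp G}

theorem mem_normalizer_inverted (h : Hyp G) {g : G} (hg : g ∈ Subgroup.normalizer (h.D : Set G))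
    (hgs : g * h.s = h.s * g) : g * h.z * g⁻¹ = h.z ∨ g * h.z * g⁻¹ = h.z⁻¹ := by
  obtain ⟨⟨i, j⟩, hp⟩ := h.exists_grid (h.conj_mem hg h.z_mem)
  have h1 : h.L.al (mir, 1) * h.L.grid (i, j) * (h.L.al (mir, 1))⁻¹ = (h.L.grid (i, j))⁻¹ := by
    rw [← hp, show h.L.al (mir, 1) = h.s from rfl,
      show (g * h.z * g⁻¹)⁻¹ = g * h.z⁻¹ * g⁻¹ by group, ← h.s_z]
    calc h.s * (g * h.z * g⁻¹) * h.s⁻¹ = (h.s * g) * h.z * (h.s * g)⁻¹ := by group
      _ = _ := by rw [← hgs]; group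
  rw [h.L.grid_conj_mir, h.L.grid_inv] at h1
  have hj : j = 0 := (fin_three_facts j).1 (congrArg Prod.snd (h.L.grid_inj h1)).symm
  subst hj
  rw [hp]
  by_cases hi : i = 0
  · exfalso
    subst hi
    rw [h.L.grid_zero_zero] at hp
    exact h.L.ne (conj_eq_one_iff.1 hp)
  · rcases (fin_three_facts i).2 hi with rfl | rfl
    · left; exact h.z_grid.symm
    · right; refine Eq.trans ?_ (congrArg (·⁻¹) h.z_grid).symm; rw [h.L.grid_inv]; rfl

theorem CaseB.centralizer_four [Finite G] (hB : h.CaseB) {g : G} (hs : g * h.s = h.s * g)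
    (hr : g * h.r = h.r * g) (hτ : g * h.τ = h.τ * g) :
    ∃ i j k : Fin 2, g = h.s ^ (i : ℕ) * h.r ^ (j : ℕ) * h.τ ^ (k : ℕ) := by
  have hN := hB.centralizer_τ_le g hτ
  obtain ⟨x, rfl⟩ := h.L.surj g (h.mem_normalizer_inverted hN hs)
  rw [s, map_comm_iff h.L.al h.L.inj] at hs
  rw [hB.2, map_comm_iff h.L.al h.L.inj] at hr
  rw [τ, map_comm_iff h.L.al h.L.inj] at hτ
  have k3 : ∀ σ : Perm (Fin 3), σ * mir = mir * σ → ∃ i : Fin 2, σ = mir ^ (i : ℕ) := by
    decide +kernel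
  have k5 : ∀ π : Perm (Fin 5), π * turn = turn * π → π * tail = tail * π →
      ∃ j k : Fin 2, π = turn ^ (j : ℕ) * tail ^ (k : ℕ) := by decide +kernel
  obtain ⟨i, hi⟩ := k3 x.1 (congrArg Prod.fst hs)
  obtain ⟨j, k, hjk⟩ := k5 x.2 (congrArg Prod.snd hr) (congrArg Prod.snd hτ)
  refine ⟨i, j, k, ?_⟩
  rw [hB.2, s, τ, ← map_pow, ← map_pow, ← map_pow, ← map_mul, ← map_mul]
  exact congrArg h.L.al (Prod.ext (by simp [hi]) (by simp [hjk]))

/-- The commutator of `a` and `b` is `1` or `r`. -/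
theorem CaseB.commutator_cases [Finite G] (hB : h.CaseB) :
    h.b * h.a * h.b * h.a = 1 ∨ h.b * h.a * h.b * h.a = h.r := by
  have ha := h.a_sq
  have hb := h.b_sq
  have as : Commute h.a h.s := hB.a_s
  have ar : Commute h.a h.r := h.a_r
  have bs : Commute h.b h.s := h.b_s
  have br : Commute h.b h.r := hB.b_r
  have sr : Commute h.s h.r := hB.s_r
  have sτ : Commute h.s h.τ := h.τ_s.symm
  have rτ : Commute h.r h.τ := h.τ_r.symm
  have haτ : h.a * h.τ = h.s * h.τ * h.a := by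
    rw [← hB.a_τ_a, mul_assoc (h.a * h.τ), ha, mul_one]
  have hτa : h.τ * h.a = h.a * (h.s * h.τ) := by
    rw [← hB.a_τ_a, mul_assoc h.a h.τ, ← mul_assoc h.a, ha, one_mul]
  have hbτ : h.b * h.τ = h.r * h.τ * h.b := by
    rw [← hB.b_τ_b, mul_assoc (h.b * h.τ), hb, mul_one]
  obtain ⟨c, hc⟩ : ∃ c, c = h.b * h.a * h.b * h.a := ⟨_, rfl⟩
  -- the commutator commutes with `s`, `r` and `τ`
  have hcτ : c * h.τ = h.τ * c := by
    have e1 : h.b * h.a * h.b * h.a * h.τ = h.b * h.a * h.b * (h.s * h.τ * h.a) := by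
      rw [mul_assoc (h.b * h.a * h.b), haτ]
    have e2 : h.τ * h.b = h.b * (h.r * h.τ) := by
      rw [← hB.b_τ_b, mul_assoc h.b h.τ, ← mul_assoc h.b, hb, one_mul]
    have bsτ : h.b * (h.s * h.τ) = h.s * (h.r * h.τ) * h.b := by
      rw [← mul_assoc h.b, bs.eq, mul_assoc h.s h.b, hbτ]; group
    have asrτ : h.a * (h.s * (h.r * h.τ)) = h.r * h.τ * h.a := by
      calc h.a * (h.s * (h.r * h.τ)) = (h.a * h.s) * h.r * h.τ := by group
        _ = h.s * (h.a * h.r) * h.τ := by rw [as.eq]; group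
        _ = h.s * h.r * (h.a * h.τ) := by rw [ar.eq]; group
        _ = (h.s * h.r * h.s) * h.τ * h.a := by rw [haτ]; group
        _ = h.r * (h.s * h.s) * h.τ * h.a := by rw [sr.eq]; group
        _ = _ := by rw [h.s_sq, mul_one]
    rw [hc, e1]
    calc h.b * h.a * h.b * (h.s * h.τ * h.a) = h.b * h.a * (h.b * (h.s * h.τ)) * h.a := by group
      _ = h.b * (h.a * (h.s * (h.r * h.τ))) * h.b * h.a := by rw [bsτ]; group
      _ = h.b * (h.r * h.τ) * (h.a * h.b * h.a) := by rw [asrτ]; group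
      _ = h.τ * h.b * (h.a * h.b * h.a) := by rw [e2]
      _ = h.τ * (h.b * h.a * h.b * h.a) := by group
  obtain ⟨i, j, k, hijk⟩ := hB.centralizer_four (g := c)
    (by rw [hc]; exact (((bs.mul_left as).mul_left bs).mul_left as).eq)
    (by rw [hc]; exact (((br.mul_left ar).mul_left br).mul_left ar).eq) hcτ
  have hcac : c * h.a * c * h.a = 1 := by
    rw [hc]
    calc h.b * h.a * h.b * h.a * h.a * (h.b * h.a * h.b * h.a) * h.a
        = h.b * h.a * h.b * (h.a * h.a) * (h.b * h.a * h.b) * (h.a * h.a) := by group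
      _ = h.b * h.a * (h.b * h.b) * h.a * h.b := by rw [ha]; group
      _ = 1 := by rw [hb, mul_one, mul_assoc h.b h.a h.a, ha, mul_one, hb]
  obtain ⟨x, hx⟩ : ∃ x, x = h.s ^ (i : ℕ) * h.r ^ (j : ℕ) := ⟨_, rfl⟩
  have hxa : Commute x h.a := hx ▸ (as.symm.pow_left _).mul_left (ar.symm.pow_left _)
  have hxτ : Commute x h.τ := hx ▸ (sτ.pow_left _).mul_left (rτ.pow_left _)
  have hxx : x * x = 1 := by
    have e : ∀ (y : G) (i : Fin 2), y * y = 1 → y ^ (i : ℕ) * y ^ (i : ℕ) = 1 := fun y i hy => by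
      rw [← (Commute.refl y).mul_pow, hy, one_pow]
    rw [hx]
    calc h.s ^ (i : ℕ) * h.r ^ (j : ℕ) * (h.s ^ (i : ℕ) * h.r ^ (j : ℕ))
        = h.s ^ (i : ℕ) * (h.r ^ (j : ℕ) * h.s ^ (i : ℕ)) * h.r ^ (j : ℕ) := by group
      _ = h.s ^ (i : ℕ) * (h.s ^ (i : ℕ) * h.r ^ (j : ℕ)) * h.r ^ (j : ℕ) := by
        rw [(sr.pow_pow (i : ℕ) (j : ℕ)).eq]
      _ = (h.s ^ (i : ℕ) * h.s ^ (i : ℕ)) * (h.r ^ (j : ℕ) * h.r ^ (j : ℕ)) := by group
      _ = 1 := by rw [e _ _ h.s_sq, e _ _ h.r_sq, one_mul]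
  have hk : k = 0 := by
    rcases (show k = 0 ∨ k = 1 by omega) with rfl | rfl
    · rfl
    exfalso
    rw [hijk, ← hx, Fin.val_one, pow_one] at hcac
    refine h.L.ne ?_
    have hs1 : h.s = 1 := by
      calc h.s = (x * x) * (h.τ * (h.s * h.τ)) := by
            rw [hxx, one_mul, ← mul_assoc, h.τ_s, mul_assoc, h.τ_sq, mul_one]
        _ = x * (x * h.τ) * (h.s * h.τ) := by group
        _ = x * (h.τ * x) * (h.s * h.τ) := by rw [hxτ.eq]
        _ = x * h.τ * (x * (h.a * h.τ * h.a)) := by rw [hB.a_τ_a]; group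
        _ = x * h.τ * (x * h.a) * h.τ * h.a := by group
        _ = x * h.τ * (h.a * x) * h.τ * h.a := by rw [hxa.eq]
        _ = 1 := by rw [← hcac]; group
    exact absurd (congrArg Prod.fst (h.L.inj (hs1.trans h.L.al.map_one.symm))) rot_facts.2.2.2.1
  subst hk
  rw [← hc]
  rw [Fin.val_zero, pow_zero, mul_one] at hijk
  rcases (show i = 0 ∨ i = 1 by omega) with rfl | rfl
  · rcases (show j = 0 ∨ j = 1 by omega) with rfl | rfl
    · left; simpa using hijk
    · right; simpa using hijk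
  -- otherwise `b * τ` centralises `a`
  exfalso
  obtain ⟨v, hv⟩ : ∃ v, v = h.b * h.τ := ⟨_, rfl⟩
  have hvi : v⁻¹ = h.τ * h.b := by rw [hv, mul_inv_rev, inv_of_sq h.τ_sq, inv_of_sq hb]
  have hva : v * h.a * v⁻¹ = h.r ^ (j : ℕ) * h.a := by
    rw [Fin.val_one, pow_one] at hijk
    have e : h.b * h.a * h.b = c * h.a := by rw [hc, mul_assoc _ h.a h.a, ha, mul_one]
    calc v * h.a * v⁻¹ = h.b * (h.τ * h.a * h.τ) * h.b := by rw [hvi, hv]; group
      _ = h.b * (h.a * h.s * (h.τ * h.τ)) * h.b := by rw [hτa]; group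
      _ = h.b * h.a * (h.s * h.b) := by rw [h.τ_sq]; group
      _ = h.b * h.a * h.b * h.s := by rw [← bs.eq]; group
      _ = h.s * h.r ^ (j : ℕ) * (h.a * h.s) := by rw [e, hijk]; group
      _ = h.s * (h.r ^ (j : ℕ) * h.s) * h.a := by rw [as.eq]; group
      _ = h.s * (h.s * h.r ^ (j : ℕ)) * h.a := by rw [(sr.pow_right (j : ℕ)).eq]
      _ = _ := by rw [← mul_assoc h.s, h.s_sq, one_mul]
  have hvz : v * h.z * v⁻¹ = h.z := mul_inv_eq_iff_eq_mul.2
    (hv ▸ ((show Commute h.b h.z from h.b_z).mul_left (show Commute h.τ h.z from h.τ_z)).eq)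
  have h5 : (h.z * h.a) ^ 5 = 1 := by
    rw [← h.M_z, a, ← map_mul, ← map_pow, ← map_one h.M.al]
    exact congrArg h.M.al (Prod.ext (by simp) cyc_cross_pow)
  rcases (show j = 0 ∨ j = 1 by omega) with rfl | rfl
  · rw [Fin.val_zero, pow_zero, one_mul] at hva
    obtain ⟨P, hP⟩ : ∃ P : Subgroup (Perm (Fin 5)), P =
        (Subgroup.centralizer ({h.a} : Set G)).comap
          (h.L.al.comp (MonoidHom.inr (Perm (Fin 3)) (Perm (Fin 5)))) := ⟨_, rfl⟩
    have hmem : ∀ π, π ∈ P ↔ h.L.al (1, π) * h.a = h.a * h.L.al (1, π) := fun π => by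
      rw [hP, Subgroup.mem_comap, Subgroup.mem_centralizer_singleton_iff]; rfl
    have h1 : cyc ∈ P := (hmem _).2 (by rw [h.L_w]; exact h.a_w.symm)
    have h2 : turn ∈ P := (hmem _).2 (by rw [← hB.2]; exact h.a_r.symm)
    have h3 : cross * tail ∈ P := (hmem _).2 (by
      have e : h.L.al (1, cross * tail) = v := by
        rw [hv, b, τ, ← map_mul]; rfl
      rw [e]; exact mul_inv_eq_iff_eq_mul.1 hva)
    have h4 : tail ∈ P := by
      rw [← tail_word]
      exact mul_mem (mul_mem (mul_mem (mul_mem (mul_mem (mul_mem (mul_mem (mul_mem (mul_mem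
        (mul_mem (mul_mem h1 h1) h3) h1) h3) h1) h2) h3) h1) h3) h1) h3
    have hτa' : h.τ * h.a = h.a * h.τ := (hmem _).1 h4
    rw [hτa'] at hτa
    have hs1 : h.s = 1 := by
      have := mul_left_cancel hτa
      exact (mul_eq_right.1 this.symm)
    exact absurd (congrArg Prod.fst (h.L.inj (hs1.trans h.L.al.map_one.symm))) rot_facts.2.2.2.1
  · rw [Fin.val_one, pow_one] at hva
    have hrz : Commute h.r h.z := h.r_z
    have hr5 : h.r ^ 5 = h.r := by
      rw [pow_succ', show (4 : ℕ) = 2 * 2 from rfl, pow_mul, pow_two h.r, h.r_sq, one_pow, mul_one]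
    have h6 : (h.r * (h.z * h.a)) ^ 5 = 1 := by
      have e : v * (h.z * h.a) * v⁻¹ = h.r * (h.z * h.a) := by
        calc v * (h.z * h.a) * v⁻¹ = (v * h.z * v⁻¹) * (v * h.a * v⁻¹) := by group
          _ = h.z * h.r * h.a := by rw [hvz, hva, mul_assoc]
          _ = _ := by rw [← hrz.eq, mul_assoc]
      rw [← e, conj_pow, h5, mul_one, mul_inv_cancel]
    rw [((hrz.mul_right (show Commute h.r h.a from h.a_r.symm))).mul_pow, h5, mul_one, hr5] at h6
    exact absurd (congrArg Prod.fst (h.M.inj (h6.trans h.M.al.map_one.symm))) rot_facts.2.2.2.1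

theorem CaseB.a_b [Finite G] (hB : h.CaseB) : h.a * h.b = h.b * h.a := by
  obtain ⟨c, hc⟩ : ∃ c, h.b * h.a * h.b * h.a = c := ⟨_, rfl⟩
  have h2 : h.a * h.b * h.a * h.b = 1 ∨ h.a * h.b * h.a * h.b = h.s :=
    CaseB.commutator_cases (symm_caseB hB)
  have hinv : h.a * h.b * h.a * h.b = c⁻¹ := by
    rw [← hc, mul_inv_rev, mul_inv_rev, mul_inv_rev, inv_of_sq h.a_sq, inv_of_sq h.b_sq]
    group
  have hc1 : c = 1 := by
    rcases hB.commutator_cases with e | e
    · exact hc.symm.trans e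
    rcases h2 with e' | e'
    · rw [hinv] at e'; exact inv_eq_one.1 e'
    · exfalso
      rw [hinv, ← hc, e, inv_of_sq h.r_sq] at e'
      rw [s, hB.2] at e'
      exact rot_facts.2.2.2.1 (congrArg Prod.fst (h.L.inj e')).symm
  calc h.a * h.b = h.b * h.a * (h.b * h.a * h.b * h.a)⁻¹ * (h.b * h.b) := by
        rw [mul_inv_rev, mul_inv_rev, mul_inv_rev, inv_of_sq h.a_sq, inv_of_sq h.b_sq]
        simp only [mul_assoc]
        rw [← mul_assoc h.b h.b, h.b_sq]
        simp only [one_mul, mul_one]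
        rw [← mul_assoc h.a h.a, h.a_sq, one_mul, ← mul_assoc h.b h.b, h.b_sq, one_mul]
    _ = _ := by rw [hc, hc1, h.b_sq, inv_one, mul_one, mul_one]

/-- The two `A₅`s commute. -/
theorem CaseB.even_comm [Finite G] (hB : h.CaseB) {σ π : Perm (Fin 5)} (hσ : Perm.sign σ = 1)
    (hπ : Perm.sign π = 1) : h.M.al (1, σ) * h.L.al (1, π) = h.L.al (1, π) * h.M.al (1, σ) := by
  let S : Subgroup (Perm (Fin 5)) :=
    (Subgroup.centralizer ({h.L.al (1, π)} : Set G)).comap
      (h.M.al.comp (MonoidHom.inr (Perm (Fin 3)) (Perm (Fin 5))))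
  have hS : ∀ τ, τ ∈ S ↔ h.M.al (1, τ) * h.L.al (1, π) = h.L.al (1, π) * h.M.al (1, τ) :=
    fun τ => Subgroup.mem_centralizer_singleton_iff
  refine (hS σ).1 (alt_closure ((hS _).2 ?_) ((hS _).2 ?_) ((hS _).2 ?_) hσ)
  · rw [h.M_z]; exact (h.L.comm_snd π).symm
  · rw [← hB.1]; exact h.L.fst_comm_snd mir π
  · let T : Subgroup (Perm (Fin 5)) :=
      (Subgroup.centralizer ({h.a} : Set G)).comap
        (h.L.al.comp (MonoidHom.inr (Perm (Fin 3)) (Perm (Fin 5))))
    have hT : ∀ τ, τ ∈ T ↔ h.L.al (1, τ) * h.a = h.a * h.L.al (1, τ) :=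
      fun τ => Subgroup.mem_centralizer_singleton_iff
    refine ((hT π).1 (alt_closure ((hT _).2 ?_) ((hT _).2 ?_) ((hT _).2 hB.a_b.symm) hπ)).symm
    · rw [h.L_w]; exact h.a_w.symm
    · rw [← hB.2]; exact h.a_r.symm

theorem CaseB.exists_twin [Finite G] (hB : h.CaseB) :
    ∃ Φ : Twin →* G, Function.Injective Φ ∧
      ∀ x : Twin, Φ x = h.M.al (1, x.1.1) * h.L.al (1, tailOf x.1.1 * x.1.2) := by
  have g1 : ∀ a b : Perm (Fin 5), h.L.al (1, a) * h.L.al (1, b) = h.L.al (1, a * b) :=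
    fun a b => by rw [← map_mul]; rfl
  have gM : ∀ a b : Perm (Fin 5), h.M.al (1, a) * h.M.al (1, b) = h.M.al (1, a * b) :=
    fun a b => by rw [← map_mul]; rfl
  have swapL : ∀ (σ x : Perm (Fin 5)), Perm.sign x = 1 →
      h.L.al (1, x) * h.M.al (1, σ) = h.M.al (1, σ) * h.L.al (1, tailOf σ * x * tailOf σ) := by
    intro σ x hx
    rcases Int.units_eq_one_or (Perm.sign σ) with e | e
    · rw [tailOf_even e, one_mul, mul_one]
      exact (hB.even_comm e hx).symm
    · have hs : Perm.sign (σ * tail) = 1 := by rw [map_mul, e, five_signs.2.1]; rfl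
      have eσ : h.M.al (1, σ) = h.M.al (1, σ * tail) * h.τ := by
        rw [← h.τ_eq_M, gM, mul_assoc, five_facts.2.2.1, mul_one]
      rw [tailOf_odd e, eσ, ← mul_assoc, ← hB.even_comm hs hx, mul_assoc, mul_assoc]
      refine congrArg (h.M.al (1, σ * tail) * ·) ?_
      rw [τ, g1, g1, ← mul_assoc, ← mul_assoc, five_facts.2.2.1, one_mul]
  let Φ : Twin →* G :=
    { toFun := fun x => h.M.al (1, x.1.1) * h.L.al (1, tailOf x.1.1 * x.1.2)
      map_one' := by
        rw [Subgroup.coe_one, Prod.fst_one, Prod.snd_one, map_one, one_mul,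
          show ((1 : Perm (Fin 3)), (1 : Perm (Fin 5))) = 1 from rfl, map_one, map_one, one_mul]
      map_mul' := fun x y => by
        have hx := sign_tailOf_mul (mem_twin.1 x.2)
        rw [Subgroup.coe_mul, Prod.fst_mul, Prod.snd_mul, map_mul tailOf]
        symm
        calc h.M.al (1, x.1.1) * h.L.al (1, tailOf x.1.1 * x.1.2) *
              (h.M.al (1, y.1.1) * h.L.al (1, tailOf y.1.1 * y.1.2))
            = h.M.al (1, x.1.1) * (h.L.al (1, tailOf x.1.1 * x.1.2) * h.M.al (1, y.1.1)) *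
              h.L.al (1, tailOf y.1.1 * y.1.2) := by group
          _ = h.M.al (1, x.1.1) * (h.M.al (1, y.1.1) *
              h.L.al (1, tailOf y.1.1 * (tailOf x.1.1 * x.1.2) * tailOf y.1.1)) *
              h.L.al (1, tailOf y.1.1 * y.1.2) := by rw [swapL _ _ hx]
          _ = (h.M.al (1, x.1.1) * h.M.al (1, y.1.1)) *
              (h.L.al (1, tailOf y.1.1 * (tailOf x.1.1 * x.1.2) * tailOf y.1.1) *
              h.L.al (1, tailOf y.1.1 * y.1.2)) := by group
          _ = _ := by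
            rw [gM, g1]
            refine congrArg (fun t => h.M.al (1, x.1.1 * y.1.1) * h.L.al (1, t)) ?_
            have tt : tailOf y.1.1 * tailOf y.1.1 = 1 := by
              rcases tailOf_cases y.1.1 with e | e <;> rw [e]
              · simp
              · exact five_facts.2.2.1
            have tc : tailOf y.1.1 * tailOf x.1.1 = tailOf x.1.1 * tailOf y.1.1 := by
              rcases tailOf_cases x.1.1 with e | e <;> rcases tailOf_cases y.1.1 with e' | e' <;>
                rw [e, e'] <;> simp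
            calc tailOf y.1.1 * (tailOf x.1.1 * x.1.2) * tailOf y.1.1 * (tailOf y.1.1 * y.1.2)
                = (tailOf y.1.1 * tailOf x.1.1) * x.1.2 * (tailOf y.1.1 * tailOf y.1.1) * y.1.2 := by
                  group
              _ = _ := by rw [tt, tc]; group }
  refine ⟨Φ, (injective_iff_map_eq_one Φ).2 ?_, fun _ => rfl⟩
  rintro ⟨⟨σ, π⟩, hx⟩ e
  have hs := sign_tailOf_mul (mem_twin.1 hx)
  have e' : h.M.al (1, σ) = (h.L.al (1, tailOf σ * π))⁻¹ := eq_inv_of_mul_eq_one_left e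
  have h1 : σ = 1 := AltEightLocal.centralizer_alt σ fun ρ hρ => by
    have hc : Commute (h.M.al (1, ρ)) ((h.L.al (1, tailOf σ * π))⁻¹) :=
      (show Commute (h.M.al (1, ρ)) (h.L.al (1, tailOf σ * π)) from
        hB.even_comm hρ hs).inv_right
    rw [← e'] at hc
    have := hc.eq
    rw [map_comm_iff h.M.al h.M.inj] at this
    exact (congrArg Prod.snd this).symm
  subst h1
  rw [show ((1 : Perm (Fin 3)), (1 : Perm (Fin 5))) = 1 from rfl, map_one, eq_comm, inv_eq_one,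
    ← map_one h.L.al] at e'
  have h2 := congrArg Prod.snd (h.L.inj e')
  simp only [map_one, one_mul, Prod.snd_one] at h2
  exact Subtype.ext (Prod.ext rfl h2)

end Hyp

end CfsgLib.SymEightLocal
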