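import Cfsg.Agent.SymEightLocal.CentE

/-!
The normaliser of `Mx`: it contains `N(D)` and is `Mx * N(D)`.
-/

set_option autoImplicit false
set_option linter.style.haveILetI false

namespace CfsgLib.SymEightLocal

open Equiv
open CfsgLib.AltEightLocal (cyc tail turn)

variable {G : Type*} [Group G]

theorem alt_norm_cyc_card : Fintype.card {σ : Perm (Fin 5) //
    Perm.sign σ = 1 ∧ (σ * cyc * σ⁻¹ = cyc ∨ σ * cyc * σ⁻¹ = cyc⁻¹)} = 6 := by decide +kernel

theorem norm_cyc_card : Fintype.card {σ : Perm (Fin 5) //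
    σ * cyc * σ⁻¹ = cyc ∨ σ * cyc * σ⁻¹ = cyc⁻¹} = 12 := by decide +kernel

theorem cyc_pow_cases : ∀ i : Fin 3,
    cyc ^ (i : ℕ) = 1 ∨ cyc ^ (i : ℕ) = cyc ∨ cyc ^ (i : ℕ) = cyc⁻¹ := by decide +kernel

theorem three_forms : ∀ σ : Perm (Fin 3),
    ∃ (i : Fin 3) (j : Fin 2), σ = rot ^ (i : ℕ) * mir ^ (j : ℕ) := by decide +kernel

namespace Hyp.Twinned

variable {h : Hyp G} (d : h.Twinned)
include d

theorem el_pow {σ π : Perm (Fin 5)} (e : Perm.sign σ = Perm.sign π) (n : ℕ) :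
    d.el σ π e ^ n = d.el (σ ^ n) (π ^ n) (by rw [map_pow, map_pow, e]) := by
  rw [el, el, ← map_pow]; rfl

theorem z_mem_Mx : h.z ∈ d.Mx := by
  rw [← h.M_z]; exact d.M_mem_Mx five_signs.1

theorem w_mem_Mx : h.w ∈ d.Mx := by
  rw [← h.L_w]; exact d.L_mem_Mx five_signs.1

theorem D_le_Mx : h.D ≤ d.Mx := by
  rw [Hyp.D, Subgroup.closure_le]
  rintro x (rfl | rfl)
  exacts [d.z_mem_Mx, d.w_mem_Mx]

theorem card_Mx : Nat.card d.Mx = 3600 := by
  rw [Mx, ← Nat.card_congr (MonoidHom.ofInjective d.ιMx_inj).toEquiv, Nat.card_prod,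
    nat_card_alternatingGroup, Nat.card_fin]
  rfl

theorem grid_el (p : Fin 3 × Fin 3) : h.L.grid p =
    d.el (cyc ^ (p.1 : ℕ)) (cyc ^ (p.2 : ℕ)) (by simp [five_signs.1]) := by
  rw [h.L.grid_eq, h.L_w, d.z_el, d.w_el, d.el_pow, d.el_pow, d.el_mul]
  exact d.el_congr _ (by simp) (by simp)

theorem el_mem_normalizer_D {σ π : Perm (Fin 5)} (e : Perm.sign σ = Perm.sign π) :
    d.el σ π e ∈ Subgroup.normalizer (h.D : Set G) ↔
      ((σ * cyc * σ⁻¹ = cyc ∨ σ * cyc * σ⁻¹ = cyc⁻¹) ∧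
        (π * cyc * π⁻¹ = cyc ∨ π * cyc * π⁻¹ = cyc⁻¹)) := by
  have hz : d.el σ π e * h.z * (d.el σ π e)⁻¹ =
      d.el (σ * cyc * σ⁻¹) 1 (by simp [five_signs.1]) := by
    rw [d.z_el, d.el_conj]; exact d.el_congr _ rfl (by simp)
  have hw : d.el σ π e * h.w * (d.el σ π e)⁻¹ =
      d.el 1 (π * cyc * π⁻¹) (by simp [five_signs.1]) := by
    rw [d.w_el, d.el_conj]; exact d.el_congr _ (by simp) rfl
  constructor
  · intro he
    obtain ⟨p, hp⟩ := h.exists_grid (h.conj_mem he h.z_mem)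
    obtain ⟨q, hq⟩ := h.exists_grid (h.conj_mem he h.w_mem)
    rw [hz, d.grid_el] at hp
    rw [hw, d.grid_el] at hq
    refine ⟨?_, ?_⟩
    · rcases cyc_pow_cases p.1 with e' | e' | e'
      · exact absurd (conj_eq_one_iff.1 ((d.el_inj hp).1.trans e')) five_facts.2.1
      · exact Or.inl ((d.el_inj hp).1.trans e')
      · exact Or.inr ((d.el_inj hp).1.trans e')
    · rcases cyc_pow_cases q.2 with e' | e' | e'
      · exact absurd (conj_eq_one_iff.1 ((d.el_inj hq).2.trans e')) five_facts.2.1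
      · exact Or.inl ((d.el_inj hq).2.trans e')
      · exact Or.inr ((d.el_inj hq).2.trans e')
  · rintro ⟨h1, h2⟩
    refine h.mem_normalizer ?_ ?_
    · rw [hz]
      rcases h1 with e' | e'
      · rw [show d.el (σ * cyc * σ⁻¹) 1 _ = h.z from
          (d.el_congr _ e' rfl).trans d.z_el.symm]
        exact h.z_mem
      · rw [show d.el (σ * cyc * σ⁻¹) 1 _ = h.z⁻¹ by
          rw [d.z_el, d.el_inv]; exact d.el_congr _ e' inv_one.symm]
        exact inv_mem h.z_mem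
    · rw [hw]
      rcases h2 with e' | e'
      · rw [show d.el 1 (π * cyc * π⁻¹) _ = h.w from
          (d.el_congr _ rfl e').trans d.w_el.symm]
        exact h.w_mem
      · rw [show d.el 1 (π * cyc * π⁻¹) _ = h.w⁻¹ by
          rw [d.w_el, d.el_inv]; exact d.el_congr _ inv_one.symm e']
        exact inv_mem h.w_mem

/-- `N(D)` meets `Mx` in a subgroup of order 36. -/
theorem card_normalizer_inf_Mx [Finite G] :
    Nat.card {g : G // g ∈ Subgroup.normalizer (h.D : Set G) ∧ g ∈ d.Mx} = 36 := by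
  let A : Type := {σ : Perm (Fin 5) //
    Perm.sign σ = 1 ∧ (σ * cyc * σ⁻¹ = cyc ∨ σ * cyc * σ⁻¹ = cyc⁻¹)}
  let F : A × A → {g : G // g ∈ Subgroup.normalizer (h.D : Set G) ∧ g ∈ d.Mx} := fun p =>
    ⟨d.el p.1.1 p.2.1 (p.1.2.1.trans p.2.2.1.symm),
      (d.el_mem_normalizer_D _).2 ⟨p.1.2.2, p.2.2.2⟩, d.el_mem_Mx _ p.1.2.1⟩
  have hF : Function.Bijective F := by
    refine ⟨fun p q e => ?_, ?_⟩
    · have e₁ : d.el p.1.1 p.2.1 (p.1.2.1.trans p.2.2.1.symm) =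
          d.el q.1.1 q.2.1 (q.1.2.1.trans q.2.2.1.symm) := congrArg Subtype.val e
      have e' := d.el_inj e₁
      exact Prod.ext (Subtype.ext e'.1) (Subtype.ext e'.2)
    · rintro ⟨g, hgN, hgM⟩
      obtain ⟨σ, π, e, hσ, rfl⟩ := d.exists_el_Mx hgM
      obtain ⟨h1, h2⟩ := (d.el_mem_normalizer_D e).1 hgN
      exact ⟨(⟨σ, hσ, h1⟩, ⟨π, e ▸ hσ, h2⟩), rfl⟩
  rw [← Nat.card_congr (Equiv.ofBijective F hF), Nat.card_prod, Nat.card_eq_fintype_card,
    alt_norm_cyc_card]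

theorem n_not_mem_range : h.n ∉ d.Φ.range := by
  intro hn
  obtain ⟨σ, π, e, hel⟩ := d.exists_el hn
  have h1 := h.n_z
  rw [hel, d.z_el, d.el_conj, d.w_el] at h1
  exact five_facts.2.1 (conj_eq_one_iff.1 (d.el_inj h1).1)

theorem L_mem_range (x : Perm (Fin 3) × Perm (Fin 5)) : h.L.al x ∈ d.Φ.range := by
  obtain ⟨σ, π⟩ := x
  obtain ⟨i, j, rfl⟩ := three_forms σ
  have e : ((rot ^ (i : ℕ) * mir ^ (j : ℕ), π) : Perm (Fin 3) × Perm (Fin 5)) =
      (rot, 1) ^ (i : ℕ) * (mir, 1) ^ (j : ℕ) * (1, π) := by simp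
  rw [e, map_mul, map_mul, map_pow, map_pow, h.L.al_rot]
  refine mul_mem (mul_mem (pow_mem ?_ _) (pow_mem ?_ _)) (d.el_L π ▸ d.el_range _)
  · exact d.Mx_le_range d.z_mem_Mx
  · rw [show h.L.al (mir, 1) = h.s from rfl, d.s_el]; exact d.el_range _

/-- `N(D)` normalises `Mx`. -/
theorem normalizer_D_le [Finite G] :
    Subgroup.normalizer (h.D : Set G) ≤ Subgroup.normalizer (d.Mx : Set G) := by
  obtain ⟨S, hS⟩ : ∃ S : Subgroup G,
      S = Subgroup.normalizer (h.D : Set G) ⊓ Subgroup.normalizer (d.Mx : Set G) := ⟨_, rfl⟩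
  let A : Type := Perm (Fin 3) × {σ : Perm (Fin 5) //
    σ * cyc * σ⁻¹ = cyc ∨ σ * cyc * σ⁻¹ = cyc⁻¹}
  have hA : ∀ x : A, h.L.al (x.1, x.2.1) ∈ S := fun x => by
    rw [hS]
    exact ⟨h.mem_normalizer_of_al _ _ x.2.2, d.range_le_normalizer (d.L_mem_range _)⟩
  have hn : h.n ∈ S := by
    rw [hS]; exact ⟨h.n_mem, d.n_mem_normalizer⟩
  let F : A ⊕ A → S := fun x => x.elim (fun a => ⟨_, hA a⟩) (fun a => ⟨_, mul_mem hn (hA a)⟩)
  have hF : Function.Injective F := by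
    have hno : ∀ a b : A, h.L.al (a.1, a.2.1) ≠ h.n * h.L.al (b.1, b.2.1) := fun a b e =>
      d.n_not_mem_range (by
        have := mul_mem (d.L_mem_range (a.1, a.2.1)) (inv_mem (d.L_mem_range (b.1, b.2.1)))
        rwa [e, mul_inv_cancel_right] at this)
    have hval : ∀ a b : A, h.L.al (a.1, a.2.1) = h.L.al (b.1, b.2.1) → a = b := fun a b e =>
      Prod.ext (congrArg Prod.fst (h.L.inj e) :) (Subtype.ext (congrArg Prod.snd (h.L.inj e) :))
    rintro (a | a) (b | b) e <;> have e' := congrArg Subtype.val e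
    · exact congrArg Sum.inl (hval a b e')
    · exact absurd e' (hno a b)
    · exact absurd e'.symm (hno b a)
    · exact congrArg Sum.inr (hval a b (mul_left_cancel e'))
  have hcard : 144 ≤ Nat.card S := by
    refine le_trans (le_of_eq ?_) (Nat.card_le_card_of_injective F hF)
    rw [Nat.card_sum, Nat.card_prod, Nat.card_perm, Nat.card_fin,
      Nat.card_eq_fintype_card, norm_cyc_card]
    rfl
  have heq : S = Subgroup.normalizer (h.D : Set G) :=
    Subgroup.eq_of_le_of_card_ge (hS ▸ inf_le_left) (d.card_normalizer.le.trans hcard)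
  rw [← heq, hS]
  exact inf_le_right

/-- The Frattini argument in `Mx`. -/
theorem exists_mul_mem_normalizer [Finite G] {x : G}
    (hx : x ∈ Subgroup.normalizer (d.Mx : Set G)) :
    ∃ u ∈ d.Mx, u * x ∈ Subgroup.normalizer (h.D : Set G) := by
  haveI : Fact (Nat.Prime 3) := ⟨Nat.prime_three⟩
  obtain ⟨M, hM⟩ : ∃ M : Subgroup G, M = d.Mx := ⟨_, rfl⟩
  have mk : ∀ E : Subgroup G, E ≤ M → Nat.card E = 9 → ∃ Q : Sylow 3 M,
      (Q : Subgroup M) = E.subgroupOf M := by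
    intro E hE hE9
    have hc : Nat.card (E.subgroupOf M) = 9 := by
      rw [Nat.card_congr (Subgroup.subgroupOfEquivOfLe hE).toEquiv, hE9]
    have hp : IsPGroup 3 (E.subgroupOf M) := IsPGroup.of_card (n := 2) (by rw [hc]; norm_num)
    refine ⟨hp.toSylow ?_, rfl⟩
    intro e
    have h1 := (E.subgroupOf M).card_mul_index
    rw [hc, hM, d.card_Mx] at h1
    obtain ⟨j, hj⟩ := e
    subst hM
    omega
  obtain ⟨Q, hQ⟩ := mk h.D (hM ▸ d.D_le_Mx) h.card_D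
  obtain ⟨Q', hQ'⟩ := mk (h.D.map (MulAut.conj x).toMonoidHom) (by
    rintro _ ⟨e, he, rfl⟩
    rw [hM]
    exact (Subgroup.mem_normalizer_iff.1 hx e).1 (d.D_le_Mx he)) (by
    rw [Subgroup.card_map_of_injective (f := (MulAut.conj x).toMonoidHom)
      (MulAut.conj x).injective, h.card_D])
  obtain ⟨u, hu⟩ := MulAction.exists_smul_eq M Q' Q
  have key : ∀ e ∈ h.D, (u : G) * x * e * ((u : G) * x)⁻¹ ∈ h.D := by
    intro e he
    have hm : x * e * x⁻¹ ∈ M := by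
      rw [hM]; exact (Subgroup.mem_normalizer_iff.1 hx e).1 (d.D_le_Mx he)
    have h1 : (⟨x * e * x⁻¹, hm⟩ : M) ∈ (Q' : Subgroup M) := by
      rw [hQ', Subgroup.mem_subgroupOf]; exact ⟨e, he, rfl⟩
    have h2 : u * ⟨x * e * x⁻¹, hm⟩ * u⁻¹ ∈ (Q : Subgroup M) := by
      rw [← hu]
      exact Subgroup.smul_mem_pointwise_smul _ (MulAut.conj u) _ h1
    rw [hQ, Subgroup.mem_subgroupOf] at h2
    push_cast at h2
    rwa [show (u : G) * x * e * ((u : G) * x)⁻¹ = (u : G) * (x * e * x⁻¹) * (u : G)⁻¹ by group]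
  exact ⟨u, hM ▸ u.2, h.mem_normalizer (key _ h.z_mem) (key _ h.w_mem)⟩

end Hyp.Twinned

end CfsgLib.SymEightLocal
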