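import Cfsg.Agent.SymEightLocal.Setup

/-!
`D`, the involution `τ` centralising it, and the two cases according to whether `s` is conjugate
to `τ`.
-/

set_option autoImplicit false
set_option linter.style.haveILetI false

namespace CfsgLib.SymEightLocal

open Equiv
open CfsgLib.AltEightLocal (cyc tail turn)

variable {G : Type*} [Group G]

namespace Hyp

variable (h : Hyp G)

/-- The Sylow 3-subgroup. -/
def D : Subgroup G := Subgroup.closure {h.z, h.w}

/-- The involution centralising `D`. -/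
def τ : G := h.L.al (1, tail)

/-- The inverter of `z` centralising the `S₅`. -/
def s : G := h.L.al (mir, 1)

/-- The inverter of `w` centralising the `S₅`. -/
def r : G := h.M.al (mir, 1)

theorem grid_mem (p : Fin 3 × Fin 3) : h.L.grid p ∈ h.D := by
  rw [h.L.grid_eq, h.L_w]
  exact mul_mem (pow_mem (Subgroup.subset_closure (by simp)) _)
    (pow_mem (Subgroup.subset_closure (by simp)) _)

theorem z_mem : h.z ∈ h.D := Subgroup.subset_closure (by simp)

theorem w_mem : h.w ∈ h.D := Subgroup.subset_closure (by simp)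

theorem z_grid : h.z = h.L.grid (1, 0) := by rw [h.L.grid_eq]; simp

theorem w_grid : h.w = h.L.grid (0, 1) := by rw [h.L.grid_eq, h.L_w]; simp

theorem exists_grid {g : G} (hg : g ∈ h.D) : ∃ p, g = h.L.grid p := by
  have kmul : ∀ p q : Fin 3 × Fin 3,
      (rot ^ (p.1 : ℕ) * rot ^ (q.1 : ℕ), cyc ^ (p.2 : ℕ) * cyc ^ (q.2 : ℕ)) =
      (rot ^ ((p.1 + q.1 : Fin 3) : ℕ), cyc ^ ((p.2 + q.2 : Fin 3) : ℕ)) := by decide +kernel
  induction hg using Subgroup.closure_induction with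
  | mem x hx =>
    rcases hx with rfl | rfl
    · exact ⟨_, h.z_grid⟩
    · exact ⟨_, h.w_grid⟩
  | one => exact ⟨(0, 0), h.L.grid_zero_zero.symm⟩
  | mul x y _ _ hx hy =>
    obtain ⟨p, rfl⟩ := hx
    obtain ⟨q, rfl⟩ := hy
    refine ⟨(p.1 + q.1, p.2 + q.2), ?_⟩
    show h.L.al _ * h.L.al _ = h.L.al _
    rw [← map_mul, Prod.mk_mul_mk, kmul]
  | inv x _ hx =>
    obtain ⟨p, rfl⟩ := hx
    exact ⟨_, h.L.grid_inv p⟩

theorem card_D : Nat.card h.D = 9 := by
  rw [← Nat.card_congr (Equiv.ofBijective (fun p => (⟨h.L.grid p, h.grid_mem p⟩ : h.D))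
    ⟨fun p q e => h.L.grid_inj (congrArg Subtype.val e), fun g => by
      obtain ⟨p, hp⟩ := h.exists_grid g.2
      exact ⟨p, Subtype.ext hp.symm⟩⟩), Nat.card_prod, Nat.card_eq_fintype_card, Fintype.card_fin]

theorem zw_comm : h.z * h.w = h.w * h.z := by rw [← h.L_w]; exact (h.L.comm_snd cyc).symm

theorem w_cube : h.w * h.w * h.w = 1 := h.M.cube

theorem mem_normalizer {g : G} (hz : g * h.z * g⁻¹ ∈ h.D) (hw : g * h.w * g⁻¹ ∈ h.D) :
    g ∈ Subgroup.normalizer (h.D : Set G) := by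
  haveI : Finite h.D := Nat.finite_of_card_ne_zero (by rw [h.card_D]; norm_num)
  rw [Subgroup.mem_normalizer_iff_map_conj_eq]
  refine Subgroup.eq_of_le_of_card_ge ?_ (le_of_eq
    (Subgroup.card_map_of_injective (f := (MulAut.conj g).toMonoidHom)
      (MulAut.conj g).injective).symm)
  rintro _ ⟨d, hd, rfl⟩
  obtain ⟨p, rfl⟩ := h.exists_grid hd
  show g * h.L.grid p * g⁻¹ ∈ h.D
  rw [h.L.grid_eq, h.L_w, show g * (h.z ^ (p.1 : ℕ) * h.w ^ (p.2 : ℕ)) * g⁻¹ =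
    (g * h.z * g⁻¹) ^ (p.1 : ℕ) * (g * h.w * g⁻¹) ^ (p.2 : ℕ) by rw [conj_pow, conj_pow]; group]
  exact mul_mem (pow_mem hz _) (pow_mem hw _)

theorem conj_mem {g : G} (hg : g ∈ Subgroup.normalizer (h.D : Set G)) {d : G} (hd : d ∈ h.D) :
    g * d * g⁻¹ ∈ h.D := (Subgroup.mem_normalizer_iff.1 hg d).1 hd

theorem n_mem : h.n ∈ Subgroup.normalizer (h.D : Set G) := by
  refine h.mem_normalizer (h.n_z ▸ h.w_mem) ?_
  rcases h.n_w with e | e <;> rw [e]
  exacts [h.z_mem, inv_mem h.z_mem]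

theorem of_centralizes {g : G} (hz : g * h.z = h.z * g) (hw : g * h.w = h.w * g) :
    ∃ (i j : Fin 3) (k : Fin 2),
      g = h.L.al (rot ^ (i : ℕ), cyc ^ (j : ℕ) * tail ^ (k : ℕ)) := by
  obtain ⟨x, hx, rfl⟩ := h.L.of_commute hz
  rw [← h.L_w, map_comm_iff h.L.al h.L.inj] at hw
  have key : ∀ σ : Perm (Fin 3), σ * rot = rot * σ → ∃ i : Fin 3, σ = rot ^ (i : ℕ) := by
    decide +kernel
  obtain ⟨i, hi⟩ := key x.1 hx
  obtain ⟨j, k, hjk⟩ := five_centralizer_cyc x.2 (congrArg Prod.snd hw)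
  exact ⟨i, j, k, by rw [← hi, ← hjk]⟩

theorem τ_sq : h.τ * h.τ = 1 := by
  rw [τ, ← map_mul, ← map_one h.L.al]
  exact congrArg h.L.al (Prod.ext (by simp) five_facts.2.2.1)

theorem τ_ne : h.τ ≠ 1 := fun e => five_facts.2.2.2.1
  (congrArg Prod.snd (h.L.inj (e.trans h.L.al.map_one.symm)))

theorem τ_z : h.τ * h.z = h.z * h.τ := h.L.comm_snd tail

theorem τ_w : h.τ * h.w = h.w * h.τ := by
  rw [τ, ← h.L_w, map_comm_iff h.L.al h.L.inj]
  exact Prod.ext rfl five_facts.2.2.2.2.2.2.2.1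

theorem eq_τ {g : G} (hg : g * g = 1) (hg1 : g ≠ 1) (hz : g * h.z = h.z * g)
    (hw : g * h.w = h.w * g) : g = h.τ := by
  obtain ⟨i, j, k, rfl⟩ := h.of_centralizes hz hw
  have key : ∀ (i j : Fin 3) (k : Fin 2),
      ((rot ^ (i : ℕ), cyc ^ (j : ℕ) * tail ^ (k : ℕ)) : Perm (Fin 3) × Perm (Fin 5)) *
        (rot ^ (i : ℕ), cyc ^ (j : ℕ) * tail ^ (k : ℕ)) = 1 →
      (rot ^ (i : ℕ), cyc ^ (j : ℕ) * tail ^ (k : ℕ)) ≠ (1 : Perm (Fin 3) × Perm (Fin 5)) →
      (rot ^ (i : ℕ), cyc ^ (j : ℕ) * tail ^ (k : ℕ)) = ((1, tail) : Perm (Fin 3) × Perm (Fin 5)) := by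
    decide +kernel
  refine congrArg h.L.al (key i j k (h.L.inj (by rw [map_mul, map_one]; exact hg)) ?_)
  exact fun e => hg1 (by rw [e, map_one])

theorem τ_eq_M : h.M.al (1, tail) = h.τ := by
  refine h.eq_τ ?_ (fun e => five_facts.2.2.2.1
    (congrArg Prod.snd (h.M.inj (e.trans h.M.al.map_one.symm)))) ?_ (h.M.comm_snd tail)
  · rw [← map_mul, ← map_one h.M.al]
    exact congrArg h.M.al (Prod.ext (by simp) five_facts.2.2.1)
  · rw [← h.M_z, map_comm_iff h.M.al h.M.inj]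
    exact Prod.ext rfl five_facts.2.2.2.2.2.2.2.1

theorem conj_τ {g : G} (hg : g ∈ Subgroup.normalizer (h.D : Set G)) :
    g * h.τ * g⁻¹ = h.τ := by
  have hc : ∀ d ∈ h.D, h.τ * d = d * h.τ := by
    intro d hd
    obtain ⟨p, rfl⟩ := h.exists_grid hd
    rw [h.L.grid_eq, h.L_w]
    exact ((Commute.pow_right (show Commute h.τ h.z from h.τ_z) _).mul_right
      (Commute.pow_right (show Commute h.τ h.w from h.τ_w) _)).eq
  have hinv : ∀ d ∈ h.D, g * h.τ * g⁻¹ * d = d * (g * h.τ * g⁻¹) := by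
    intro d hd
    have h1 := hc _ (h.conj_mem (inv_mem hg) hd)
    calc g * h.τ * g⁻¹ * d = g * (h.τ * (g⁻¹ * d * g⁻¹⁻¹)) * g⁻¹ := by group
      _ = _ := by rw [h1]; group
  refine h.eq_τ ?_ (fun e => h.τ_ne (conj_eq_one_iff.1 e)) (hinv _ h.z_mem) (hinv _ h.w_mem)
  calc g * h.τ * g⁻¹ * (g * h.τ * g⁻¹) = g * (h.τ * h.τ) * g⁻¹ := by group
    _ = 1 := by rw [h.τ_sq]; group

theorem comm_τ {g : G} (hg : g ∈ Subgroup.normalizer (h.D : Set G)) : g * h.τ = h.τ * g :=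
  mul_inv_eq_iff_eq_mul.1 (h.conj_τ hg)

theorem s_z : h.s * h.z * h.s⁻¹ = h.z⁻¹ := h.L.mir_inverts

theorem r_w : h.r * h.w * h.r⁻¹ = h.w⁻¹ := h.M.mir_inverts

theorem s_w : h.s * h.w = h.w * h.s := by rw [s, ← h.L_w]; exact h.L.fst_comm_snd mir cyc

theorem r_z : h.r * h.z = h.z * h.r := by rw [r, ← h.M_z]; exact h.M.fst_comm_snd mir cyc

theorem s_sq : h.s * h.s = 1 := by
  rw [s, ← map_mul, ← map_one h.L.al]
  exact congrArg h.L.al (Prod.ext rot_facts.2.2.1 (by simp))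

theorem r_sq : h.r * h.r = 1 := by
  rw [r, ← map_mul, ← map_one h.M.al]
  exact congrArg h.M.al (Prod.ext rot_facts.2.2.1 (by simp))

theorem τ_s : h.τ * h.s = h.s * h.τ := (h.L.fst_comm_snd mir tail).symm

theorem τ_r : h.τ * h.r = h.r * h.τ := by
  rw [← h.τ_eq_M]; exact (h.M.fst_comm_snd mir tail).symm

theorem n_s' : h.n * h.s * h.n⁻¹ = h.r := h.n_s

theorem mem_normalizer_of_al (π : Perm (Fin 5)) (σ : Perm (Fin 3))
    (hπ : π * cyc * π⁻¹ = cyc ∨ π * cyc * π⁻¹ = cyc⁻¹) :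
    h.L.al (σ, π) ∈ Subgroup.normalizer (h.D : Set G) := by
  refine h.mem_normalizer ?_ ?_
  · rcases h.L.mem_normalizer (σ, π) with e | e <;> rw [e]
    exacts [h.z_mem, inv_mem h.z_mem]
  · have e : h.L.al (σ, π) * h.w * (h.L.al (σ, π))⁻¹ = h.L.al (1, π * cyc * π⁻¹) := by
      rw [← h.L_w, map_conj]
      exact congrArg h.L.al (Prod.ext (by simp) rfl)
    rw [e]
    rcases hπ with e | e <;> rw [e]
    · rw [h.L_w]; exact h.w_mem
    · rw [show ((1 : Perm (Fin 3)), cyc⁻¹) = ((1, cyc) : Perm (Fin 3) × Perm (Fin 5))⁻¹ by simp,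
        map_inv, h.L_w]
      exact inv_mem h.w_mem

/-- The common centraliser of `τ` and an element of order three of `D` has order 36. -/
theorem card_centralizer_τ_mem [Finite G] {d : G} (hd : d ∈ h.D) (hd1 : d ≠ 1) :
    Nat.card {g : G // g * d = d * g ∧ g * h.τ = h.τ * g} = 36 := by
  obtain ⟨⟨i, j⟩, rfl⟩ := h.exists_grid hd
  have conjcard : ∀ k ∈ Subgroup.normalizer (h.D : Set G), ∀ x : G,
      Nat.card {g : G // g * (k * x * k⁻¹) = k * x * k⁻¹ * g ∧ g * h.τ = h.τ * g} =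
        Nat.card {g : G // g * x = x * g ∧ g * h.τ = h.τ * g} := by
    intro k hk x
    refine Nat.card_congr (Equiv.subtypeEquiv (MulAut.conj k).symm.toEquiv fun g => ?_)
    show _ ↔ k⁻¹ * g * k * x = x * (k⁻¹ * g * k) ∧ k⁻¹ * g * k * h.τ = h.τ * (k⁻¹ * g * k)
    have hτ := h.conj_τ hk
    refine and_congr ⟨fun e => ?_, fun e => ?_⟩ ⟨fun e => ?_, fun e => ?_⟩
    · calc k⁻¹ * g * k * x = k⁻¹ * (g * (k * x * k⁻¹)) * k := by group
        _ = _ := by rw [e]; group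
    · calc g * (k * x * k⁻¹) = k * (k⁻¹ * g * k * x) * k⁻¹ := by group
        _ = _ := by rw [e]; group
    · calc k⁻¹ * g * k * h.τ = k⁻¹ * (g * (k * h.τ * k⁻¹)) * k := by group
        _ = k⁻¹ * ((k * h.τ * k⁻¹) * g) * k := by rw [hτ, e]
        _ = _ := by group
    · calc g * h.τ = k * (k⁻¹ * g * k * (k⁻¹ * h.τ * k)) * k⁻¹ := by group
        _ = k * (k⁻¹ * g * k * h.τ) * k⁻¹ := by
          conv_lhs => rw [← hτ]
          group
        _ = k * (h.τ * (k⁻¹ * g * k)) * k⁻¹ := by rw [e]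
        _ = (k * h.τ * k⁻¹) * g := by group
        _ = _ := by rw [hτ]
  have hz36 : Nat.card {g : G // g * h.z = h.z * g ∧ g * h.τ = h.τ * g} = 36 := by
    rw [card_subtype_image h.L.al h.L.inj (fun g => g * h.z = h.z * g ∧ g * h.τ = h.τ * g)
      (fun x => x.1 * rot = rot * x.1 ∧ x.2 * tail = tail * x.2)
      (fun g hg => let ⟨x, _, hx⟩ := h.L.of_commute hg.1; ⟨x, hx.symm⟩)
      (fun x => and_congr (h.L.comm_iff x) (by
        rw [τ, map_comm_iff h.L.al h.L.inj]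
        exact ⟨fun e => congrArg Prod.snd e, fun e => Prod.ext (by simp) e⟩)),
      Nat.card_eq_fintype_card]
    decide +kernel
  have hw36 : Nat.card {g : G // g * h.w = h.w * g ∧ g * h.τ = h.τ * g} = 36 := by
    rw [card_subtype_image h.M.al h.M.inj (fun g => g * h.w = h.w * g ∧ g * h.τ = h.τ * g)
      (fun x => x.1 * rot = rot * x.1 ∧ x.2 * tail = tail * x.2)
      (fun g hg => let ⟨x, _, hx⟩ := h.M.of_commute hg.1; ⟨x, hx.symm⟩)
      (fun x => and_congr (h.M.comm_iff x) (by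
        rw [← h.τ_eq_M, map_comm_iff h.M.al h.M.inj]
        exact ⟨fun e => congrArg Prod.snd e, fun e => Prod.ext (by simp) e⟩)),
      Nat.card_eq_fintype_card]
    decide +kernel
  have hy36 : Nat.card {g : G // g * h.L.grid (1, 1) = h.L.grid (1, 1) * g ∧
      g * h.τ = h.τ * g} = 36 := by
    have e : h.L.grid (1, 1) = h.z * h.w := by rw [h.L.grid_eq, h.L_w]; simp
    rw [e, Nat.card_congr (Equiv.subtypeEquivRight
      (q := fun g => g * (h.z * h.w) = h.z * h.w * g) fun g =>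
        and_iff_left_of_imp fun hg => h.comm_τ (h.cy_norm g hg)), ← card_centralizer_eq, h.cy]
  have hinv : ∀ x : G, Nat.card {g : G // g * x⁻¹ = x⁻¹ * g ∧ g * h.τ = h.τ * g} =
      Nat.card {g : G // g * x = x * g ∧ g * h.τ = h.τ * g} := fun x =>
    Nat.card_congr (Equiv.subtypeEquivRight fun g => and_congr_left' Commute.inv_right_iff)
  have hs : h.L.al (mir, 1) ∈ Subgroup.normalizer (h.D : Set G) :=
    h.mem_normalizer_of_al 1 mir (Or.inl (by simp))
  have ht : h.L.al (1, turn) ∈ Subgroup.normalizer (h.D : Set G) :=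
    h.mem_normalizer_of_al turn 1 (Or.inr (by decide +kernel))
  have h10 : h.L.grid (1, 0) = h.z := h.z_grid.symm
  have h01 : h.L.grid (0, 1) = h.w := h.w_grid.symm
  have cases9 : ∀ i j : Fin 3, (i, j) = ((0, 0) : Fin 3 × Fin 3) ∨
      (i, j) = (1, 0) ∨ (i, j) = (-1, -0) ∨ (i, j) = (0, 1) ∨ (i, j) = (-0, -1) ∨
      (i, j) = (1, 1) ∨ (i, j) = (-1, -1) ∨ (i, j) = (1, -1) ∨ (i, j) = (-1, 1) := by
    decide +kernel
  rcases cases9 i j with e | e | e | e | e | e | e | e | e <;> rw [e] at hd1 ⊢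
  · exact absurd h.L.grid_zero_zero hd1
  · rw [h10, hz36]
  · rw [← h.L.grid_inv (1, 0), h10, hinv, hz36]
  · rw [h01, hw36]
  · rw [← h.L.grid_inv (0, 1), h01, hinv, hw36]
  · exact hy36
  · rw [← h.L.grid_inv (1, 1), hinv, hy36]
  · rw [← h.L.grid_conj_turn (1, 1), conjcard _ ht, hy36]
  · rw [← h.L.grid_conj_mir (1, 1), conjcard _ hs, hy36]

/-- An element of order three commuting with `τ` is conjugate into `D` inside `C(τ)`. -/
theorem exists_conj_mem_D [Finite G] {x : G} (hx : x * x * x = 1) (hx1 : x ≠ 1)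
    (hxτ : x * h.τ = h.τ * x) : ∃ c : G, c * h.τ = h.τ * c ∧ c * x * c⁻¹ ∈ h.D := by
  haveI : Fact (Nat.Prime 3) := ⟨Nat.prime_three⟩
  obtain ⟨C, hC⟩ : ∃ C : Subgroup G, C = Subgroup.centralizer ({h.τ} : Set G) := ⟨_, rfl⟩
  have hDC : h.D ≤ C := fun d hd => by
    rw [hC, Subgroup.mem_centralizer_singleton_iff]
    exact h.comm_τ (Subgroup.le_normalizer hd)
  have hx3 : orderOf x = 3 := orderOf_eq_prime (by rw [pow_three', hx]) hx1
  have hxC : x ∈ C := by rw [hC, Subgroup.mem_centralizer_singleton_iff]; exact hxτ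
  have hP : IsPGroup 3 (h.D.subgroupOf C) := IsPGroup.of_card (n := 2) (by
    rw [Nat.card_congr (Subgroup.subgroupOfEquivOfLe hDC).toEquiv, h.card_D]; norm_num)
  obtain ⟨P, hP'⟩ := hP.exists_le_sylow
  have hPeq : (P : Subgroup C) = h.D.subgroupOf C := by
    symm
    refine Subgroup.eq_of_le_of_card_ge hP' ?_
    rw [Nat.card_congr (Subgroup.subgroupOfEquivOfLe hDC).toEquiv, h.card_D]
    obtain ⟨k, hk⟩ := IsPGroup.iff_card.1 P.isPGroup'
    have hdvd : 3 ^ k ∣ Nat.card G :=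
      hk ▸ (Subgroup.card_subgroup_dvd_card _).trans (Subgroup.card_subgroup_dvd_card C)
    rw [hk]
    by_contra hlt
    have hk3 : 3 ≤ k := by
      by_contra hk3
      interval_cases k <;> simp_all
    exact h.sylow ((pow_dvd_pow 3 hk3).trans hdvd)
  have hQ : IsPGroup 3 (Subgroup.zpowers (⟨x, hxC⟩ : C)) := IsPGroup.of_card (n := 1) (by
    rw [Nat.card_zpowers, Subgroup.orderOf_mk, hx3, pow_one])
  obtain ⟨Q, hQ'⟩ := hQ.exists_le_sylow
  obtain ⟨c, hc⟩ := MulAction.exists_smul_eq C Q P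
  have hmem : c * (⟨x, hxC⟩ : C) * c⁻¹ ∈ h.D.subgroupOf C := by
    rw [← hPeq, ← hc]
    exact Subgroup.mem_pointwise_smul_iff_inv_smul_mem.2 (by
      simpa [MulAut.smul_def, mul_assoc] using hQ' (Subgroup.mem_zpowers _))
  rw [Subgroup.mem_subgroupOf] at hmem
  push_cast at hmem
  exact ⟨c, Subgroup.mem_centralizer_singleton_iff.1 (hC ▸ c.2), hmem⟩

/-- The same for any element of order three commuting with `τ`. -/
theorem card_centralizer_τ [Finite G] {x : G} (hx : x * x * x = 1) (hx1 : x ≠ 1)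
    (hxτ : x * h.τ = h.τ * x) :
    Nat.card {g : G // g * x = x * g ∧ g * h.τ = h.τ * g} = 36 := by
  obtain ⟨c, hc, hmem⟩ := h.exists_conj_mem_D hx hx1 hxτ
  have hcτ : c * h.τ * c⁻¹ = h.τ := mul_inv_eq_iff_eq_mul.2 hc
  rw [← h.card_centralizer_τ_mem hmem (fun e => hx1 (conj_eq_one_iff.1 e))]
  refine Nat.card_congr (Equiv.subtypeEquiv (MulAut.conj c).toEquiv fun g => ?_)
  show g * x = x * g ∧ g * h.τ = h.τ * g ↔
    c * g * c⁻¹ * (c * x * c⁻¹) =
        c * x * c⁻¹ * (c * g * c⁻¹) ∧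
      c * g * c⁻¹ * h.τ = h.τ * (c * g * c⁻¹)
  conv_rhs => rw [← hcτ]
  simp only [show ∀ a b : G, c * a * c⁻¹ * (c * b * c⁻¹) =
    c * (a * b) * c⁻¹ from fun a b => by group, mul_left_inj, mul_right_inj]

/-- An element whose common centraliser with some element of order three does not have order 36
is not conjugate to `τ`. -/
theorem not_conj_τ [Finite G] {i x : G} (hx : x * x * x = 1) (hx1 : x ≠ 1) (hxi : x * i = i * x)
    (hne : Nat.card {g : G // g * x = x * g ∧ g * i = i * g} ≠ 36) (g : G) :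
    g * h.τ * g⁻¹ ≠ i := by
  rintro rfl
  apply hne
  rw [← h.card_centralizer_τ (x := g⁻¹ * x * g) ?_ ?_ ?_]
  · refine (Nat.card_congr (Equiv.subtypeEquiv (MulAut.conj g).toEquiv fun a => ?_)).symm
    show _ ↔ g * a * g⁻¹ * x = x * (g * a * g⁻¹) ∧
      g * a * g⁻¹ * (g * h.τ * g⁻¹) = g * h.τ * g⁻¹ * (g * a * g⁻¹)
    conv_rhs => rw [show x = g * (g⁻¹ * x * g) * g⁻¹ by group]
    simp only [show ∀ a b : G, g * a * g⁻¹ * (g * b * g⁻¹) = g * (a * b) * g⁻¹ from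
      fun a b => by group, mul_left_inj, mul_right_inj]
  · calc g⁻¹ * x * g * (g⁻¹ * x * g) * (g⁻¹ * x * g) = g⁻¹ * (x * x * x) * g := by group
      _ = 1 := by rw [hx]; group
  · intro e
    exact hx1 (by
      calc x = g * (g⁻¹ * x * g) * g⁻¹ := by group
        _ = 1 := by rw [e]; group)
  · calc g⁻¹ * x * g * h.τ = g⁻¹ * (x * (g * h.τ * g⁻¹)) * g := by group
      _ = _ := by rw [hxi]; group

theorem card_L_turn [Finite G] :
    Nat.card {g : G // g * h.z = h.z * g ∧ g * h.L.al (1, turn) = h.L.al (1, turn) * g} = 24 := by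
  rw [card_subtype_image h.L.al h.L.inj
    (fun g => g * h.z = h.z * g ∧ g * h.L.al (1, turn) = h.L.al (1, turn) * g)
    (fun x => x.1 * rot = rot * x.1 ∧ x.2 * turn = turn * x.2)
    (fun g hg => let ⟨x, _, hx⟩ := h.L.of_commute hg.1; ⟨x, hx.symm⟩)
    (fun x => and_congr (h.L.comm_iff x) (by
      rw [map_comm_iff h.L.al h.L.inj]
      exact ⟨fun e => congrArg Prod.snd e, fun e => Prod.ext (by simp) e⟩)),
    Nat.card_eq_fintype_card]
  decide +kernel

theorem card_M_turn [Finite G] :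
    Nat.card {g : G // g * h.w = h.w * g ∧ g * h.M.al (1, turn) = h.M.al (1, turn) * g} = 24 := by
  rw [card_subtype_image h.M.al h.M.inj
    (fun g => g * h.w = h.w * g ∧ g * h.M.al (1, turn) = h.M.al (1, turn) * g)
    (fun x => x.1 * rot = rot * x.1 ∧ x.2 * turn = turn * x.2)
    (fun g hg => let ⟨x, _, hx⟩ := h.M.of_commute hg.1; ⟨x, hx.symm⟩)
    (fun x => and_congr (h.M.comm_iff x) (by
      rw [map_comm_iff h.M.al h.M.inj]
      exact ⟨fun e => congrArg Prod.snd e, fun e => Prod.ext (by simp) e⟩)),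
    Nat.card_eq_fintype_card]
  decide +kernel

theorem L_turn_ne_conj [Finite G] (g : G) : g * h.τ * g⁻¹ ≠ h.L.al (1, turn) :=
  h.not_conj_τ h.L.cube h.L.ne (h.L.comm_snd turn).symm (by rw [h.card_L_turn]; norm_num) g

theorem M_turn_ne_conj [Finite G] (g : G) : g * h.τ * g⁻¹ ≠ h.M.al (1, turn) :=
  h.not_conj_τ h.M.cube h.M.ne (h.M.comm_snd turn).symm (by rw [h.card_M_turn]; norm_num) g

/-- The hypothesis in the case of `S₈`. -/
def CaseA : Prop := h.s = h.M.al (1, AltEightLocal.flip) ∧ h.r = h.L.al (1, AltEightLocal.flip)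

/-- The hypothesis in the case of `(A₅ × A₅).2²`. -/
def CaseB : Prop := h.s = h.M.al (1, turn) ∧ h.r = h.L.al (1, turn)

end Hyp

theorem inverter_of_pair {v a : G} (P : Pair v) {b : G} (hb : P.al (1, cyc) = b)
    (hsq : a * a = 1) (hv : a * v = v * a) (hinv : a * b * a⁻¹ = b⁻¹) :
    ∃ j : Fin 3, a = P.al (1, cyc ^ (j : ℕ) * AltEightLocal.flip * (cyc ^ (j : ℕ))⁻¹) ∨
      a = P.al (1, cyc ^ (j : ℕ) * turn * (cyc ^ (j : ℕ))⁻¹) := by
  obtain ⟨x, hx, rfl⟩ := P.of_commute hv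
  rw [← map_mul, ← map_one P.al] at hsq
  have h2 := P.inj hsq
  have key : ∀ σ : Perm (Fin 3), σ * rot = rot * σ → σ * σ = 1 → σ = 1 := by decide +kernel
  have h1 : x.1 = 1 := key x.1 hx (congrArg Prod.fst h2)
  rw [← hb, map_conj, ← map_inv] at hinv
  obtain ⟨j, hj⟩ := five_inverters x.2 (congrArg Prod.snd h2) (congrArg Prod.snd (P.inj hinv))
  exact ⟨j, hj.imp (fun e => congrArg P.al (Prod.ext h1 e)) fun e => congrArg P.al (Prod.ext h1 e)⟩

/-- Relabelling puts the hypothesis into one of the two cases. -/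
theorem exists_case [Finite G] (h : Hyp G) : ∃ h' : Hyp G, h'.CaseA ∨ h'.CaseB := by
  obtain ⟨j, hs⟩ := inverter_of_pair h.M h.M_z h.s_sq h.s_w h.s_z
  obtain ⟨k, hr⟩ := inverter_of_pair h.L h.L_w h.r_sq h.r_z h.r_w
  have hconj : ∀ i : Fin 3, cyc ^ (i : ℕ) * cyc * (cyc ^ (i : ℕ))⁻¹ = cyc := by decide +kernel
  have hone : ∀ x : Perm (Fin 3), (1 : Perm (Fin 3)) * x * 1⁻¹ = x := fun x => by simp
  let h' : Hyp G :=
    { h with
      L := h.L.relabel 1 (cyc ^ (k : ℕ)) (hone _)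
      M := h.M.relabel 1 (cyc ^ (j : ℕ)) (hone _)
      L_w := by rw [Pair.relabel_apply, hone, hconj, h.L_w]
      M_z := by rw [Pair.relabel_apply, hone, hconj, h.M_z]
      n_s := by
        rw [Pair.relabel_apply, Pair.relabel_apply, hone, mul_one, mul_one, mul_inv_cancel,
          mul_inv_cancel]
        exact h.n_s }
  have es : h'.s = h.s := by
    show (h.L.relabel 1 (cyc ^ (k : ℕ)) (hone _)).al (mir, 1) = h.L.al (mir, 1)
    rw [Pair.relabel_apply, hone, mul_one, mul_inv_cancel]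
  have er : h'.r = h.r := by
    show (h.M.relabel 1 (cyc ^ (j : ℕ)) (hone _)).al (mir, 1) = h.M.al (mir, 1)
    rw [Pair.relabel_apply, hone, mul_one, mul_inv_cancel]
  have eM : ∀ π : Perm (Fin 5), h'.M.al (1, π) =
      h.M.al (1, cyc ^ (j : ℕ) * π * (cyc ^ (j : ℕ))⁻¹) := fun π => by
    show (h.M.relabel 1 (cyc ^ (j : ℕ)) (hone _)).al (1, π) = _
    rw [Pair.relabel_apply, hone]
  have eL : ∀ π : Perm (Fin 5), h'.L.al (1, π) =
      h.L.al (1, cyc ^ (k : ℕ) * π * (cyc ^ (k : ℕ))⁻¹) := fun π => by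
    show (h.L.relabel 1 (cyc ^ (k : ℕ)) (hone _)).al (1, π) = _
    rw [Pair.relabel_apply, hone]
  rw [← es, ← eM, ← eM] at hs
  rw [← er, ← eL, ← eL] at hr
  refine ⟨h', ?_⟩
  have hflip : tail * AltEightLocal.flip = AltEightLocal.flip * tail := by decide +kernel
  -- both are conjugate to `τ` or neither
  obtain ⟨ρ, hρ⟩ : ∃ ρ : Perm (Fin 5), ρ * tail * ρ⁻¹ = AltEightLocal.flip :=
    ⟨cross, by decide +kernel⟩
  rcases hs with hs | hs <;> rcases hr with hr | hr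
  · exact Or.inl ⟨hs, hr⟩
  · exfalso
    refine h'.L_turn_ne_conj (h'.n * h'.M.al (1, ρ)) ?_
    rw [← hr, ← h'.n_s', hs, ← hρ, ← h'.τ_eq_M,
      show ((1 : Perm (Fin 3)), ρ * tail * ρ⁻¹) = (1, ρ) * (1, tail) * (1, ρ)⁻¹ by simp,
      ← map_conj]
    group
  · exfalso
    refine h'.M_turn_ne_conj (h'.n⁻¹ * h'.L.al (1, ρ)) ?_
    rw [← hs]
    have e : h'.L.al (1, ρ) * h'.τ * (h'.L.al (1, ρ))⁻¹ = h'.r := by
      rw [hr, Hyp.τ, map_conj]
      exact congrArg h'.L.al (Prod.ext (by simp) hρ)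
    calc h'.n⁻¹ * h'.L.al (1, ρ) * h'.τ * (h'.n⁻¹ * h'.L.al (1, ρ))⁻¹
        = h'.n⁻¹ * (h'.L.al (1, ρ) * h'.τ * (h'.L.al (1, ρ))⁻¹) * h'.n := by group
      _ = h'.s := by rw [e, ← h'.n_s']; group
  · exact Or.inr ⟨hs, hr⟩

end CfsgLib.SymEightLocal
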