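import Cfsg.Agent.SymEightLocal.SixFacts

/-!
The facts about `S₆` used to exclude it in the second case.
-/

set_option autoImplicit false

namespace CfsgLib.SymEightLocal

open Equiv

/-- `q` is the only conjugate of `c` under `C(a)` other than `c` commuting with `c`. -/
def SixOnly (a c q : Perm (Fin 6)) : Prop :=
  ∀ k : Perm (Fin 6), k * a = a * k → k * c * k⁻¹ ≠ c →
    k * c * k⁻¹ * c = c * (k * c * k⁻¹) → k * c * k⁻¹ = q

instance (a c q : Perm (Fin 6)) : Decidable (SixOnly a c q) := by unfold SixOnly; infer_instance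

/-- `(a, c)` is conjugate to `(c, q)`. -/
def SixShift (a c q : Perm (Fin 6)) : Prop :=
  ∃ e : Perm (Fin 6), e * a * e⁻¹ = c ∧ e * c * e⁻¹ = q

instance (a c q : Perm (Fin 6)) : Decidable (SixShift a c q) := by unfold SixShift; infer_instance

/-- `m` commutes with an element of order three not conjugate to `r`. -/
def SixElem (r m : Perm (Fin 6)) : Prop :=
  ∃ x : Perm (Fin 6), x * x * x = 1 ∧ x ≠ 1 ∧ x * m = m * x ∧
    ∀ g : Perm (Fin 6), g * r * g⁻¹ ≠ x

instance (r m : Perm (Fin 6)) : Decidable (SixElem r m) := by unfold SixElem; infer_instance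

/-- The data used to rule out `S₆` in the second case. -/
def SixTwist (a b c : Perm (Fin 6)) : Prop :=
  ∃ k : Perm (Fin 6), k * a = a * k ∧
    k * c * k⁻¹ ≠ c ∧ k * c * k⁻¹ * c = c * (k * c * k⁻¹) ∧
    SixOnly a c (k * c * k⁻¹) ∧ SixShift a c (k * c * k⁻¹) ∧
    a * c * (k * c * k⁻¹) ≠ 1 ∧ SixElem (a * b) (a * c * (k * c * k⁻¹))

/-- The witnesses of `six_twist`. -/
theorem sixTwist_of {a b c : Perm (Fin 6)} (k e x : Perm (Fin 6))
    (h1 : k * a = a * k ∧ k * c * k⁻¹ ≠ c ∧ k * c * k⁻¹ * c = c * (k * c * k⁻¹))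
    (h2 : e * a * e⁻¹ = c ∧ e * c * e⁻¹ = k * c * k⁻¹) (h3 : a * c * (k * c * k⁻¹) ≠ 1)
    (h4 : x * x * x = 1 ∧ x ≠ 1 ∧ x * (a * c * (k * c * k⁻¹)) = a * c * (k * c * k⁻¹) * x)
    (honly : SixOnly a c (k * c * k⁻¹)) (hclass : ∀ g : Perm (Fin 6), g * (a * b) * g⁻¹ ≠ x) :
    SixTwist a b c :=
  ⟨k, h1.1, h1.2.1, h1.2.2, honly, ⟨e, h2⟩, h3, x, h4.1, h4.2.1, h4.2.2, hclass⟩

theorem six_twist_one : SixTwist (swap 0 1) (swap 1 2) (swap 4 5) :=
  sixTwist_of (swap 2 4 * swap 3 5) (swap 0 4 * swap 4 2 * (swap 1 5 * swap 5 3))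
    (swap 0 2 * swap 2 4 * (swap 1 3 * swap 3 5)) (by decide +kernel) (by decide +kernel)
    (by decide +kernel) (by decide +kernel) (by decide +kernel) (by decide +kernel)

theorem six_twist_two : SixTwist (swap 0 1 * swap 2 3 * swap 4 5)
    (swap 0 2 * swap 1 4 * swap 3 5) (swap 0 1 * swap 2 4 * swap 3 5) :=
  sixTwist_of (swap 4 5) (swap 3 4 * swap 4 5) (swap 3 4 * swap 4 5) (by decide +kernel)
    (by decide +kernel) (by decide +kernel) (by decide +kernel) (by decide +kernel)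
    (by decide +kernel)

theorem six_twist : ∀ e ∈ sixStd, SixTwist e.1 e.2.1 e.2.2.1 := by
  intro e he
  simp only [sixStd, List.mem_cons, List.not_mem_nil, or_false] at he
  rcases he with rfl | rfl
  · exact six_twist_one
  · exact six_twist_two

end CfsgLib.SymEightLocal
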