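import Cfsg.Agent.SymEightLocal.CentTau
import Cfsg.Agent.SymEightLocal.TwistFacts

/-!
In the second case the centraliser of `τ` normalises `D`.
-/

set_option autoImplicit false
set_option linter.style.haveILetI false

namespace CfsgLib.SymEightLocal

open Equiv
open CfsgLib.AltEightLocal (cyc tail turn)

variable {G : Type*} [Group G]

namespace Hyp

variable (h : Hyp G)

/-- A second involution in the four-group of the `A₅` of `M` containing `s`. -/
def a : G := h.M.al (1, cross)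

/-- A second involution in the four-group of the `A₅` of `L` containing `r`. -/
def b : G := h.L.al (1, cross)

theorem a_sq : h.a * h.a = 1 := by
  rw [a, ← map_mul, ← map_one h.M.al]
  exact congrArg h.M.al (Prod.ext (by simp) five_facts.2.2.2.2.2.1)

theorem b_sq : h.b * h.b = 1 := by
  rw [b, ← map_mul, ← map_one h.L.al]
  exact congrArg h.L.al (Prod.ext (by simp) five_facts.2.2.2.2.2.1)

theorem a_r : h.a * h.r = h.r * h.a := (h.M.fst_comm_snd mir cross).symm

theorem b_s : h.b * h.s = h.s * h.b := (h.L.fst_comm_snd mir cross).symm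

theorem a_w : h.a * h.w = h.w * h.a := h.M.comm_snd cross

theorem b_z : h.b * h.z = h.z * h.b := h.L.comm_snd cross

variable {h}

theorem CaseB.a_s (hB : h.CaseB) : h.a * h.s = h.s * h.a := by
  rw [a, hB.1, ← map_mul, ← map_mul]
  exact congrArg h.M.al (Prod.ext rfl five_facts.2.2.2.2.2.2.1.symm)

theorem CaseB.b_r (hB : h.CaseB) : h.b * h.r = h.r * h.b := by
  rw [b, hB.2, ← map_mul, ← map_mul]
  exact congrArg h.L.al (Prod.ext rfl five_facts.2.2.2.2.2.2.1.symm)

theorem CaseB.a_τ_a (hB : h.CaseB) : h.a * h.τ * h.a = h.s * h.τ := by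
  have key : cross * tail * cross = turn * tail := by decide +kernel
  rw [a, hB.1, ← h.τ_eq_M, ← map_mul, ← map_mul, ← map_mul]
  exact congrArg h.M.al (Prod.ext (by simp) key)

theorem CaseB.b_τ_b (hB : h.CaseB) : h.b * h.τ * h.b = h.r * h.τ := by
  have key : cross * tail * cross = turn * tail := by decide +kernel
  rw [b, hB.2, τ, ← map_mul, ← map_mul, ← map_mul]
  exact congrArg h.L.al (Prod.ext (by simp) key)

theorem CaseB.s_r (hB : h.CaseB) : h.s * h.r = h.r * h.s := by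
  rw [hB.2]; exact h.L.fst_comm_snd mir turn

theorem CaseB.centralizer_τ_le [Finite G] (hB : h.CaseB) (g : G) (hg : g * h.τ = h.τ * g) :
    g ∈ Subgroup.normalizer (h.D : Set G) := by
  rcases h.centralizer_τ_cases with hN | ⟨f, hfs, hfk⟩
  · exact hN g hg
  exfalso
  have mem : ∀ {x : G}, x * h.τ = h.τ * x →
      x ∈ Subgroup.centralizer ({h.τ} : Set G) := fun hx =>
    Subgroup.mem_centralizer_singleton_iff.2 hx
  have g1 : ∀ (a b : Perm (Fin 3)) (c d : Perm (Fin 5)),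
      h.L.al (a, c) * h.L.al (b, d) = h.L.al (a * b, c * d) := fun a b c d => by
    rw [← map_mul]; rfl
  have hLτ : ∀ (σ : Perm (Fin 3)) (π : Perm (Fin 5)), π * tail = tail * π →
      h.L.al (σ, π) * h.τ = h.τ * h.L.al (σ, π) := by
    intro σ π e
    rw [τ, g1, g1, e, one_mul, mul_one]
  have es1 : h.L.al (mir, tail) = h.s * h.τ := by rw [s, τ, g1, mul_one, one_mul]
  have es4 : h.L.al (1, AltEightLocal.flip) = h.r * h.τ := by
    rw [hB.2, τ, g1, one_mul]
    exact congrArg h.L.al (Prod.ext rfl (by decide +kernel))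
  obtain ⟨c1, hc1⟩ : ∃ c : Subgroup.centralizer ({h.τ} : Set G), (c : G) = h.L.al (mir, tail) :=
    ⟨⟨_, mem (hLτ _ _ rfl)⟩, rfl⟩
  obtain ⟨c2, hc2⟩ : ∃ c : Subgroup.centralizer ({h.τ} : Set G),
      (c : G) = h.L.al (rot * mir * rot⁻¹, tail) := ⟨⟨_, mem (hLτ _ _ rfl)⟩, rfl⟩
  obtain ⟨c4, hc4⟩ : ∃ c : Subgroup.centralizer ({h.τ} : Set G),
      (c : G) = h.L.al (1, AltEightLocal.flip) :=
    ⟨⟨_, mem (hLτ _ _ (by decide +kernel))⟩, rfl⟩
  obtain ⟨c5, hc5⟩ : ∃ c : Subgroup.centralizer ({h.τ} : Set G),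
      (c : G) = h.L.al (1, cyc * AltEightLocal.flip * cyc⁻¹) :=
    ⟨⟨_, mem (hLτ _ _ (by decide +kernel))⟩, rfl⟩
  have hne : ∀ x : Perm (Fin 3) × Perm (Fin 5), x ≠ 1 → x ≠ (1, tail) →
      ¬ (h.L.al x = 1 ∨ h.L.al x = h.τ) := by
    rintro x h1 h2 (e | e)
    · exact h1 (h.L.inj (e.trans h.L.al.map_one.symm))
    · exact h2 (h.L.inj e)
  have nec : ∀ (c : Subgroup.centralizer ({h.τ} : Set G)) (x : Perm (Fin 3) × Perm (Fin 5)),
      (c : G) = h.L.al x → x * x = 1 → x ≠ 1 → x ≠ (1, tail) → f c * f c = 1 ∧ f c ≠ 1 :=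
    fun c x hc e e1 e2 => ⟨by
      rw [← map_mul, hfk]; left
      rw [Subgroup.coe_mul, hc, ← map_mul, e, map_one],
      fun e' => hne x e1 e2 (hc ▸ (hfk c).1 e')⟩
  have neq : ∀ x y : Subgroup.centralizer ({h.τ} : Set G),
      ¬ ((x : G)⁻¹ * y = 1 ∨ (x : G)⁻¹ * y = h.τ) → f x ≠ f y := fun x y hxy e =>
    hxy (by
      have := (hfk (x⁻¹ * y)).1 (by rw [map_mul, map_inv, e, inv_mul_cancel])
      simpa using this)
  have lift : ∀ x y : Subgroup.centralizer ({h.τ} : Set G), (x : G) = y → f x = f y :=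
    fun x y e => congrArg f (Subtype.ext e)
  obtain ⟨a1, b1⟩ := nec c1 _ hc1 (by decide +kernel) (by decide +kernel) (by decide +kernel)
  obtain ⟨a2, b2⟩ := nec c2 _ hc2 (by decide +kernel) (by decide +kernel) (by decide +kernel)
  obtain ⟨a4, b4⟩ := nec c4 _ hc4 (by decide +kernel) (by decide +kernel) (by decide +kernel)
  obtain ⟨a5, b5⟩ := nec c5 _ hc5 (by decide +kernel) (by decide +kernel) (by decide +kernel)
  obtain ⟨f', hf's, hf'k, hstd⟩ := exists_std_hom f hfs c1 c2 c4 c5 a1 b1 a2 b2 a4 b4 a5 b5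
    ((hfk _).2 (Or.inl (by
      push_cast
      rw [hc1, hc2, g1, g1, g1, ← map_one h.L.al]
      exact congrArg h.L.al (by decide +kernel))))
    (neq _ _ (by
      rw [hc1, hc2, ← map_inv, ← map_mul]
      exact hne _ (by decide +kernel) (by decide +kernel)))
    (by
      rw [← map_mul, ← map_mul]; refine lift _ _ ?_; push_cast; rw [hc1, hc4, g1, g1]
      exact congrArg h.L.al (by decide +kernel))
    (by
      rw [← map_mul, ← map_mul]; refine lift _ _ ?_; push_cast; rw [hc2, hc4, g1, g1]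
      exact congrArg h.L.al (by decide +kernel))
    (by
      rw [← map_mul, ← map_mul]; refine lift _ _ ?_; push_cast; rw [hc1, hc5, g1, g1]
      exact congrArg h.L.al (by decide +kernel))
    (by
      rw [← map_mul, ← map_mul]; refine lift _ _ ?_; push_cast; rw [hc2, hc5, g1, g1]
      exact congrArg h.L.al (by decide +kernel))
    ((hfk _).2 (Or.inl (by
      push_cast
      rw [hc4, hc5, g1, g1, g1, ← map_one h.L.al]
      exact congrArg h.L.al (by decide +kernel))))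
    (neq _ _ (by
      rw [hc4, hc5, ← map_inv, ← map_mul]
      exact hne _ (by decide +kernel) (by decide +kernel)))
  have hk' : ∀ x, f' x = 1 ↔ ((x : G) = 1 ∨ (x : G) = h.τ) := fun x => (hf'k x).trans (hfk x)
  -- two conjugates of `τ` with the same image
  have same : ∀ x y : Subgroup.centralizer ({h.τ} : Set G), f' x = f' y →
      (∀ k : G, k * h.τ * k⁻¹ ≠ (y : G) * h.τ) → (∃ k : G, k * h.τ * k⁻¹ = (x : G)) →
      (x : G) = y := by
    intro x y e hy ⟨k, hk⟩
    rcases (hk' (y⁻¹ * x)).1 (by rw [map_mul, map_inv, e, inv_mul_cancel]) with e' | e' <;>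
      push_cast at e'
    · exact (inv_mul_eq_one.1 e').symm
    · exact absurd (hk.trans ((inv_mul_eq_iff_eq_mul).1 e')) (hy k)
  have hs1 : (c1 : G) = h.s * h.τ := hc1.trans es1
  have hs4 : (c4 : G) = h.r * h.τ := hc4.trans es4
  have ta1 : ∃ k : G, k * h.τ * k⁻¹ = (c1 : G) :=
    ⟨h.a, by rw [inv_of_sq h.a_sq, hs1, hB.a_τ_a]⟩
  have ta4 : ∃ k : G, k * h.τ * k⁻¹ = (c4 : G) :=
    ⟨h.b, by rw [inv_of_sq h.b_sq, hs4, hB.b_τ_b]⟩
  have tconj : ∀ (u x : G), (∃ k : G, k * h.τ * k⁻¹ = x) →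
      ∃ k : G, k * h.τ * k⁻¹ = u * x * u⁻¹ := fun u x ⟨k, hk⟩ => ⟨u * k, by rw [← hk]; group⟩
  have hn1 : ∀ k : G, k * h.τ * k⁻¹ ≠ (c1 : G) * h.τ := fun k => by
    rw [hs1, mul_assoc h.s, h.τ_sq, mul_one, hB.1]; exact h.M_turn_ne_conj k
  have hn4 : ∀ k : G, k * h.τ * k⁻¹ ≠ (c4 : G) * h.τ := fun k => by
    rw [hs4, mul_assoc h.r, h.τ_sq, mul_one, hB.2]; exact h.L_turn_ne_conj k
  -- conjugates of `c4` inside `C(τ)`
  have hnq : ∀ u : Subgroup.centralizer ({h.τ} : Set G), ∀ k : G,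
      k * h.τ * k⁻¹ ≠ ((u * c4 * u⁻¹ : Subgroup.centralizer ({h.τ} : Set G)) : G) * h.τ := by
    intro u k e
    refine hn4 ((u : G)⁻¹ * k) ?_
    have hu : (u : G) * h.τ = h.τ * u := Subgroup.mem_centralizer_singleton_iff.1 u.2
    push_cast at e
    calc (u : G)⁻¹ * k * h.τ * ((u : G)⁻¹ * k)⁻¹ = (u : G)⁻¹ * (k * h.τ * k⁻¹) * u := by group
      _ = (u : G)⁻¹ * ((u : G) * c4 * (u : G)⁻¹ * h.τ) * u := by rw [e]
      _ = (c4 : G) * ((u : G)⁻¹ * (h.τ * u)) := by group
      _ = _ := by rw [← hu]; group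
  obtain ⟨k₀, hk1, hk2, hk3, honly, ⟨e₀, he1, he2⟩, hm1, x₀, hx3, hx1, hxm, hxc⟩ :=
    six_twist _ hstd
  obtain ⟨k, rfl⟩ := hf's k₀
  obtain ⟨ec, rfl⟩ := hf's e₀
  obtain ⟨x, rfl⟩ := hf's x₀
  obtain ⟨q, hq⟩ : ∃ q, q = k * c4 * k⁻¹ := ⟨_, rfl⟩
  have hfq : f' q = f' k * f' c4 * (f' k)⁻¹ := by rw [hq, map_mul, map_mul, map_inv]
  rw [← hfq] at hk2 hk3 honly he2 hm1 hxm
  have tq : ∃ k : G, k * h.τ * k⁻¹ = (q : G) := by rw [hq]; push_cast; exact tconj _ _ ta4
  -- `k` commutes with `c1` and `q` with `c4`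
  have hkc : (k : G) * (c1 : G) * (k : G)⁻¹ = c1 := by
    have := same (k * c1 * k⁻¹) c1 (by
      simp only [map_mul, map_inv]; exact mul_inv_eq_iff_eq_mul.2 hk1) hn1
      (by push_cast; exact tconj _ _ ta1)
    simpa using this
  have hqc : (q : G) * (c4 : G) * (q : G)⁻¹ = c4 := by
    have := same (q * c4 * q⁻¹) c4 (by
      simp only [map_mul, map_inv]; exact mul_inv_eq_iff_eq_mul.2 hk3) hn4
      (by push_cast; exact tconj _ _ ta4)
    simpa using this
  have hkτ : (k : G) * h.τ = h.τ * k := Subgroup.mem_centralizer_singleton_iff.1 k.2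
  have ha : h.a⁻¹ = h.a := inv_of_sq h.a_sq
  have haτ : h.a * h.τ * h.a⁻¹ = c1 := by rw [ha, hs1, hB.a_τ_a]
  have has1 : h.a * (c1 : G) * h.a⁻¹ = h.τ := by
    rw [← haτ, ha]
    calc h.a * (h.a * h.τ * h.a) * h.a = h.a * h.a * h.τ * (h.a * h.a) := by group
      _ = h.τ := by rw [h.a_sq, one_mul, mul_one]
  have hrτ : Commute h.τ h.r := h.τ_r
  have hsτ : Commute h.τ h.s := h.τ_s
  have has4 : h.a * (c4 : G) * h.a⁻¹ = (c4 : G) * ((c1 : G) * h.τ) := by
    have e : h.a * h.r * h.a⁻¹ = h.r := by rw [h.a_r, mul_inv_cancel_right]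
    calc h.a * (c4 : G) * h.a⁻¹ = (h.a * h.r * h.a⁻¹) * (h.a * h.τ * h.a⁻¹) := by
          rw [hs4]; group
      _ = h.r * (h.s * h.τ) := by rw [e, haτ, hs1]
      _ = _ := by
        rw [hs4, hs1, mul_assoc h.s, h.τ_sq, mul_one, mul_assoc, h.τ_s]
  -- the image of `q` under `a`
  obtain ⟨k', hk'v⟩ : ∃ k' : Subgroup.centralizer ({h.τ} : Set G),
      (k' : G) = h.a * (k : G) * h.a⁻¹ := by
    refine ⟨⟨_, mem ?_⟩, rfl⟩
    calc h.a * (k : G) * h.a⁻¹ * h.τ
        = h.a * (k : G) * h.a⁻¹ * (h.a * (c1 : G) * h.a⁻¹) := by rw [has1]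
      _ = h.a * ((k : G) * c1) * h.a⁻¹ := by group
      _ = (h.a * (c1 : G) * h.a⁻¹) * (h.a * (k : G) * h.a⁻¹) := by
        rw [mul_inv_eq_iff_eq_mul.1 hkc]; group
      _ = _ := by rw [has1]
  have hk'c : (k' : G) * (c1 : G) = c1 * k' := by
    rw [hk'v, ← haτ]
    calc h.a * (k : G) * h.a⁻¹ * (h.a * h.τ * h.a⁻¹) = h.a * ((k : G) * h.τ) * h.a⁻¹ := by group
      _ = _ := by rw [hkτ]; group
  obtain ⟨q', hq'⟩ : ∃ q', q' = k' * c4 * k'⁻¹ := ⟨_, rfl⟩
  have hk'τ : (k' : G) * h.τ = h.τ * k' := Subgroup.mem_centralizer_singleton_iff.1 k'.2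
  have haq : h.a * (q : G) * h.a⁻¹ = (q' : G) * ((c1 : G) * h.τ) := by
    have hc : Commute (k' : G) ((c1 : G) * h.τ) :=
      (show Commute (k' : G) (c1 : G) from hk'c).mul_right hk'τ
    rw [hq, hq']
    push_cast
    calc h.a * ((k : G) * c4 * (k : G)⁻¹) * h.a⁻¹ =
        (h.a * k * h.a⁻¹) * (h.a * c4 * h.a⁻¹) * (h.a * k * h.a⁻¹)⁻¹ := by group
      _ = (k' : G) * ((c4 : G) * ((c1 : G) * h.τ)) * (k' : G)⁻¹ := by rw [← hk'v, has4]
      _ = (k' : G) * c4 * (((c1 : G) * h.τ) * (k' : G)⁻¹) := by group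
      _ = (k' : G) * c4 * ((k' : G)⁻¹ * ((c1 : G) * h.τ)) := by rw [hc.inv_left.eq]
      _ = _ := by group
  have hq'c : (q' : G) * (c4 : G) = c4 * q' := by
    have hcq : (q : G) * c4 = c4 * q := mul_inv_eq_iff_eq_mul.1 hqc
    have h1 : (h.a * (q : G) * h.a⁻¹) * (h.a * (c4 : G) * h.a⁻¹) =
        (h.a * (c4 : G) * h.a⁻¹) * (h.a * (q : G) * h.a⁻¹) := by
      calc _ = h.a * ((q : G) * c4) * h.a⁻¹ := by group
        _ = _ := by rw [hcq]; group
    rw [haq, has4] at h1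
    obtain ⟨u, hu⟩ : ∃ u, u = (c1 : G) * h.τ := ⟨_, rfl⟩
    have hus : u = h.s := by rw [hu, hs1, mul_assoc, h.τ_sq, mul_one]
    have hu4 : Commute u (c4 : G) := by
      rw [hus, hs4]; exact (show Commute h.s h.r from hB.s_r).mul_right hsτ.symm
    have huq : Commute u (q' : G) := by
      have hc : Commute u (k' : G) := by
        rw [hu]; exact ((show Commute (k' : G) (c1 : G) from hk'c).mul_right hk'τ).symm
      rw [hq']; push_cast
      exact (hc.mul_right hu4).mul_right hc.inv_right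
    rw [← hu] at h1
    have huu : u * u = 1 := by rw [hus, h.s_sq]
    calc (q' : G) * c4 = (q' : G) * c4 * (u * u) := by rw [huu, mul_one]
      _ = (q' : G) * ((c4 : G) * u) * u := by group
      _ = (q' : G) * (u * c4) * u := by rw [hu4.eq]
      _ = (q' : G) * u * ((c4 : G) * u) := by group
      _ = (c4 : G) * u * ((q' : G) * u) := h1
      _ = (c4 : G) * (u * q') * u := by group
      _ = (c4 : G) * q' * (u * u) := by rw [huq.eq]; group
      _ = _ := by rw [huu, mul_one]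
  have hfq' : f' q' = f' k' * f' c4 * (f' k')⁻¹ := by rw [hq', map_mul, map_mul, map_inv]
  have tq' : ∃ k : G, k * h.τ * k⁻¹ = (q' : G) := by rw [hq']; push_cast; exact tconj _ _ ta4
  have hqq : (q' : G) = q := by
    refine same q' q ?_ (hq ▸ hnq k) tq'
    rw [hfq']
    refine honly (f' k') ?_ ?_ ?_
    · rw [← map_mul, ← map_mul]
      exact congrArg f' (Subtype.ext hk'c)
    · rw [← hfq']
      intro e
      refine hk2 ?_
      have e' := same q' c4 e hn4 tq'
      rw [e', ← has4] at haq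
      exact congrArg f' (Subtype.ext ((mul_left_cancel (mul_right_cancel haq))))
    · rw [← hfq', ← map_mul, ← map_mul]
      exact congrArg f' (Subtype.ext hq'c)
  -- `m` is conjugate to `τ`
  obtain ⟨m, hm⟩ : ∃ m, m = c1 * c4 * q := ⟨_, rfl⟩
  have hfm : f' m = f' c1 * f' c4 * f' q := by rw [hm, map_mul, map_mul]
  rw [← hfm] at hm1 hxm
  have hec1 : (ec : G) * (c1 : G) * (ec : G)⁻¹ = c4 := by
    have := same (ec * c1 * ec⁻¹) c4 (by simp only [map_mul, map_inv]; exact he1) hn4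
      (by push_cast; exact tconj _ _ ta1)
    simpa using this
  have hec4 : (ec : G) * (c4 : G) * (ec : G)⁻¹ = q := by
    have := same (ec * c4 * ec⁻¹) q (by simp only [map_mul, map_inv]; exact he2) (hq ▸ hnq k)
      (by push_cast; exact tconj _ _ ta4)
    simpa using this
  have tm : ∃ k : G, k * h.τ * k⁻¹ = (m : G) := by
    have heτ : (ec : G) * h.τ * (ec : G)⁻¹ = h.τ :=
      mul_inv_eq_iff_eq_mul.2 (Subgroup.mem_centralizer_singleton_iff.1 ec.2)
    obtain ⟨u, hu⟩ : ∃ u, u = (c1 : G) * h.τ := ⟨_, rfl⟩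
    have hu4 : (c4 : G) * u = u * c4 := by
      rw [hu, hs1, mul_assoc, h.τ_sq, mul_one, hs4]
      exact ((show Commute h.r h.s from hB.s_r.symm).mul_left hsτ).eq
    have hqτ : (q : G) * h.τ = h.τ * q := Subgroup.mem_centralizer_singleton_iff.1 q.2
    have h1 : ∃ k : G, k * h.τ * k⁻¹ = (c4 : G) * u := by
      rw [hu, ← has4]; exact tconj _ _ ta4
    have h2 := tconj (ec : G) _ h1
    have e2 : (ec : G) * ((c4 : G) * u) * (ec : G)⁻¹ = (q : G) * ((c4 : G) * h.τ) := by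
      rw [hu]
      calc _ = ((ec : G) * c4 * (ec : G)⁻¹) *
            (((ec : G) * c1 * (ec : G)⁻¹) * ((ec : G) * h.τ * (ec : G)⁻¹)) := by group
        _ = _ := by rw [hec1, hec4, heτ]
    rw [e2] at h2
    have h3 := tconj h.a⁻¹ _ h2
    obtain ⟨k₁, hk₁⟩ := h3
    refine ⟨k₁, hk₁.trans ?_⟩
    rw [hm]
    push_cast
    have hrel : h.a * ((c1 : G) * c4 * q) * h.a⁻¹ = (q : G) * ((c4 : G) * h.τ) := by
      calc h.a * ((c1 : G) * c4 * q) * h.a⁻¹
          = (h.a * c1 * h.a⁻¹) * (h.a * c4 * h.a⁻¹) * (h.a * q * h.a⁻¹) := by group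
        _ = h.τ * ((c4 : G) * u) * ((q : G) * u) := by rw [has1, has4, haq, hqq, hu]
        _ = h.τ * ((c4 : G) * (u * q)) * u := by group
        _ = h.τ * ((c4 : G) * ((q : G) * u)) * u := by
          rw [show u * (q : G) = q * u from by
            rw [← hqq, hq']; push_cast
            have hc : Commute u (k' : G) := by
              rw [hu]; exact ((show Commute (k' : G) (c1 : G) from hk'c).mul_right hk'τ).symm
            exact ((hc.mul_right (show Commute u (c4 : G) from hu4.symm)).mul_right hc.inv_right).eq]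
        _ = h.τ * ((c4 : G) * q) * (u * u) := by group
        _ = h.τ * ((q : G) * c4) := by
          rw [show u * u = 1 by rw [hu, hs1, mul_assoc h.s, h.τ_sq, mul_one, h.s_sq], mul_one,
            mul_inv_eq_iff_eq_mul.1 hqc]
        _ = (q : G) * ((c4 : G) * h.τ) := by
          rw [← mul_assoc, ← hqτ, mul_assoc,
            (Subgroup.mem_centralizer_singleton_iff.1 c4.2).symm]
    rw [← hrel]; group
  -- an element of order three commuting with `m`
  obtain ⟨y, hy3, hfy⟩ : ∃ y : Subgroup.centralizer ({h.τ} : Set G),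
      (y : G) * y * y = 1 ∧ f' y = f' x := by
    rcases (hk' (x * x * x)).1 (by rw [map_mul, map_mul, hx3]) with e | e <;> push_cast at e
    · exact ⟨x, e, rfl⟩
    · refine ⟨x * ⟨h.τ, mem rfl⟩, ?_, ?_⟩
      · push_cast
        have hc : Commute (x : G) h.τ := Subgroup.mem_centralizer_singleton_iff.1 x.2
        have := hc.mul_pow 3
        rw [pow_three', pow_three', pow_three'] at this
        rw [this, e, h.τ_sq, one_mul, h.τ_sq]
      · rw [map_mul, (hk' ⟨h.τ, mem rfl⟩).2 (Or.inr rfl), mul_one]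
  have hy1 : (y : G) ≠ 1 := fun e => hx1 (by rw [← hfy]; exact (hk' y).2 (Or.inl e))
  have hym : (y : G) * m = m * y := by
    have hyτ : (y : G) * h.τ * (y : G)⁻¹ = h.τ :=
      mul_inv_eq_iff_eq_mul.2 (Subgroup.mem_centralizer_singleton_iff.1 y.2)
    rcases (hk' (m⁻¹ * (y * m * y⁻¹))).1 (by
      simp only [map_mul, map_inv, hfy]
      rw [hxm, mul_inv_cancel_right, inv_mul_cancel]) with e | e <;> push_cast at e
    · exact mul_inv_eq_iff_eq_mul.1 (inv_mul_eq_one.1 e).symm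
    · exfalso
      rw [inv_mul_eq_iff_eq_mul] at e
      apply h.τ_ne
      have e2 : (m : G) = (m : G) * (h.τ * (h.τ * h.τ)) := by
        calc (m : G) = ((y : G) * y * y) * m * ((y : G) * y * y)⁻¹ := by
              rw [hy3, inv_one, one_mul, mul_one]
          _ = (y : G) * ((y : G) * ((y : G) * m * (y : G)⁻¹) * (y : G)⁻¹) * (y : G)⁻¹ := by group
          _ = (y : G) * ((y : G) * ((m : G) * h.τ) * (y : G)⁻¹) * (y : G)⁻¹ :=
            congrArg (fun t : G => (y : G) * ((y : G) * t * (y : G)⁻¹) * (y : G)⁻¹) e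
          _ = (y : G) * (((y : G) * m * (y : G)⁻¹) * ((y : G) * h.τ * (y : G)⁻¹)) * (y : G)⁻¹ := by
            group
          _ = (y : G) * ((m : G) * (h.τ * h.τ)) * (y : G)⁻¹ := by
            rw [e, hyτ, mul_assoc (m : G)]
          _ = (m : G) * h.τ := by rw [h.τ_sq, mul_one, e]
          _ = _ := by rw [h.τ_sq, mul_one]
      rw [h.τ_sq, mul_one] at e2
      exact mul_left_cancel (a := (m : G)) (by rw [mul_one]; exact e2.symm)
  obtain ⟨c, hcτ, hcD⟩ := h.exists_conj_mem_D hy3 hy1 (Subgroup.mem_centralizer_singleton_iff.1 y.2)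
  obtain ⟨d, hd⟩ : ∃ d, c * (y : G) * c⁻¹ = d := ⟨_, rfl⟩
  rw [hd] at hcD
  -- `d` is not conjugate to `z` in `C(τ)`
  have hnz : ∀ u : G, u * h.τ = h.τ * u → u * h.z * u⁻¹ ≠ d := by
    intro u huτ e
    obtain ⟨zc, hzc⟩ : ∃ v : Subgroup.centralizer ({h.τ} : Set G), (v : G) = h.z :=
      ⟨⟨h.z, mem h.τ_z.symm⟩, rfl⟩
    have e12 : f' c1 * f' c2 = f' zc := by
      rw [← map_mul]
      refine congrArg f' (Subtype.ext ?_)
      push_cast
      rw [hc1, hc2, hzc, g1]
      refine Eq.trans (congrArg h.L.al ?_) h.L.al_rot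
      decide +kernel
    refine hxc (f' ⟨c⁻¹ * u, mem ?_⟩) ?_
    · exact ((Commute.inv_left (show Commute c h.τ from hcτ)).mul_left huτ).eq
    · rw [e12, ← map_mul, ← map_inv, ← map_mul, ← hfy]
      refine congrArg f' (Subtype.ext ?_)
      push_cast
      rw [hzc]
      calc c⁻¹ * u * h.z * (c⁻¹ * u)⁻¹ = c⁻¹ * (u * h.z * u⁻¹) * c := by group
        _ = _ := by rw [e, ← hd]; group
  have hsN : h.L.al (mir, 1) ∈ Subgroup.normalizer (h.D : Set G) :=
    h.mem_normalizer_of_al 1 mir (Or.inl (by simp))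
  have hnτ : h.n * h.τ = h.τ * h.n := h.comm_τ h.n_mem
  obtain ⟨⟨i, j⟩, hij⟩ := h.exists_grid hcD
  have cases9 : ∀ i j : Fin 3, (i, j) = ((0, 0) : Fin 3 × Fin 3) ∨
      (i, j) = (1, 0) ∨ (i, j) = (-1, 0) ∨ (i, j) = (0, 1) ∨ (i, j) = (0, -1) ∨
      (i, j) = (1, 1) ∨ (i, j) = (-1, -1) ∨ (i, j) = (1, -1) ∨ (i, j) = (-1, 1) := by
    decide +kernel
  have hdiag : ∀ u : G, u * d = d * u → u * h.τ = h.τ * u := by
    have hy : ∀ u : G, u * h.L.grid (1, 1) = h.L.grid (1, 1) * u → u * h.τ = h.τ * u := by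
      intro u hu
      refine h.comm_τ (h.cy_norm u ?_)
      rwa [h.L.grid_eq, h.L_w, Fin.val_one, pow_one, pow_one] at hu
    have hconj : ∀ v : G, v * h.τ = h.τ * v → ∀ p : G,
        (∀ u : G, u * p = p * u → u * h.τ = h.τ * u) →
        ∀ u : G, u * (v * p * v⁻¹) = v * p * v⁻¹ * u → u * h.τ = h.τ * u := by
      intro v hv p hp u hu
      have h1 := hp (v⁻¹ * u * v) (by
        calc v⁻¹ * u * v * p = v⁻¹ * (u * (v * p * v⁻¹)) * v := by group
          _ = _ := by rw [hu]; group)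
      have hv' : Commute v h.τ := hv
      have h2 := (hv'.mul_left (show Commute (v⁻¹ * u * v) h.τ from h1)).mul_left hv'.inv_left
      rwa [show v * (v⁻¹ * u * v) * v⁻¹ = u by group] at h2
    have htN : h.L.al (1, turn) ∈ Subgroup.normalizer (h.D : Set G) :=
      h.mem_normalizer_of_al turn 1 (Or.inr (by decide +kernel))
    intro u hu
    rcases cases9 i j with e | e | e | e | e | e | e | e | e <;> rw [e] at hij
    · rw [h.L.grid_zero_zero] at hij
      exact absurd (conj_eq_one_iff.1 (hd.trans hij)) hy1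
    · exact absurd (by rw [hij, ← h.z_grid]; group) (hnz 1 (by simp))
    · exact absurd (by
        rw [hij, show ((-1 : Fin 3), (0 : Fin 3)) = (-1, -0) from rfl, ← h.L.grid_inv (1, 0),
          ← h.z_grid]
        exact h.L.mir_inverts) (hnz _ (h.comm_τ hsN))
    · exact absurd (by rw [hij, ← h.w_grid]; exact h.n_z) (hnz _ hnτ)
    · exact absurd (by
        rw [hij, show ((0 : Fin 3), (-1 : Fin 3)) = (-0, -1) from rfl, ← h.L.grid_inv (0, 1),
          ← h.w_grid]
        calc h.n * h.L.al (mir, 1) * h.z * (h.n * h.L.al (mir, 1))⁻¹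
            = h.n * (h.L.al (mir, 1) * h.z * (h.L.al (mir, 1))⁻¹) * h.n⁻¹ := by group
          _ = (h.n * h.z * h.n⁻¹)⁻¹ := by rw [h.L.mir_inverts]; group
          _ = _ := by rw [h.n_z]) (hnz _ (h.comm_τ (mul_mem h.n_mem hsN)))
    · rw [hij] at hu; exact hy u hu
    · rw [hij, ← h.L.grid_inv (1, 1)] at hu; exact hy u (Commute.inv_right_iff.1 hu)
    · rw [hij, ← h.L.grid_conj_turn (1, 1)] at hu; exact hconj _ (h.comm_τ htN) _ hy u hu
    · rw [hij, ← h.L.grid_conj_mir (1, 1)] at hu; exact hconj _ (h.comm_τ hsN) _ hy u hu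
  have hyall : ∀ u : G, u * y = y * u → u * h.τ = h.τ * u := by
    intro u hu
    have h1 := hdiag (c * u * c⁻¹) (by
      rw [← hd]
      calc c * u * c⁻¹ * (c * y * c⁻¹) = c * (u * y) * c⁻¹ := by group
        _ = _ := by rw [hu]; group)
    have hv : Commute c h.τ := hcτ
    have h2 := (hv.inv_left.mul_left (show Commute (c * u * c⁻¹) h.τ from h1)).mul_left hv
    rwa [show c⁻¹ * (c * u * c⁻¹) * c = u by group] at h2
  obtain ⟨km, hkm⟩ := tm
  have h36 : Nat.card {u : G // u * y = y * u ∧ u * (m : G) = m * u} = 36 :=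
    by_contra fun e => h.not_conj_τ hy3 hy1 hym e km hkm
  have h36' := h.card_centralizer_τ hy3 hy1 (Subgroup.mem_centralizer_singleton_iff.1 y.2)
  have hcom : ∀ u : G, u * y = y * u → u * (m : G) = m * u := by
    let F : {u : G // u * y = y * u ∧ u * (m : G) = m * u} →
        {u : G // u * y = y * u ∧ u * h.τ = h.τ * u} := fun u => ⟨u.1, u.2.1, hyall _ u.2.1⟩
    have hF : Function.Bijective F := (Nat.bijective_iff_injective_and_card F).2
      ⟨fun a b e => Subtype.ext (congrArg Subtype.val e :), by rw [h36, h36']⟩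
    intro u hu
    obtain ⟨v, hv⟩ := hF.2 ⟨u, hu, hyall u hu⟩
    rw [← show v.1 = u from congrArg Subtype.val hv]
    exact v.2.2
  have hD : ∀ e ∈ h.D, c * (m : G) * c⁻¹ * e = e * (c * (m : G) * c⁻¹) := by
    intro e he
    have hde : e * d = d * e := by
      obtain ⟨p, rfl⟩ := h.exists_grid he
      rw [hij, Pair.grid, Pair.grid, map_comm_iff h.L.al h.L.inj]
      have key : ∀ p p' : Fin 3 × Fin 3, ((rot ^ (p'.1 : ℕ), cyc ^ (p'.2 : ℕ)) : Perm (Fin 3) ×
        Perm (Fin 5)) * (rot ^ (p.1 : ℕ), cyc ^ (p.2 : ℕ)) =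
        (rot ^ (p.1 : ℕ), cyc ^ (p.2 : ℕ)) * (rot ^ (p'.1 : ℕ), cyc ^ (p'.2 : ℕ)) := by
        decide +kernel
      exact key _ _
    have h1 := hcom (c⁻¹ * e * c) (by
      rw [show (y : G) = c⁻¹ * d * c by rw [← hd]; group]
      calc c⁻¹ * e * c * (c⁻¹ * d * c) = c⁻¹ * (e * d) * c := by group
        _ = _ := by rw [hde]; group)
    calc c * (m : G) * c⁻¹ * e = c * ((m : G) * (c⁻¹ * e * c)) * c⁻¹ := by group
      _ = _ := by rw [← h1]; group
  have hm2 : (m : G) * m = 1 := by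
    rw [← hkm, show km * h.τ * km⁻¹ * (km * h.τ * km⁻¹) = km * (h.τ * h.τ) * km⁻¹ by group,
      h.τ_sq]
    group
  have hcm : c * (m : G) * c⁻¹ = h.τ := by
    refine h.eq_τ ?_ ?_ (hD _ h.z_mem) (hD _ h.w_mem)
    · calc c * (m : G) * c⁻¹ * (c * (m : G) * c⁻¹) = c * ((m : G) * m) * c⁻¹ := by group
        _ = 1 := by rw [hm2]; group
    · intro e
      refine h.τ_ne ?_
      rw [conj_eq_one_iff] at e
      rw [← hkm] at e
      exact conj_eq_one_iff.1 e
  refine hm1 ((hk' m).2 (Or.inr ?_))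
  calc (m : G) = c⁻¹ * (c * (m : G) * c⁻¹) * c := by group
    _ = c⁻¹ * (c * h.τ) := by rw [hcm, mul_assoc, hcτ]
    _ = h.τ := by group

end Hyp

end CfsgLib.SymEightLocal
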