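import Cfsg.Agent.SymEightLocal.Perms

/-!
`Pair z`: the normaliser of `⟨z⟩` is `S₃ × S₅`.
-/

set_option autoImplicit false

namespace CfsgLib.SymEightLocal

open Equiv
open CfsgLib.AltEightLocal (cyc tail turn)

variable {G : Type*} [Group G]

/-- Injective homomorphisms preserve the number of solutions. -/
theorem card_subtype_image {P : Type*} [Group P] (f : P →* G) (hf : Function.Injective f)
    (p : G → Prop) (q : P → Prop) (hsub : ∀ g, p g → g ∈ f.range) (hiff : ∀ x, p (f x) ↔ q x) :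
    Nat.card {g // p g} = Nat.card {x // q x} := by
  symm
  refine Nat.card_congr (Equiv.ofBijective (fun x => ⟨f x.1, (hiff x.1).2 x.2⟩) ⟨?_, ?_⟩)
  · intro a b hab
    exact Subtype.ext (hf (congrArg Subtype.val hab))
  · rintro ⟨g, hg⟩
    obtain ⟨x, rfl⟩ := hsub g hg
    exact ⟨⟨x, (hiff x).1 hg⟩, rfl⟩

/-- Injective homomorphisms reflect commuting. -/
theorem map_comm_iff {P : Type*} [Group P] (f : P →* G) (hf : Function.Injective f) (x y : P) :
    f x * f y = f y * f x ↔ x * y = y * x := by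
  rw [← map_mul, ← map_mul, hf.eq_iff]

theorem map_conj {P : Type*} [Group P] (f : P →* G) (x y : P) :
    f x * f y * (f x)⁻¹ = f (x * y * x⁻¹) := by
  rw [map_mul, map_mul, map_inv]

theorem inv_of_sq {x : G} (h : x * x = 1) : x⁻¹ = x := inv_eq_of_mul_eq_one_right h

/-- The elements of the centraliser as a subtype. -/
theorem card_centralizer_eq (x : G) :
    Nat.card (Subgroup.centralizer ({x} : Set G)) = Nat.card {g : G // g * x = x * g} :=
  Nat.card_congr (Equiv.subtypeEquivRight fun _ => Subgroup.mem_centralizer_singleton_iff)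

/-- The normaliser of `⟨z⟩` is `S₃ × S₅`. -/
structure Pair (z : G) where
  al : Perm (Fin 3) × Perm (Fin 5) →* G
  inj : Function.Injective al
  al_rot : al (rot, 1) = z
  surj : ∀ g : G, g * z * g⁻¹ = z ∨ g * z * g⁻¹ = z⁻¹ → g ∈ al.range

namespace Pair

variable {z : G} (L : Pair z)
include L

theorem cube : z * z * z = 1 := by
  rw [← L.al_rot, ← map_mul, ← map_mul, ← map_one L.al]
  congr 1
  exact Prod.ext rot_facts.1 (by simp)

theorem ne : z ≠ 1 := by
  rw [← L.al_rot, ← map_one L.al]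
  intro h
  exact rot_facts.2.1 (congrArg Prod.fst (L.inj h))

theorem of_commute {g : G} (h : g * z = z * g) :
    ∃ x : Perm (Fin 3) × Perm (Fin 5), x.1 * rot = rot * x.1 ∧ g = L.al x := by
  obtain ⟨x, rfl⟩ := L.surj g (Or.inl (mul_inv_eq_iff_eq_mul.2 h))
  refine ⟨x, ?_, rfl⟩
  have h' : L.al x * L.al (rot, 1) = L.al (rot, 1) * L.al x :=
    (congrArg (L.al x * ·) L.al_rot).trans (h.trans (congrArg (· * L.al x) L.al_rot).symm)
  exact congrArg Prod.fst ((map_comm_iff L.al L.inj _ _).1 h')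

theorem comm_iff (x : Perm (Fin 3) × Perm (Fin 5)) :
    L.al x * z = z * L.al x ↔ x.1 * rot = rot * x.1 := by
  have e : L.al x * L.al (rot, 1) = L.al (rot, 1) * L.al x ↔ L.al x * z = z * L.al x := by
    rw [L.al_rot]
  rw [← e, map_comm_iff L.al L.inj]
  exact ⟨fun h => congrArg Prod.fst h, fun h => Prod.ext h (by simp)⟩

theorem comm_snd (π : Perm (Fin 5)) : L.al (1, π) * z = z * L.al (1, π) :=
  (L.comm_iff _).2 (by simp)

theorem fst_comm_snd (σ : Perm (Fin 3)) (π : Perm (Fin 5)) :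
    L.al (σ, 1) * L.al (1, π) = L.al (1, π) * L.al (σ, 1) := by
  rw [← map_mul, ← map_mul]; simp

theorem mem_normalizer (x : Perm (Fin 3) × Perm (Fin 5)) :
    L.al x * z * (L.al x)⁻¹ = z ∨ L.al x * z * (L.al x)⁻¹ = z⁻¹ := by
  have key : ∀ σ : Perm (Fin 3), σ * rot * σ⁻¹ = rot ∨ σ * rot * σ⁻¹ = rot⁻¹ := by decide +kernel
  refine (key x.1).imp (fun h => ?_) (fun h => ?_)
  · have e : x * (rot, 1) * x⁻¹ = (rot, 1) := Prod.ext h (by simp)
    have e' := congrArg L.al e
    rwa [← map_conj, L.al_rot] at e'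
  · have e : x * (rot, 1) * x⁻¹ = (rot, 1)⁻¹ := Prod.ext h (by simp)
    have e' := congrArg L.al e
    rwa [← map_conj, map_inv, L.al_rot] at e'

theorem mir_inverts : L.al (mir, 1) * z * (L.al (mir, 1))⁻¹ = z⁻¹ := by
  have e : ((mir, 1) : Perm (Fin 3) × Perm (Fin 5)) * (rot, 1) * (mir, 1)⁻¹ = (rot, 1)⁻¹ :=
    Prod.ext (by
      show mir * rot * mir⁻¹ = rot⁻¹
      rw [inv_of_sq rot_facts.2.2.1]
      exact rot_facts.2.2.2.2) (by simp)
  have e' := congrArg L.al e
  rwa [← map_conj, map_inv, L.al_rot] at e'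

/-- Relabel both factors. -/
def relabel (e : Perm (Fin 3)) (ρ : Perm (Fin 5)) (he : e * rot * e⁻¹ = rot) : Pair z where
  al := L.al.comp (MonoidHom.prodMap (MulAut.conj e).toMonoidHom (MulAut.conj ρ).toMonoidHom)
  inj := L.inj.comp (Prod.map_injective.2 ⟨(MulAut.conj e).injective, (MulAut.conj ρ).injective⟩)
  al_rot := by
    show L.al (e * rot * e⁻¹, ρ * 1 * ρ⁻¹) = z
    rw [he, mul_one, mul_inv_cancel, L.al_rot]
  surj g hg := by
    obtain ⟨x, rfl⟩ := L.surj g hg
    refine ⟨(e⁻¹ * x.1 * e, ρ⁻¹ * x.2 * ρ), congrArg L.al (Prod.ext ?_ ?_)⟩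
    · show e * (e⁻¹ * x.1 * e) * e⁻¹ = x.1
      group
    · show ρ * (ρ⁻¹ * x.2 * ρ) * ρ⁻¹ = x.2
      group

theorem relabel_apply (e : Perm (Fin 3)) (ρ : Perm (Fin 5)) (he : e * rot * e⁻¹ = rot)
    (σ : Perm (Fin 3)) (π : Perm (Fin 5)) :
    (L.relabel e ρ he).al (σ, π) = L.al (e * σ * e⁻¹, ρ * π * ρ⁻¹) := rfl

/-- The conjugate of a `Pair`. -/
def map (k : G) : Pair (k * z * k⁻¹) where
  al := (MulAut.conj k).toMonoidHom.comp L.al
  inj := (MulAut.conj k).injective.comp L.inj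
  al_rot := by
    show k * L.al (rot, 1) * k⁻¹ = _
    rw [L.al_rot]
  surj g hg := by
    obtain ⟨x, hx⟩ := L.surj (k⁻¹ * g * k) (by
      refine hg.imp (fun h => ?_) (fun h => ?_) <;>
      · calc k⁻¹ * g * k * z * (k⁻¹ * g * k)⁻¹ = k⁻¹ * (g * (k * z * k⁻¹) * g⁻¹) * k := by group
          _ = _ := by rw [h]; group)
    exact ⟨x, by
      show k * L.al x * k⁻¹ = g
      rw [hx]; group⟩

theorem map_apply (k : G) (x : Perm (Fin 3) × Perm (Fin 5)) :
    (L.map k).al x = k * L.al x * k⁻¹ := rfl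

theorem card_centralizer : Nat.card (Subgroup.centralizer ({z} : Set G)) = 360 := by
  rw [card_centralizer_eq, card_subtype_image L.al L.inj (fun g => g * z = z * g)
    (fun x => x.1 * rot = rot * x.1)
    (fun g hg => let ⟨x, _, hx⟩ := L.of_commute hg; ⟨x, hx.symm⟩) L.comm_iff]
  rw [Nat.card_congr (Equiv.prodSubtypeFstEquivSubtypeProd (p := fun σ : Perm (Fin 3) =>
    σ * rot = rot * σ)), Nat.card_prod, Nat.card_eq_fintype_card, Nat.card_eq_fintype_card,
    Fintype.card_perm, Fintype.card_fin]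
  decide +kernel

end Pair

/-- A `Pair` from an isomorphism of the normaliser with `S₃ × S₅`. -/
theorem pair_of_equiv {z : G} (h3 : z * z * z = 1) (hne : z ≠ 1)
    (eL : Subgroup.normalizer (Subgroup.zpowers z : Set G) ≃*
      Perm (Fin 3) × Perm (Fin 5)) : Nonempty (Pair z) := by
  classical
  let f : Perm (Fin 3) × Perm (Fin 5) →* G := (Subgroup.subtype _).comp eL.symm.toMonoidHom
  have hinj : Function.Injective f := Subtype.val_injective.comp eL.symm.injective
  have hz : z ∈ Subgroup.normalizer (Subgroup.zpowers z : Set G) :=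
    Subgroup.le_normalizer (Subgroup.mem_zpowers z)
  have hnorm : ∀ g : G, g * z * g⁻¹ = z ∨ g * z * g⁻¹ = z⁻¹ →
      g ∈ Subgroup.normalizer (Subgroup.zpowers z : Set G) := by
    intro g hg
    rw [Subgroup.mem_normalizer_iff_map_conj_eq, MonoidHom.map_zpowers]
    show Subgroup.zpowers (g * z * g⁻¹) = _
    rcases hg with h | h
    · rw [h]
    · rw [h, Subgroup.zpowers_inv]
  have hx : f (eL ⟨z, hz⟩) = z := by simp [f]
  set x := eL ⟨z, hz⟩ with hxdef
  have hord : orderOf z = 3 := by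
    haveI : Fact (Nat.Prime 3) := ⟨Nat.prime_three⟩
    exact orderOf_eq_prime (by rw [pow_succ, pow_two]; exact h3) hne
  have hconj : ∀ y, y * x * y⁻¹ = x ∨ y * x * y⁻¹ = x⁻¹ := by
    intro y
    have hy : f y * z * (f y)⁻¹ ∈ Subgroup.zpowers z :=
      (Subgroup.mem_normalizer_iff.1 (eL.symm y).2 z).1 (Subgroup.mem_zpowers z)
    obtain ⟨i, hi, e⟩ := (IsOfFinOrder.mem_zpowers_iff_mem_range_orderOf
      (orderOf_pos_iff.1 (hord ▸ by norm_num))).1 hy |> Finset.mem_image.1
    rw [Finset.mem_range, hord] at hi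
    have e' : f (y * x * y⁻¹) = z ^ i := by rw [map_mul, map_mul, map_inv, hx, e]
    interval_cases i
    · exfalso
      rw [pow_zero, ← map_one f] at e'
      have := hinj e'
      rw [conj_eq_one_iff] at this
      exact hne (by rw [← hx, this, map_one])
    · exact Or.inl (hinj (by rw [e', pow_one, hx]))
    · exact Or.inr (hinj (by
        rw [e', map_inv, hx, pow_two]
        exact (inv_eq_of_mul_eq_one_right (by rw [← mul_assoc]; exact h3)).symm))
  have hx3 : x * x * x = 1 := hinj (by rw [map_mul, map_mul, map_one, hx, h3])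
  have h2 : x.2 = 1 := five_no_normal_three x.2 (congrArg Prod.snd hx3) fun ρ => by
    refine (hconj (1, ρ)).imp (fun h => ?_) (fun h => ?_) <;>
    · have := congrArg Prod.snd h
      simpa using this
  have h1 : x.1 ≠ 1 := fun h => hne (by rw [← hx, show x = 1 from Prod.ext h h2, map_one])
  have hsurj : ∀ g : G, g * z * g⁻¹ = z ∨ g * z * g⁻¹ = z⁻¹ → g ∈ f.range := fun g hg =>
    ⟨eL ⟨g, hnorm g hg⟩, by simp [f]⟩
  rcases three_elements x.1 (congrArg Prod.fst hx3) h1 with h | h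
  · exact ⟨⟨f, hinj, by rw [← hx]; exact congrArg f (Prod.ext h.symm h2.symm), hsurj⟩⟩
  · refine ⟨⟨f.comp (MonoidHom.prodMap (MulAut.conj mir).toMonoidHom (MonoidHom.id _)),
      hinj.comp (Prod.map_injective.2 ⟨(MulAut.conj mir).injective, fun _ _ h => h⟩), ?_, ?_⟩⟩
    · show f (mir * rot * mir⁻¹, 1) = z
      rw [← hx]
      refine congrArg f (Prod.ext ?_ h2.symm)
      rw [h, inv_of_sq rot_facts.2.2.1]
      exact rot_facts.2.2.2.2
    · intro g hg
      obtain ⟨y, rfl⟩ := hsurj g hg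
      refine ⟨(mir * y.1 * mir, y.2), congrArg f (Prod.ext ?_ rfl)⟩
      show mir * (mir * y.1 * mir) * mir⁻¹ = y.1
      have hm := rot_facts.2.2.1
      rw [inv_of_sq hm, ← mul_assoc mir (mir * y.1), ← mul_assoc mir mir, hm, one_mul, mul_assoc,
        hm, mul_one]

end CfsgLib.SymEightLocal
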