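import Cfsg.Agent.AltEightLocal.Perms

/-!
Permutation facts for the 3-local recognition of `S₈`: `rot` and `mir` on three points, `cyc`,
`tail`, `flip`, `turn` and `cross` on five points.
-/

set_option autoImplicit false

namespace CfsgLib.SymEightLocal

open Equiv
open CfsgLib.AltEightLocal (cyc tail turn)

/-- The 3-cycle on three points. -/
def rot : Perm (Fin 3) := swap 0 1 * swap 1 2

/-- A transposition on three points. -/
def mir : Perm (Fin 3) := swap 1 2

/-- The double transposition commuting with `turn` and moved by `tail`. -/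
def cross : Perm (Fin 5) := swap 1 3 * swap 2 4

theorem rot_facts : rot * rot * rot = 1 ∧ rot ≠ 1 ∧ mir * mir = 1 ∧ mir ≠ 1 ∧
    mir * rot * mir = rot⁻¹ := by decide +kernel

theorem five_facts : cyc * cyc * cyc = 1 ∧ cyc ≠ 1 ∧ tail * tail = 1 ∧ tail ≠ 1 ∧
    turn * turn = 1 ∧ cross * cross = 1 ∧ turn * cross = cross * turn ∧
    tail * cyc = cyc * tail ∧ tail * cross * tail = cross * turn ∧
    tail * turn = turn * tail ∧ turn ≠ 1 ∧ AltEightLocal.flip = tail * turn := by decide +kernel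

theorem five_signs : Perm.sign cyc = 1 ∧ Perm.sign tail = -1 ∧ Perm.sign turn = 1 ∧
    Perm.sign cross = 1 ∧ Perm.sign AltEightLocal.flip = -1 := by decide +kernel

/-- Normal subgroups of order three of `S₃ × S₅`, on the factor `S₅`. -/
theorem five_no_normal_three : ∀ π : Perm (Fin 5), π * π * π = 1 →
    (∀ ρ : Perm (Fin 5), ρ * π * ρ⁻¹ = π ∨ ρ * π * ρ⁻¹ = π⁻¹) → π = 1 := by decide +kernel

theorem three_elements : ∀ σ : Perm (Fin 3), σ * σ * σ = 1 → σ ≠ 1 →
    σ = rot ∨ σ = rot⁻¹ := by decide +kernel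

theorem three_centralizer : ∀ σ : Perm (Fin 3), σ * rot = rot * σ →
    σ = 1 ∨ σ = rot ∨ σ = rot⁻¹ := by decide +kernel

theorem five_three_cycle : ∀ π : Perm (Fin 5), π * π * π = 1 → π ≠ 1 →
    ∃ ρ : Perm (Fin 5), ρ * cyc * ρ⁻¹ = π := by decide +kernel

theorem five_centralizer_cyc : ∀ π : Perm (Fin 5), π * cyc = cyc * π →
    ∃ (j : Fin 3) (k : Fin 2), π = cyc ^ (j : ℕ) * tail ^ (k : ℕ) := by decide +kernel

/-- The involutions inverting `cyc`. -/
theorem five_inverters : ∀ π : Perm (Fin 5), π * π = 1 → π * cyc * π⁻¹ = cyc⁻¹ →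
    ∃ j : Fin 3, π = cyc ^ (j : ℕ) * AltEightLocal.flip * (cyc ^ (j : ℕ))⁻¹ ∨
      π = cyc ^ (j : ℕ) * turn * (cyc ^ (j : ℕ))⁻¹ := by decide +kernel

end CfsgLib.SymEightLocal
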