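import Cfsg.Agent.SymEightLocal.Pair
import Cfsg.Agent.AltEightLocal.Setup

/-!
The working form of the hypothesis: two `Pair`s `L`, `M` for the generators `z`, `w` of the Sylow
3-subgroup `D`, exchanged by `n`.
-/

set_option autoImplicit false
set_option linter.style.haveILetI false

namespace CfsgLib.SymEightLocal

open Equiv
open CfsgLib.AltEightLocal (cyc tail turn)

variable {G : Type*} [Group G]

/-- The working form of the hypothesis. -/
structure Hyp (G : Type*) [Group G] where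
  z : G
  w : G
  n : G
  L : Pair z
  M : Pair w
  L_w : L.al (1, cyc) = w
  M_z : M.al (1, cyc) = z
  n_z : n * z * n⁻¹ = w
  n_w : n * w * n⁻¹ = z ∨ n * w * n⁻¹ = z⁻¹
  n_s : n * L.al (mir, 1) * n⁻¹ = M.al (mir, 1)
  cy : Nat.card (Subgroup.centralizer ({z * w} : Set G)) = 36
  cy_norm : ∀ g : G, g * (z * w) = z * w * g → g ∈ Subgroup.normalizer (Subgroup.closure {z, w} : Set G)
  sylow : ¬ 27 ∣ Nat.card G
  ψ : Subgroup.normalizer (Subgroup.closure {z, w} : Set G) →* DihedralGroup 4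
  ψ_surj : Function.Surjective ψ
  ψ_ker : ∀ g, ψ g = 1 ↔ (g : G) * z = z * g ∧ (g : G) * w = w * g
  sq : ∀ g ∈ Subgroup.normalizer (Subgroup.closure {z, w} : Set G),
    ∃ a ∈ Subgroup.normalizer (Subgroup.closure {z, w} : Set G),
      ∃ b ∈ Subgroup.normalizer (Subgroup.closure {z, w} : Set G),
      ∃ d ∈ Subgroup.closure {z, w}, g * g = d * (a * b * a⁻¹ * b⁻¹)

namespace Pair

variable {z : G} (L : Pair z)
include L

/-- The element `(rot ^ i, cyc ^ j)`. -/
def grid (p : Fin 3 × Fin 3) : G := L.al (rot ^ (p.1 : ℕ), cyc ^ (p.2 : ℕ))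

theorem grid_inj : Function.Injective L.grid := by
  intro p q h
  have key : ∀ p q : Fin 3 × Fin 3, (rot ^ (p.1 : ℕ), cyc ^ (p.2 : ℕ)) =
      (rot ^ (q.1 : ℕ), cyc ^ (q.2 : ℕ)) → p = q := by decide +kernel
  exact key p q (L.inj h)

theorem grid_zero_zero : L.grid (0, 0) = 1 := by
  simp [grid, show ((1 : Perm (Fin 3)), (1 : Perm (Fin 5))) = 1 from rfl]

theorem grid_eq (p : Fin 3 × Fin 3) :
    L.grid p = z ^ (p.1 : ℕ) * L.al (1, cyc) ^ (p.2 : ℕ) := by
  have e : ((rot, 1) : Perm (Fin 3) × Perm (Fin 5)) ^ (p.1 : ℕ) * (1, cyc) ^ (p.2 : ℕ) =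
      (rot ^ (p.1 : ℕ), cyc ^ (p.2 : ℕ)) := by
    rw [Prod.pow_mk, Prod.pow_mk, Prod.mk_mul_mk, one_pow, one_pow, one_mul, mul_one]
  rw [grid, ← e, map_mul, map_pow, map_pow, L.al_rot]

theorem grid_conj_mir (p : Fin 3 × Fin 3) :
    L.al (mir, 1) * L.grid p * (L.al (mir, 1))⁻¹ = L.grid (-p.1, p.2) := by
  have key : ∀ i : Fin 3, mir * rot ^ (i : ℕ) * mir⁻¹ = rot ^ ((-i : Fin 3) : ℕ) := by
    decide +kernel
  rw [grid, map_conj]
  exact congrArg L.al (Prod.ext (key p.1) (by simp))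

theorem grid_conj_turn (p : Fin 3 × Fin 3) :
    L.al (1, turn) * L.grid p * (L.al (1, turn))⁻¹ = L.grid (p.1, -p.2) := by
  have key : ∀ i : Fin 3, turn * cyc ^ (i : ℕ) * turn⁻¹ = cyc ^ ((-i : Fin 3) : ℕ) := by
    decide +kernel
  rw [grid, map_conj]
  exact congrArg L.al (Prod.ext (by simp) (key p.2))

theorem grid_inv (p : Fin 3 × Fin 3) : (L.grid p)⁻¹ = L.grid (-p.1, -p.2) := by
  have key : ∀ p : Fin 3 × Fin 3, ((rot ^ (p.1 : ℕ), cyc ^ (p.2 : ℕ)))⁻¹ =
      (rot ^ ((-p.1 : Fin 3) : ℕ), cyc ^ ((-p.2 : Fin 3) : ℕ)) := by decide +kernel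
  rw [grid, ← map_inv, key]
  rfl

end Pair

/-- The normaliser of `⟨z⟩` meets the normaliser of `D` in a subgroup of order 72. -/
theorem card_inf_seventytwo [Finite G] {z : G} (L : Pair z) (N : Subgroup G)
    (hiff : ∀ x : Perm (Fin 3) × Perm (Fin 5), L.al x ∈ N ↔
      (x.2 * cyc * x.2⁻¹ = cyc ∨ x.2 * cyc * x.2⁻¹ = cyc⁻¹)) :
    Nat.card (N ⊓ L.al.range : Subgroup G) = 72 := by
  rw [show Nat.card (N ⊓ L.al.range : Subgroup G) = Nat.card {g // g ∈ N ⊓ L.al.range} from rfl,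
    card_subtype_image L.al L.inj (fun g => g ∈ N ⊓ L.al.range)
      (fun x => x.2 * cyc * x.2⁻¹ = cyc ∨ x.2 * cyc * x.2⁻¹ = cyc⁻¹) (fun g hg => hg.2)
      (fun x => by rw [Subgroup.mem_inf, hiff]; exact and_iff_left ⟨x, rfl⟩)]
  let e : {x : Perm (Fin 3) × Perm (Fin 5) //
      x.2 * cyc * x.2⁻¹ = cyc ∨ x.2 * cyc * x.2⁻¹ = cyc⁻¹} ≃
      Perm (Fin 3) × {π : Perm (Fin 5) // π * cyc * π⁻¹ = cyc ∨ π * cyc * π⁻¹ = cyc⁻¹} :=
    ⟨fun x => (x.1.1, ⟨x.1.2, x.2⟩), fun y => ⟨(y.1, y.2.1), y.2.2⟩, fun _ => rfl, fun _ => rfl⟩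
  rw [Nat.card_congr e, Nat.card_prod, Nat.card_eq_fintype_card,
    Nat.card_eq_fintype_card, Fintype.card_perm, Fintype.card_fin]
  decide +kernel

theorem fin_three_facts : ∀ j : Fin 3, (-j = j → j = 0) ∧ (j ≠ 0 → j = 1 ∨ j = 2) := by
  decide +kernel

theorem dihedral_sq : ∀ x : DihedralGroup 4 × Multiplicative (ZMod 2),
    ∃ a b, x * x = a * b * a⁻¹ * b⁻¹ := by decide +kernel

theorem exists_hyp [Finite G]
    (P : Sylow 3 G) (D : Subgroup G) (hDP : D = P) (y z : G) (hgen : Subgroup.closure {y, z} = D)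
    (hcomm : IsMulCommutative D) (hcard : Nat.card D = 9) (hexp : ∀ a ∈ D, a ^ 3 = 1)
    (eN : Subgroup.normalizer (D : Set G) ⧸ D.subgroupOf (Subgroup.normalizer (D : Set G)) ≃*
      DihedralGroup 4 × Multiplicative (ZMod 2))
    [hcn : ((Subgroup.centralizer (D : Set G)).subgroupOf
      (Subgroup.normalizer (D : Set G))).Normal]
    (eNC : Subgroup.normalizer (D : Set G) ⧸ (Subgroup.centralizer (D : Set G)).subgroupOf
      (Subgroup.normalizer (D : Set G)) ≃* DihedralGroup 4)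
    (hyn : (D.subgroupOf (Subgroup.centralizer ({y} : Set G))).Normal)
    (hycard : Nat.card (Subgroup.centralizer ({y} : Set G)) = 36)
    (eL : Subgroup.normalizer (Subgroup.zpowers z : Set G) ≃* Perm (Fin 3) × Perm (Fin 5)) :
    Nonempty (Hyp G) := by
  classical
  haveI h3F : Fact (Nat.Prime 3) := ⟨Nat.prime_three⟩
  have hyD : y ∈ D := hgen ▸ Subgroup.subset_closure (by simp)
  have hzD : z ∈ D := hgen ▸ Subgroup.subset_closure (by simp)
  have hDc : ∀ a ∈ D, ∀ b ∈ D, a * b = b * a := fun a ha b hb =>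
    congrArg Subtype.val (hcomm.is_comm.comm ⟨a, ha⟩ ⟨b, hb⟩)
  have hz3 : z * z * z = 1 := by rw [← pow_three']; exact hexp z hzD
  have hzne : z ≠ 1 := by
    intro h
    have hle : D ≤ Subgroup.zpowers y := by
      rw [← hgen, Subgroup.closure_le]
      rintro x (rfl | rfl)
      · exact Subgroup.mem_zpowers _
      · rw [h]; exact one_mem _
    have h1 := Subgroup.card_le_of_le hle
    rw [hcard, Nat.card_zpowers] at h1
    have := Nat.le_of_dvd (by norm_num) (orderOf_dvd_of_pow_eq_one (hexp y hyD))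
    omega
  obtain ⟨L₀⟩ := pair_of_equiv hz3 hzne eL
  have key3 : ∀ σ : Perm (Fin 3), σ * rot = rot * σ → ∃ i : Fin 3, σ = rot ^ (i : ℕ) := by
    decide +kernel
  -- an element of `D` in the second factor
  obtain ⟨π, hπD, hπ1⟩ : ∃ π : Perm (Fin 5), L₀.al (1, π) ∈ D ∧ π ≠ 1 := by
    by_contra! hno
    have hle : D ≤ Subgroup.zpowers z := by
      intro g hg
      obtain ⟨⟨σ, π⟩, hσ, rfl⟩ := L₀.of_commute (hDc g hg z hzD)
      obtain ⟨i, rfl⟩ := key3 σ hσ
      have e : L₀.al (rot ^ (i : ℕ), π) = z ^ (i : ℕ) * L₀.al (1, π) := by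
        have e₀ : ((rot, 1) : Perm (Fin 3) × Perm (Fin 5)) ^ (i : ℕ) * (1, π) =
            (rot ^ (i : ℕ), π) := by rw [Prod.pow_mk, Prod.mk_mul_mk, one_pow, one_mul, mul_one]
        rw [← e₀, map_mul, map_pow, L₀.al_rot]
      have hπ : π = 1 := hno π ((D.mul_mem_cancel_left (pow_mem hzD _)).1 (e ▸ hg))
      rw [e, hπ, show ((1 : Perm (Fin 3)), (1 : Perm (Fin 5))) = 1 from rfl, map_one, mul_one]
      exact pow_mem (Subgroup.mem_zpowers z) _
    have h1 := Subgroup.card_le_of_le hle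
    rw [hcard, Nat.card_zpowers, orderOf_eq_prime (by rw [pow_three', hz3]) hzne] at h1
    omega
  obtain ⟨ρ, hρ⟩ := five_three_cycle π (by
    have h := hexp _ hπD
    rw [pow_three', ← map_mul, ← map_mul, ← map_one L₀.al] at h
    exact congrArg Prod.snd (L₀.inj h)) hπ1
  obtain ⟨L, hLw⟩ : ∃ L : Pair z, L.al (1, cyc) ∈ D :=
    ⟨L₀.relabel 1 ρ (by simp), by
      rw [Pair.relabel_apply]
      simpa [hρ] using hπD⟩
  obtain ⟨w, hw⟩ : ∃ w, L.al (1, cyc) = w := ⟨_, rfl⟩
  have hwD : w ∈ D := hw ▸ hLw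
  have hgridD : ∀ p, L.grid p ∈ D := fun p => by
    rw [L.grid_eq, hw]; exact mul_mem (pow_mem hzD _) (pow_mem hwD _)
  have hgrid : ∀ g ∈ D, ∃ p, g = L.grid p := by
    let f : Fin 3 × Fin 3 → D := fun p => ⟨L.grid p, hgridD p⟩
    have hb : Function.Bijective f := (Nat.bijective_iff_injective_and_card f).2
      ⟨fun p q h => L.grid_inj (congrArg Subtype.val h), by
        rw [hcard, Nat.card_prod, Nat.card_eq_fintype_card, Fintype.card_fin]⟩
    intro g hg
    obtain ⟨p, hp⟩ := hb.2 ⟨g, hg⟩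
    exact ⟨p, (congrArg Subtype.val hp).symm⟩
  have hclo : Subgroup.closure {z, w} = D := by
    refine le_antisymm ((Subgroup.closure_le _).2 ?_) fun g hg => ?_
    · rintro x (rfl | rfl)
      · exact hzD
      · exact hwD
    · obtain ⟨p, rfl⟩ := hgrid g hg
      rw [L.grid_eq, hw]
      exact mul_mem (pow_mem (Subgroup.subset_closure (by simp)) _)
        (pow_mem (Subgroup.subset_closure (by simp)) _)
  obtain ⟨N, hN⟩ : ∃ N : Subgroup G, N = Subgroup.normalizer (D : Set G) := ⟨_, rfl⟩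
  have hnorm : ∀ g : G, g * z * g⁻¹ ∈ D → g * w * g⁻¹ ∈ D → g ∈ N := by
    intro g hgz hgw
    rw [hN, Subgroup.mem_normalizer_iff_map_conj_eq]
    refine Subgroup.eq_of_le_of_card_ge ?_ (le_of_eq
      (Subgroup.card_map_of_injective (f := (MulAut.conj g).toMonoidHom)
        (MulAut.conj g).injective).symm)
    rintro _ ⟨d, hd, rfl⟩
    obtain ⟨p, rfl⟩ := hgrid d hd
    show g * L.grid p * g⁻¹ ∈ D
    rw [L.grid_eq, hw, show g * (z ^ (p.1 : ℕ) * w ^ (p.2 : ℕ)) * g⁻¹ =
      (g * z * g⁻¹) ^ (p.1 : ℕ) * (g * w * g⁻¹) ^ (p.2 : ℕ) by rw [conj_pow, conj_pow]; group]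
    exact mul_mem (pow_mem hgz _) (pow_mem hgw _)
  have hNmem : ∀ g ∈ N, ∀ d ∈ D, g * d * g⁻¹ ∈ D := fun g hg d hd =>
    (Subgroup.mem_normalizer_iff.1 (hN ▸ hg) d).1 hd
  have hDN : D ≤ N := hN ▸ Subgroup.le_normalizer
  have hiff : ∀ x : Perm (Fin 3) × Perm (Fin 5), L.al x ∈ N ↔
      (x.2 * cyc * x.2⁻¹ = cyc ∨ x.2 * cyc * x.2⁻¹ = cyc⁻¹) := by
    intro x
    have e : L.al x * w * (L.al x)⁻¹ = L.al (1, x.2 * cyc * x.2⁻¹) := by
      rw [← hw, map_conj]
      exact congrArg L.al (Prod.ext (by simp) rfl)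
    constructor
    · intro hx
      have h1 := hNmem _ hx w hwD
      rw [e] at h1
      obtain ⟨p, hp⟩ := hgrid _ h1
      have h2 := congrArg Prod.snd (L.inj hp)
      have key : ∀ (π : Perm (Fin 5)) (j : Fin 3), π * cyc * π⁻¹ = cyc ^ (j : ℕ) →
          π * cyc * π⁻¹ = cyc ∨ π * cyc * π⁻¹ = cyc⁻¹ := by decide +kernel
      exact key x.2 p.2 h2
    · intro hx
      refine hnorm _ ?_ ?_
      · rcases L.mem_normalizer x with h | h <;> rw [h]
        exacts [hzD, inv_mem hzD]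
      · rw [e]
        rcases hx with h | h <;> rw [h]
        · rw [hw]; exact hwD
        · have : ((1 : Perm (Fin 3)), cyc⁻¹) = ((1, cyc) : Perm (Fin 3) × Perm (Fin 5))⁻¹ := by
            simp
          rw [this, map_inv, hw]; exact inv_mem hwD
  haveI hDn : (D.subgroupOf (Subgroup.normalizer (D : Set G))).Normal :=
    Subgroup.normal_in_normalizer
  have hN144 : Nat.card N = 144 := by
    rw [hN, Subgroup.card_eq_card_quotient_mul_card_subgroup (D.subgroupOf _),
      Nat.card_congr eN.toEquiv, Nat.card_prod, DihedralGroup.nat_card,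
      Nat.card_congr (Subgroup.subgroupOfEquivOfLe Subgroup.le_normalizer).toEquiv, hcard]
    simp
  have h72 := card_inf_seventytwo L N hiff
  obtain ⟨H, hH⟩ : ∃ H : Subgroup N, H = (N ⊓ L.al.range).subgroupOf N := ⟨_, rfl⟩
  have hidx : H.index = 2 := by
    have h := H.card_mul_index
    rw [hH, Nat.card_congr (Subgroup.subgroupOfEquivOfLe (inf_le_left)).toEquiv, h72, hN144] at h
    rw [hH]; omega
  have hHmem : ∀ g : N, g ∈ H ↔ ((g : G) * z * (g : G)⁻¹ = z ∨ (g : G) * z * (g : G)⁻¹ = z⁻¹) := by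
    intro g
    rw [hH, Subgroup.mem_subgroupOf, Subgroup.mem_inf]
    refine ⟨fun ⟨_, x, hx⟩ => hx ▸ L.mem_normalizer x, fun h => ⟨g.2, L.surj _ h⟩⟩
  have hsN : L.al (mir, 1) ∈ N := (hiff _).2 (Or.inl (by simp))
  have htN : L.al (1, turn) ∈ N := (hiff _).2 (Or.inr (by decide +kernel))
  obtain ⟨g, hg⟩ : ∃ g : N, g ∉ H := by
    by_contra! h
    rw [(Subgroup.eq_top_iff' H).2 h, Subgroup.index_top] at hidx
    omega
  -- the image of `z` is in the second factor
  obtain ⟨g', hg'N, hg'z⟩ : ∃ g' ∈ N, g' * z * g'⁻¹ = w := by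
    obtain ⟨⟨i, j⟩, hp⟩ := hgrid _ (hNmem g g.2 z hzD)
    obtain ⟨s, hs⟩ : ∃ s : N, (s : G) = L.al (mir, 1) := ⟨⟨_, hsN⟩, rfl⟩
    have hsH : s ∈ H := (hHmem s).2 (hs ▸ Or.inr L.mir_inverts)
    have hk : g⁻¹ * s * g ∈ H := by
      rw [Subgroup.mul_mem_iff_of_index_two hidx, Subgroup.mul_mem_iff_of_index_two hidx,
        inv_mem_iff]
      simp [hg, hsH]
    have hk2 : (s : G) * L.grid (i, j) * (s : G)⁻¹ = L.grid (i, j) ∨
        (s : G) * L.grid (i, j) * (s : G)⁻¹ = (L.grid (i, j))⁻¹ := by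
      refine ((hHmem _).1 hk).imp (fun h => ?_) (fun h => ?_)
      all_goals
        have h' : (g : G)⁻¹ * s * g * z * ((g : G)⁻¹ * s * g)⁻¹ = _ := h
        rw [← hp]
        calc (s : G) * ((g : G) * z * (g : G)⁻¹) * (s : G)⁻¹
            = g * ((g : G)⁻¹ * s * g * z * ((g : G)⁻¹ * s * g)⁻¹) * (g : G)⁻¹ := by group
          _ = _ := by rw [h'] <;> simp [mul_assoc]
    rw [hs, L.grid_conj_mir, L.grid_inv] at hk2
    have hj : j ≠ 0 := by
      rintro rfl
      refine hg ((hHmem g).2 ?_)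
      rw [hp, L.grid_eq]
      have h3 : z ^ 3 = 1 := hexp z hzD
      fin_cases i
      · exfalso
        simp [L.grid_eq] at hp
        exact hzne hp
      · exact Or.inl (by simp)
      · refine Or.inr ?_
        simp only [Fin.val_two]
        rw [show ((0 : Fin 3) : ℕ) = 0 from rfl, pow_zero, mul_one]
        exact (inv_eq_of_mul_eq_one_right (by rw [← pow_succ', h3])).symm
    have hi : i = 0 := by
      rcases hk2 with h | h
      · exact (fin_three_facts i).1 (congrArg Prod.fst (L.grid_inj h))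
      · exact absurd ((fin_three_facts j).1 (congrArg Prod.snd (L.grid_inj h)).symm) hj
    subst hi
    have hj' : j = 1 ∨ j = 2 := (fin_three_facts j).2 hj
    have hw1 : L.grid (0, 1) = w := by rw [L.grid_eq, hw]; simp
    rcases hj' with rfl | rfl
    · exact ⟨g, g.2, hp.trans hw1⟩
    · refine ⟨L.al (1, turn) * g, mul_mem htN g.2, ?_⟩
      calc L.al (1, turn) * g * z * (L.al (1, turn) * g)⁻¹
          = L.al (1, turn) * ((g : G) * z * (g : G)⁻¹) * (L.al (1, turn))⁻¹ := by group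
        _ = L.grid (0, 1) := by rw [hp, L.grid_conj_turn]; rfl
        _ = w := hw1
  have hg'w : g' * w * g'⁻¹ = z ∨ g' * w * g'⁻¹ = z⁻¹ := by
    have h2 : (⟨g', hg'N⟩ : N) * ⟨g', hg'N⟩ ∈ H := by
      rw [Subgroup.mul_mem_iff_of_index_two hidx]
    have h3 := (hHmem _).1 h2
    rw [← hg'z]
    refine h3.imp (fun h => ?_) (fun h => ?_)
    all_goals
      refine Eq.trans ?_ h
      show g' * (g' * z * g'⁻¹) * g'⁻¹ = g' * g' * z * (g' * g')⁻¹
      group
  obtain ⟨M, hMz, hMs⟩ : ∃ M : Pair w, M.al (1, cyc) = z ∧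
      g' * L.al (mir, 1) * g'⁻¹ = M.al (mir, 1) := by
    obtain ⟨M₀, hM₀⟩ : ∃ M₀ : Pair w, ∀ x, M₀.al x = g' * L.al x * g'⁻¹ :=
      ⟨hg'z ▸ L.map g', fun x => by subst hg'z; rfl⟩
    have e : M₀.al (1, cyc) = g' * w * g'⁻¹ := by rw [hM₀, hw]
    rcases hg'w with h | h
    · exact ⟨M₀, e.trans h, (hM₀ _).symm⟩
    · refine ⟨M₀.relabel 1 turn (by simp), ?_, ?_⟩
      · rw [Pair.relabel_apply]
        have e2 : ((1 * 1 * 1⁻¹ : Perm (Fin 3)), turn * cyc * turn⁻¹) =
            ((1, cyc) : Perm (Fin 3) × Perm (Fin 5))⁻¹ := by decide +kernel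
        rw [e2, map_inv, e, h, inv_inv]
      · rw [Pair.relabel_apply, hM₀]
        congr 2
        simp
  -- `y` is conjugate to `z * w` in the normaliser of `D`
  have hwcard : Nat.card (Subgroup.centralizer ({w} : Set G)) = 360 := M.card_centralizer
  obtain ⟨k, hkN, hky⟩ : ∃ k ∈ N, k * y * k⁻¹ = z * w := by
    obtain ⟨⟨i, j⟩, hp⟩ := hgrid y hyD
    have hinvc : ∀ x : G, Nat.card (Subgroup.centralizer ({x⁻¹} : Set G)) =
        Nat.card (Subgroup.centralizer ({x} : Set G)) := fun x => by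
      rw [card_centralizer_eq, card_centralizer_eq]
      exact Nat.card_congr (Equiv.subtypeEquivRight fun _ => Commute.inv_right_iff)
    have hy1 : y ≠ 1 := fun h => by
      rw [h, card_centralizer_eq] at hycard
      have h360 := L.card_centralizer
      rw [card_centralizer_eq] at h360
      have h1 : Nat.card {g : G // g * z = z * g} ≤ Nat.card {g : G // g * 1 = 1 * g} :=
        Nat.card_le_card_of_injective (fun g => ⟨g.1, by simp⟩) fun a b h =>
          Subtype.ext (congrArg Subtype.val h :)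
      omega
    have hij : i ≠ 0 ∧ j ≠ 0 := by
      have hpw : y = z ^ (i : ℕ) * w ^ (j : ℕ) := by rw [hp, L.grid_eq, hw]
      have h3z : z ^ 3 = 1 := hexp z hzD
      have h3w : w ^ 3 = 1 := hexp w hwD
      have hzi : z ^ 2 = z⁻¹ := (inv_eq_of_mul_eq_one_right (by rw [← pow_succ', h3z])).symm
      have hwi : w ^ 2 = w⁻¹ := (inv_eq_of_mul_eq_one_right (by rw [← pow_succ', h3w])).symm
      constructor <;> rintro rfl
      · simp only [Fin.val_zero, pow_zero, one_mul] at hpw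
        fin_cases j
        · exact hy1 (by simpa using hpw)
        · simp only [Fin.mk_one, Fin.val_one, pow_one] at hpw
          rw [hpw] at hycard; omega
        · simp only [Fin.reduceFinMk, Fin.val_two, hwi] at hpw
          rw [hpw, hinvc] at hycard; omega
      · simp only [Fin.val_zero, pow_zero, mul_one] at hpw
        fin_cases i
        · exact hy1 (by simpa using hpw)
        · simp only [Fin.mk_one, Fin.val_one, pow_one] at hpw
          rw [hpw, L.card_centralizer] at hycard; omega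
        · simp only [Fin.reduceFinMk, Fin.val_two, hzi] at hpw
          rw [hpw, hinvc, L.card_centralizer] at hycard; omega
    have h11 : L.grid (1, 1) = z * w := by rw [L.grid_eq, hw]; simp
    have hi' : i = 1 ∨ i = 2 := (fin_three_facts i).2 hij.1
    have hj' : j = 1 ∨ j = 2 := (fin_three_facts j).2 hij.2
    rw [hp]
    rcases hi' with rfl | rfl <;> rcases hj' with rfl | rfl
    · exact ⟨1, one_mem _, by rw [one_mul, inv_one, mul_one, h11]⟩
    · exact ⟨_, htN, by rw [L.grid_conj_turn, ← h11]; rfl⟩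
    · exact ⟨_, hsN, by rw [L.grid_conj_mir, ← h11]; rfl⟩
    · refine ⟨_, mul_mem hsN htN, ?_⟩
      calc L.al (mir, 1) * L.al (1, turn) * L.grid (2, 2) * (L.al (mir, 1) * L.al (1, turn))⁻¹
          = L.al (mir, 1) * (L.al (1, turn) * L.grid (2, 2) * (L.al (1, turn))⁻¹) *
              (L.al (mir, 1))⁻¹ := by group
        _ = z * w := by rw [L.grid_conj_turn, L.grid_conj_mir, ← h11]; rfl
  have hcy : Nat.card (Subgroup.centralizer ({z * w} : Set G)) = 36 := by
    rw [← hky, AltEightLocal.card_centralizer_conj, hycard]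
  have hDy : D ≤ Subgroup.centralizer ({y} : Set G) := fun d hd =>
    Subgroup.mem_centralizer_singleton_iff.2 (hDc d hd y hyD)
  have hyN : ∀ g : G, g * y = y * g → g ∈ N := fun g hg => by
    rw [hN]
    exact (Subgroup.normal_subgroupOf_iff_le_normalizer hDy).1 hyn
      (Subgroup.mem_centralizer_singleton_iff.2 hg)
  subst hclo
  subst hN
  refine ⟨{ z := z, w := w, n := g', L := L, M := M, L_w := hw, M_z := hMz, n_z := hg'z
            n_w := hg'w, n_s := hMs, cy := hcy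
            cy_norm := ?_
            sylow := ?_
            ψ := eNC.toMonoidHom.comp (QuotientGroup.mk' _)
            ψ_surj := ?_
            ψ_ker := ?_
            sq := ?_ }⟩
  · intro g hg
    have hk : k⁻¹ * g * k ∈ Subgroup.normalizer (Subgroup.closure {z, w} : Set G) := by
      refine hyN _ ?_
      rw [← hky] at hg
      calc k⁻¹ * g * k * y = k⁻¹ * (g * (k * y * k⁻¹)) * k := by group
        _ = _ := by rw [hg]; group
    have := mul_mem (mul_mem hkN hk) (inv_mem hkN)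
    rwa [show k * (k⁻¹ * g * k) * k⁻¹ = g by group] at this
  · intro h27
    have h := P.pow_dvd_card_of_pow_dvd_card (n := 3) (show 3 ^ 3 ∣ Nat.card G from h27)
    rw [← hDP, hcard] at h
    norm_num at h
  · exact eNC.surjective.comp (QuotientGroup.mk'_surjective _)
  · intro q
    rw [MonoidHom.comp_apply, MulEquiv.coe_toMonoidHom, MulEquiv.map_eq_one_iff,
      QuotientGroup.mk'_apply, QuotientGroup.eq_one_iff, Subgroup.mem_subgroupOf,
      Subgroup.centralizer_closure, Subgroup.mem_centralizer_iff]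
    constructor
    · intro h
      exact ⟨(h z (by simp)).symm, (h w (by simp)).symm⟩
    · rintro ⟨h1, h2⟩ x (rfl | rfl)
      exacts [h1.symm, h2.symm]
  · intro q hq
    obtain ⟨a, b, hab⟩ := dihedral_sq (eN (QuotientGroup.mk ⟨q, hq⟩))
    obtain ⟨a', rfl⟩ := eN.surjective a
    obtain ⟨a'', rfl⟩ := QuotientGroup.mk_surjective a'
    obtain ⟨b', rfl⟩ := eN.surjective b
    obtain ⟨b'', rfl⟩ := QuotientGroup.mk_surjective b'
    have h : QuotientGroup.mk (⟨q, hq⟩ * ⟨q, hq⟩ : Subgroup.normalizer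
        (Subgroup.closure {z, w} : Set G)) = (QuotientGroup.mk (a'' * b'' * a''⁻¹ * b''⁻¹) :
        Subgroup.normalizer (Subgroup.closure {z, w} : Set G) ⧸ _) :=
      eN.injective (by rw [QuotientGroup.mk_mul, map_mul, hab]; simp)
    rw [QuotientGroup.eq_iff_div_mem, Subgroup.mem_subgroupOf] at h
    refine ⟨a'', a''.2, b'', b''.2, _, h, ?_⟩
    simp [div_eq_mul_inv, mul_assoc]

end CfsgLib.SymEightLocal
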