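import Cfsg.Agent.SymEightLocal.CentS

/-!
The subgroup `Mx` of pairs of even permutations and the element exchanging its factors.
-/

set_option autoImplicit false
set_option linter.style.haveILetI false

namespace CfsgLib.SymEightLocal

open Equiv
open CfsgLib.AltEightLocal (cyc tail turn)

variable {G : Type*} [Group G]

theorem three_products : (∃ p q : Perm (Fin 5), p * p * p = 1 ∧ q * q * q = 1 ∧
      Perm.sign p = 1 ∧ Perm.sign q = 1 ∧ p * q = turn) ∧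
    (∃ p q : Perm (Fin 5), p * p * p = 1 ∧ q * q * q = 1 ∧
      Perm.sign p = 1 ∧ Perm.sign q = 1 ∧ p * q = cross) := by decide +kernel

/-- Two involutions are conjugate or commute with a common involution. -/
theorem exists_conj_or_involution [Finite G] {x y : G} (hx : x * x = 1) (hy : y * y = 1) :
    (∃ g : G, g * x * g⁻¹ = y) ∨
      ∃ i : G, i * i = 1 ∧ i ≠ 1 ∧ i * x = x * i ∧ i * y = y * i := by
  obtain ⟨u, hu⟩ : ∃ u, u = x * y := ⟨_, rfl⟩
  have hxu : SemiconjBy x u⁻¹ u := by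
    show x * u⁻¹ = u * x
    rw [hu, mul_inv_rev, inv_of_sq hx, inv_of_sq hy, mul_assoc]
  have hyu : SemiconjBy y u⁻¹ u := by
    show y * u⁻¹ = u * y
    rw [hu, mul_inv_rev, inv_of_sq hx, inv_of_sq hy, ← mul_assoc, hy, one_mul, mul_assoc, hy,
      mul_one]
  rcases Nat.even_or_odd' (orderOf u) with ⟨k, hk | hk⟩
  · refine Or.inr ⟨u ^ k, ?_, ?_, ?_, ?_⟩
    · rw [← pow_add, ← two_mul, ← hk, pow_orderOf_eq_one]
    · have hpos := orderOf_pos u
      exact pow_ne_one_of_lt_orderOf (by omega) (by omega)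
    all_goals
      have hi : (u ^ k)⁻¹ = u ^ k := inv_of_sq (by
        rw [← pow_add, ← two_mul, ← hk, pow_orderOf_eq_one])
    · have h1 := (hxu.pow_right k).eq
      rw [inv_pow, hi] at h1
      exact h1.symm
    · have h1 := (hyu.pow_right k).eq
      rw [inv_pow, hi] at h1
      exact h1.symm
  · refine Or.inl ⟨u ^ k, ?_⟩
    have h1 := (hxu.pow_right k).eq
    rw [inv_pow] at h1
    have h2 : u ^ (k + k) = u⁻¹ := eq_inv_of_mul_eq_one_left (by
      rw [← pow_succ, show k + k + 1 = orderOf u by omega, pow_orderOf_eq_one])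
    rw [mul_assoc, h1, ← mul_assoc, ← pow_add, h2, hu, mul_inv_rev, inv_of_sq hx, inv_of_sq hy,
      mul_assoc, hx, mul_one]

namespace Hyp.Twinned

variable {h : Hyp G} (d : h.Twinned)
include d

theorem sign_alt (σ : alternatingGroup (Fin 5)) : Perm.sign σ.1 = 1 :=
  Perm.mem_alternatingGroup.1 σ.2

/-- The pairs of even permutations. -/
def ιMx : alternatingGroup (Fin 5) × alternatingGroup (Fin 5) →* G where
  toFun x := d.el x.1.1 x.2.1 ((d.sign_alt x.1).trans (d.sign_alt x.2).symm)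
  map_one' := d.el_one
  map_mul' x y := (d.el_mul _ _).symm

/-- The image of the pairs of even permutations. -/
def Mx : Subgroup G := d.ιMx.range

theorem ιMx_inj : Function.Injective d.ιMx := fun x y e => by
  have e' : d.el x.1.1 x.2.1 ((d.sign_alt x.1).trans (d.sign_alt x.2).symm) =
      d.el y.1.1 y.2.1 ((d.sign_alt y.1).trans (d.sign_alt y.2).symm) := e
  exact Prod.ext (Subtype.ext (d.el_inj e').1) (Subtype.ext (d.el_inj e').2)

theorem el_mem_Mx {σ π : Perm (Fin 5)} (e : Perm.sign σ = Perm.sign π) (hσ : Perm.sign σ = 1) :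
    d.el σ π e ∈ d.Mx :=
  ⟨(⟨σ, Perm.mem_alternatingGroup.2 hσ⟩, ⟨π, Perm.mem_alternatingGroup.2 (e ▸ hσ)⟩), rfl⟩

theorem exists_el_Mx {g : G} (hg : g ∈ d.Mx) :
    ∃ σ π, ∃ e, Perm.sign σ = 1 ∧ g = d.el σ π e := by
  obtain ⟨⟨σ, π⟩, rfl⟩ := hg
  exact ⟨σ.1, π.1, (d.sign_alt σ).trans (d.sign_alt π).symm, d.sign_alt σ, rfl⟩

theorem el_M_even {σ : Perm (Fin 5)} (hσ : Perm.sign σ = 1) :
    d.el σ 1 (by rw [map_one, hσ]) = h.M.al (1, σ) := by
  rw [← d.el_M σ]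
  exact d.el_congr (by rw [map_one, hσ]) rfl (tailOf_even hσ).symm

theorem el_L_even {π : Perm (Fin 5)} (hπ : Perm.sign π = 1) :
    d.el 1 π (by rw [map_one, hπ]) = h.L.al (1, π) := by
  rw [← d.el_L π]
  exact d.el_congr (by rw [map_one, hπ]) (tailOf_even hπ).symm rfl

theorem Mx_le_range : d.Mx ≤ d.Φ.range := by
  rintro _ ⟨x, rfl⟩
  exact d.el_range ((d.sign_alt x.1).trans (d.sign_alt x.2).symm)

theorem M_mem_Mx {σ : Perm (Fin 5)} (hσ : Perm.sign σ = 1) : h.M.al (1, σ) ∈ d.Mx := by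
  rw [← d.el_M_even hσ]; exact d.el_mem_Mx _ hσ

theorem L_mem_Mx {π : Perm (Fin 5)} (hπ : Perm.sign π = 1) : h.L.al (1, π) ∈ d.Mx := by
  rw [← d.el_L_even hπ]; exact d.el_mem_Mx _ (map_one _)

theorem mem_normalizer_Mx [Finite G] {g : G}
    (hM : ∀ σ, Perm.sign σ = 1 → g * h.M.al (1, σ) * g⁻¹ ∈ d.Mx)
    (hL : ∀ π, Perm.sign π = 1 → g * h.L.al (1, π) * g⁻¹ ∈ d.Mx) :
    g ∈ Subgroup.normalizer (d.Mx : Set G) := by
  rw [Subgroup.mem_normalizer_iff_map_conj_eq]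
  refine Subgroup.eq_of_le_of_card_ge ?_ (le_of_eq
    (Subgroup.card_map_of_injective (f := (MulAut.conj g).toMonoidHom)
      (MulAut.conj g).injective).symm)
  rintro _ ⟨x, hx, rfl⟩
  obtain ⟨σ, π, e, hσ, rfl⟩ := d.exists_el_Mx hx
  have e1 : d.el σ π e = h.M.al (1, σ) * h.L.al (1, π) := by
    rw [← d.el_M_even hσ, ← d.el_L_even (e ▸ hσ), d.el_mul]
    exact d.el_congr _ (mul_one σ).symm (one_mul π).symm
  show g * d.el σ π e * g⁻¹ ∈ d.Mx
  rw [e1, show g * (h.M.al (1, σ) * h.L.al (1, π)) * g⁻¹ =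
    (g * h.M.al (1, σ) * g⁻¹) * (g * h.L.al (1, π) * g⁻¹) by group]
  exact mul_mem (hM σ hσ) (hL π (e ▸ hσ))

theorem range_le_normalizer [Finite G] :
    d.Φ.range ≤ Subgroup.normalizer (d.Mx : Set G) := by
  intro g hg
  obtain ⟨α, β, e, rfl⟩ := d.exists_el hg
  refine d.mem_normalizer_Mx (fun σ hσ => ?_) (fun π hπ => ?_)
  · rw [← d.el_M_even hσ, d.el_conj]
    exact d.el_mem_Mx _ (by simp [hσ])
  · rw [← d.el_L_even hπ, d.el_conj]
    exact d.el_mem_Mx _ (by simp)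

theorem n_mem_normalizer [Finite G] : h.n ∈ Subgroup.normalizer (d.Mx : Set G) := by
  refine d.mem_normalizer_Mx (fun σ hσ => ?_) (fun π hπ => ?_)
  · obtain ⟨π, hπ, e⟩ := d.n_conj_M hσ
    rw [e]; exact d.L_mem_Mx hπ
  · obtain ⟨σ, hσ, e⟩ := d.n_conj_L hπ
    rw [e]; exact d.M_mem_Mx hσ

/-- An element exchanging `s` and `r`, and the two factors. -/
theorem exists_swap_factors [Finite G] : ∃ m : G, m ∈ Subgroup.normalizer (d.Mx : Set G) ∧
    m * h.s * m⁻¹ = h.r ∧ m * h.r * m⁻¹ = h.s ∧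
    (∀ σ, Perm.sign σ = 1 → ∃ π, Perm.sign π = 1 ∧
      m * h.M.al (1, σ) * m⁻¹ = h.L.al (1, π)) ∧
    (∀ π, Perm.sign π = 1 → ∃ σ, Perm.sign σ = 1 ∧
      m * h.L.al (1, π) * m⁻¹ = h.M.al (1, σ)) := by
  obtain ⟨m, ρ, ⟨hρ, hm⟩, hms, hmr⟩ := d.exists_swap_eq
  refine ⟨m, hm ▸ mul_mem (inv_mem (d.range_le_normalizer (d.Mx_le_range (d.M_mem_Mx hρ))))
    d.n_mem_normalizer, hms, hmr, fun σ hσ => ?_, fun π hπ => ?_⟩
  · obtain ⟨π, hπ, e⟩ := d.n_conj_M hσ
    refine ⟨π, hπ, ?_⟩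
    calc m * h.M.al (1, σ) * m⁻¹
        = (h.M.al (1, ρ))⁻¹ * (h.n * h.M.al (1, σ) * h.n⁻¹) * h.M.al (1, ρ) := by
          rw [hm]; group
      _ = (h.M.al (1, ρ))⁻¹ * (h.M.al (1, ρ) * h.L.al (1, π)) := by
          rw [e, d.hB.even_comm hρ hπ]; group
      _ = _ := by group
  · obtain ⟨σ, hσ, e⟩ := d.n_conj_L hπ
    refine ⟨ρ⁻¹ * σ * ρ, by simp [hσ], ?_⟩
    calc m * h.L.al (1, π) * m⁻¹
        = (h.M.al (1, ρ))⁻¹ * (h.n * h.L.al (1, π) * h.n⁻¹) * h.M.al (1, ρ) := by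
          rw [hm]; group
      _ = _ := by
          rw [e, ← map_inv, ← map_mul, ← map_mul]
          exact congrArg h.M.al (Prod.ext (by simp) rfl)

end Hyp.Twinned

end CfsgLib.SymEightLocal
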