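import Cfsg.Agent.SymEightLocal.Twin
import Cfsg.Agent.AltEightLocal.Perms

/-!
Facts about the pairs of permutations used for the centraliser of `s`.
-/

set_option autoImplicit false

namespace CfsgLib.SymEightLocal

open Equiv
open CfsgLib.AltEightLocal (cyc tail turn)

theorem turn_centralizer : ∀ σ : Perm (Fin 5), σ * turn = turn * σ → σ * σ = 1 →
    (Perm.sign σ = 1 → σ = 1 ∨ σ = turn ∨ σ = cross ∨ σ = cross * turn) ∧
    (Perm.sign σ = -1 → σ = tail ∨ σ = AltEightLocal.flip) := by decide +kernel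

theorem four_facts : Perm.sign (cross * turn) = 1 ∧ cross * turn ≠ 1 ∧ cross ≠ 1 ∧
    cross * turn * (cross * turn) = 1 ∧ cross ≠ turn ∧ cross * turn ≠ turn ∧
    AltEightLocal.flip = cross * tail * cross ∧ cross * AltEightLocal.flip * cross = tail := by
  decide +kernel

/-- The pairs whose first entry commutes with `σ₀`. -/
def twinCentEquiv (σ₀ : Perm (Fin 5)) :
    {x : Twin // x.1.1 * σ₀ = σ₀ * x.1.1} ≃
      {σ : Perm (Fin 5) // σ * σ₀ = σ₀ * σ} × {π : Perm (Fin 5) // Perm.sign π = 1} where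
  toFun x := (⟨x.1.1.1, x.2⟩, ⟨tailOf x.1.1.1 * x.1.1.2, sign_tailOf_mul (mem_twin.1 x.1.2)⟩)
  invFun y := ⟨⟨(y.1.1, tailOf y.1.1 * y.2.1), mem_twin.2 (by
    rw [map_mul, tailOf_sign, y.2.2, mul_one])⟩, y.1.2⟩
  left_inv x := by
    have tt : tailOf x.1.1.1 * tailOf x.1.1.1 = 1 := by
      rcases tailOf_cases x.1.1.1 with e | e <;> rw [e]
      · exact one_mul 1
      · exact five_facts.2.2.1
    refine Subtype.ext (Subtype.ext (Prod.ext rfl ?_))
    show tailOf x.1.1.1 * (tailOf x.1.1.1 * x.1.1.2) = x.1.1.2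
    rw [← mul_assoc, tt, one_mul]
  right_inv y := by
    have tt : tailOf y.1.1 * tailOf y.1.1 = 1 := by
      rcases tailOf_cases y.1.1 with e | e <;> rw [e]
      · exact one_mul 1
      · exact five_facts.2.2.1
    refine Prod.ext (Subtype.ext rfl) (Subtype.ext ?_)
    show tailOf y.1.1 * (tailOf y.1.1 * y.2.1) = y.2.1
    rw [← mul_assoc, tt, one_mul]

theorem card_twin_turn : Nat.card {x : Twin // x.1.1 * turn = turn * x.1.1} = 480 := by
  rw [Nat.card_congr (twinCentEquiv turn), Nat.card_prod, Nat.card_eq_fintype_card,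
    Nat.card_eq_fintype_card]
  decide +kernel

/-- The pairs commuting entrywise with `turn`. -/
def twinBothEquiv :
    {x : Twin // x.1.1 * turn = turn * x.1.1 ∧ x.1.2 * turn = turn * x.1.2} ≃
      {p : {σ : Perm (Fin 5) // σ * turn = turn * σ} × {π : Perm (Fin 5) // π * turn = turn * π} //
        Perm.sign p.1.1 = Perm.sign p.2.1} where
  toFun x := ⟨(⟨x.1.1.1, x.2.1⟩, ⟨x.1.1.2, x.2.2⟩), mem_twin.1 x.1.2⟩
  invFun y := ⟨⟨(y.1.1.1, y.1.2.1), mem_twin.2 y.2⟩, y.1.1.2, y.1.2.2⟩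
  left_inv _ := rfl
  right_inv _ := rfl

theorem card_twin_both :
    Nat.card {x : Twin // x.1.1 * turn = turn * x.1.1 ∧ x.1.2 * turn = turn * x.1.2} = 32 := by
  rw [Nat.card_congr twinBothEquiv, Nat.card_eq_fintype_card]
  decide +kernel

end CfsgLib.SymEightLocal
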