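import Cfsg.Agent.SymEightLocal.Commute
import Cfsg.Agent.SymEightLocal.TwinFacts

/-!
The copy `Φ` of the pairs, the normaliser of `D`, and the classes of involutions met in it.
-/

set_option autoImplicit false
set_option linter.style.haveILetI false

namespace CfsgLib.SymEightLocal

open Equiv
open CfsgLib.AltEightLocal (cyc tail turn)

variable {G : Type*} [Group G]

/-- The second case together with the homomorphism from the pairs. -/
structure Hyp.Twinned (h : Hyp G) : Type _ where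
  hB : h.CaseB
  Φ : Twin →* G
  inj : Function.Injective Φ
  eq : ∀ x : Twin, Φ x = h.M.al (1, x.1.1) * h.L.al (1, tailOf x.1.1 * x.1.2)

theorem Hyp.CaseB.exists_twinned [Finite G] {h : Hyp G} (hB : h.CaseB) : Nonempty h.Twinned := by
  obtain ⟨Φ, hi, he⟩ := hB.exists_twin
  exact ⟨⟨hB, Φ, hi, he⟩⟩

namespace Hyp.Twinned

variable {h : Hyp G} (d : h.Twinned)
include d

/-- The image of a pair. -/
def el (σ π : Perm (Fin 5)) (e : Perm.sign σ = Perm.sign π) : G := d.Φ ⟨(σ, π), mem_twin.2 e⟩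

theorem el_M (σ : Perm (Fin 5)) :
    d.el σ (tailOf σ) (tailOf_sign σ).symm = h.M.al (1, σ) := by
  have tt : tailOf σ * tailOf σ = 1 := by
    rcases tailOf_cases σ with e | e <;> rw [e]
    · exact one_mul 1
    · exact five_facts.2.2.1
  rw [el, d.eq, tt, show ((1 : Perm (Fin 3)), (1 : Perm (Fin 5))) = 1 from rfl, map_one h.L.al,
    mul_one]

theorem el_L (π : Perm (Fin 5)) : d.el (tailOf π) π (tailOf_sign π) = h.L.al (1, π) := by
  rw [el, d.eq]
  show h.M.al (1, tailOf π) * h.L.al (1, tailOf (tailOf π) * π) = _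
  rcases tailOf_cases π with e | e <;> rw [e]
  · rw [show ((1 : Perm (Fin 3)), (1 : Perm (Fin 5))) = 1 from rfl, map_one h.M.al, one_mul,
      map_one, one_mul]
  · rw [tailOf_odd five_signs.2.1, h.τ_eq_M, Hyp.τ, ← map_mul]
    exact congrArg h.L.al (Prod.ext (one_mul _) (by
      show tail * (tail * π) = π
      rw [← mul_assoc, five_facts.2.2.1, one_mul]))

theorem el_congr {σ σ' π π' : Perm (Fin 5)} (e : Perm.sign σ = Perm.sign π) (hσ : σ = σ')
    (hπ : π = π') : d.el σ π e = d.el σ' π' (hσ ▸ hπ ▸ e) := by subst hσ; subst hπ; rfl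

theorem el_mul {σ π σ' π' : Perm (Fin 5)} (e : Perm.sign σ = Perm.sign π)
    (e' : Perm.sign σ' = Perm.sign π') :
    d.el σ π e * d.el σ' π' e' = d.el (σ * σ') (π * π') (by rw [map_mul, map_mul, e, e']) := by
  rw [el, el, el, ← map_mul]; rfl

theorem el_inv {σ π : Perm (Fin 5)} (e : Perm.sign σ = Perm.sign π) :
    (d.el σ π e)⁻¹ = d.el σ⁻¹ π⁻¹ (by rw [map_inv, map_inv, e]) := by
  rw [el, el, ← map_inv]; rfl

theorem el_conj {σ π σ' π' : Perm (Fin 5)} (e : Perm.sign σ = Perm.sign π)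
    (e' : Perm.sign σ' = Perm.sign π') :
    d.el σ π e * d.el σ' π' e' * (d.el σ π e)⁻¹ =
      d.el (σ * σ' * σ⁻¹) (π * π' * π⁻¹) (by simp [e, e']) := by
  rw [d.el_inv, d.el_mul, d.el_mul]

theorem el_one : d.el 1 1 rfl = 1 := map_one d.Φ

theorem el_inj {σ π σ' π' : Perm (Fin 5)} {e : Perm.sign σ = Perm.sign π}
    {e' : Perm.sign σ' = Perm.sign π'} (he : d.el σ π e = d.el σ' π' e') : σ = σ' ∧ π = π' := by
  have := congrArg Subtype.val (d.inj he)
  exact ⟨congrArg Prod.fst this, congrArg Prod.snd this⟩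

theorem el_range {σ π : Perm (Fin 5)} (e : Perm.sign σ = Perm.sign π) :
    d.el σ π e ∈ d.Φ.range := ⟨_, rfl⟩

theorem exists_el {g : G} (hg : g ∈ d.Φ.range) : ∃ σ π e, g = d.el σ π e := by
  obtain ⟨⟨⟨σ, π⟩, hx⟩, rfl⟩ := hg
  exact ⟨σ, π, mem_twin.1 hx, rfl⟩

theorem τ_el : h.τ = d.el tail tail rfl := by
  rw [Hyp.τ, ← d.el_L tail]
  exact d.el_congr _ (tailOf_odd five_signs.2.1) rfl

theorem s_el : h.s = d.el turn 1 (by rw [five_signs.2.2.1, map_one]) := by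
  rw [d.hB.1, ← d.el_M turn]
  exact d.el_congr _ rfl (tailOf_even five_signs.2.2.1)

theorem r_el : h.r = d.el 1 turn (by rw [five_signs.2.2.1, map_one]) := by
  rw [d.hB.2, ← d.el_L turn]
  exact d.el_congr _ (tailOf_even five_signs.2.2.1) rfl

theorem a_el : h.a = d.el cross 1 (by rw [five_signs.2.2.2.1, map_one]) := by
  rw [Hyp.a, ← d.el_M cross]
  exact d.el_congr _ rfl (tailOf_even five_signs.2.2.2.1)

theorem z_el : h.z = d.el cyc 1 (by rw [five_signs.1, map_one]) := by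
  rw [← h.M_z, ← d.el_M cyc]
  exact d.el_congr _ rfl (tailOf_even five_signs.1)

theorem w_el : h.w = d.el 1 cyc (by rw [five_signs.1, map_one]) := by
  rw [← h.L_w, ← d.el_L cyc]
  exact d.el_congr _ (tailOf_even five_signs.1) rfl

theorem mem_cent_s {σ π : Perm (Fin 5)} (e : Perm.sign σ = Perm.sign π) :
    d.el σ π e * h.s = h.s * d.el σ π e ↔ σ * turn = turn * σ := by
  rw [d.s_el, d.el_mul, d.el_mul]
  exact ⟨fun he => (d.el_inj he).1, fun he => d.el_congr _ he (by simp)⟩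

theorem card_normalizer [Finite G] :
    Nat.card (Subgroup.normalizer (h.D : Set G)) = 144 := by
  obtain ⟨ψ, hψ⟩ : ∃ ψ : Subgroup.normalizer (h.D : Set G) →* DihedralGroup 4, ψ = h.ψ := ⟨_, rfl⟩
  have hsurj : Function.Surjective ψ := hψ ▸ h.ψ_surj
  have hker : Nat.card ψ.ker = 18 := by
    have h1 : Nat.card ψ.ker = Nat.card {g : G // g * h.z = h.z * g ∧ g * h.w = h.w * g} := by
      refine Nat.card_congr ⟨fun g => ⟨g.1.1, (h.ψ_ker _).1 (hψ ▸ g.2)⟩, fun g => ⟨⟨g.1, ?_⟩, ?_⟩,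
        fun g => rfl, fun g => rfl⟩
      · refine h.mem_normalizer ?_ ?_
        · rw [g.2.1, mul_inv_cancel_right]; exact h.z_mem
        · rw [g.2.2, mul_inv_cancel_right]; exact h.w_mem
      · rw [MonoidHom.mem_ker, hψ]; exact (h.ψ_ker _).2 g.2
    rw [h1, card_subtype_image h.L.al h.L.inj (fun g => g * h.z = h.z * g ∧ g * h.w = h.w * g)
      (fun x => x.1 * rot = rot * x.1 ∧ x.2 * cyc = cyc * x.2)
      (fun g hg => let ⟨x, _, hx⟩ := h.L.of_commute hg.1; ⟨x, hx.symm⟩)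
      (fun x => and_congr (h.L.comm_iff x) (by
        rw [← h.L_w, map_comm_iff h.L.al h.L.inj]
        exact ⟨fun e => congrArg Prod.snd e, fun e => Prod.ext (by simp) e⟩)),
      Nat.card_eq_fintype_card]
    decide +kernel
  rw [← Subgroup.card_mul_index ψ.ker, hker, Subgroup.index_ker, MonoidHom.range_eq_top.2 hsurj,
    Subgroup.card_top, DihedralGroup.nat_card]

theorem sr_el : h.s * h.r = d.el turn turn rfl := by
  rw [d.s_el, d.r_el, d.el_mul]
  exact d.el_congr _ (mul_one _) (one_mul _)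

/-- `s * r` is not conjugate to `τ`. -/
theorem sr_ne_conj [Finite G] (g : G) : g * h.τ * g⁻¹ ≠ h.s * h.r := by
  intro e
  obtain ⟨C, hC⟩ : ∃ C : Subgroup G, C = Subgroup.centralizer ({h.τ} : Set G) := ⟨_, rfl⟩
  have h1 : Nat.card C ∣ 144 := by
    rw [← d.card_normalizer]
    exact Subgroup.card_dvd_of_le fun x hx => d.hB.centralizer_τ_le x
      (Subgroup.mem_centralizer_singleton_iff.1 (hC ▸ hx))
  let P : Subgroup Twin :=
    Subgroup.centralizer ({(⟨(turn, turn), mem_twin.2 rfl⟩ : Twin)} : Set Twin)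
  have hP : Nat.card P = 32 := by
    rw [card_centralizer_eq, ← card_twin_both]
    exact Nat.card_congr (Equiv.subtypeEquivRight fun x =>
      ⟨fun hx => ⟨congrArg (fun t : Twin => t.1.1) hx, congrArg (fun t : Twin => t.1.2) hx⟩,
        fun hx => Subtype.ext (Prod.ext hx.1 hx.2)⟩)
  have hle : P.map ((MulAut.conj g⁻¹).toMonoidHom.comp d.Φ) ≤ C := by
    rintro _ ⟨x, hx, rfl⟩
    rw [hC, Subgroup.mem_centralizer_singleton_iff]
    show g⁻¹ * d.Φ x * g⁻¹⁻¹ * h.τ = h.τ * (g⁻¹ * d.Φ x * g⁻¹⁻¹)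
    have hc : d.Φ x * (h.s * h.r) = h.s * h.r * d.Φ x := by
      rw [d.sr_el, el, ← map_mul, ← map_mul]
      exact congrArg d.Φ (Subgroup.mem_centralizer_singleton_iff.1 hx)
    rw [← e] at hc
    calc g⁻¹ * d.Φ x * g⁻¹⁻¹ * h.τ = g⁻¹ * (d.Φ x * (g * h.τ * g⁻¹)) * g := by group
      _ = _ := by rw [hc]; group
  have h2 := (Subgroup.card_dvd_of_le hle).trans h1
  rw [Subgroup.card_map_of_injective ((MulAut.conj g⁻¹).injective.comp d.inj), hP] at h2
  norm_num at h2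

/-- The involutions of `Φ.range` commuting with `s`. -/
theorem involution_cases [Finite G] {σ π : Perm (Fin 5)} (e : Perm.sign σ = Perm.sign π)
    (hσ : σ * turn = turn * σ) (h2 : d.el σ π e * d.el σ π e = 1) (h1 : d.el σ π e ≠ 1) :
    (Perm.sign σ = -1 ∧ ∃ ρ ρ' : Perm (Fin 5), ρ * turn = turn * ρ ∧
      ∃ he : Perm.sign ρ = Perm.sign ρ',
        d.el σ π e = d.el ρ ρ' he * h.τ * (d.el ρ ρ' he)⁻¹) ∨
    (Perm.sign σ = 1 ∧ ∃ ρ ρ' : Perm (Fin 5), ∃ he : Perm.sign ρ = Perm.sign ρ', ∃ x : G,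
      (x = h.s ∨ x = h.r ∨ x = h.s * h.r) ∧ d.el σ π e = d.el ρ ρ' he * x * (d.el ρ ρ' he)⁻¹) := by
  rw [d.el_mul, ← d.el_one] at h2
  obtain ⟨hσ2, hπ2⟩ := d.el_inj h2
  obtain ⟨heven, hodd⟩ := turn_centralizer σ hσ hσ2
  rcases Int.units_eq_one_or (Perm.sign σ) with hs | hs
  · refine Or.inr ⟨hs, ?_⟩
    have hπs : Perm.sign π = 1 := e.symm.trans hs
    by_cases hσ1 : σ = 1
    · have hπ1 : π ≠ 1 := fun hπ => h1 (by rw [d.el_congr e hσ1 hπ]; exact d.el_one)
      obtain ⟨ρ', hρ', hc⟩ := AltEightLocal.even_involution π hπs hπ2 hπ1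
      refine ⟨1, ρ', by rw [map_one, hρ'], h.r, Or.inr (Or.inl rfl), ?_⟩
      rw [d.r_el, d.el_conj]
      exact d.el_congr _ (by simp [hσ1]) hc.symm
    obtain ⟨ρ, hρ, hc⟩ := AltEightLocal.even_involution σ hs hσ2 hσ1
    by_cases hπ1 : π = 1
    · refine ⟨ρ, 1, by rw [map_one, hρ], h.s, Or.inl rfl, ?_⟩
      rw [d.s_el, d.el_conj]
      exact d.el_congr _ hc.symm (by simp [hπ1])
    · obtain ⟨ρ', hρ', hc'⟩ := AltEightLocal.even_involution π hπs hπ2 hπ1
      refine ⟨ρ, ρ', hρ.trans hρ'.symm, _, Or.inr (Or.inr rfl), ?_⟩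
      rw [d.sr_el, d.el_conj]
      exact d.el_congr _ hc.symm hc'.symm
  · refine Or.inl ⟨hs, ?_⟩
    have hπs : Perm.sign π = -1 := e.symm.trans hs
    obtain ⟨ρ', hρ', hc'⟩ := AltEightLocal.odd_involution π hπs hπ2
    have hflip : AltEightLocal.flip = cross * tail * cross := four_facts.2.2.2.2.2.2.1
    have hci : cross⁻¹ = cross := inv_of_sq five_facts.2.2.2.2.2.1
    rcases hodd hs with hσe | hσe
    · refine ⟨1, ρ' * cross, by simp, ?_, ?_⟩
      · rw [map_mul, hρ', five_signs.2.2.2.1, map_one, one_mul]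
      rw [d.τ_el, d.el_conj]
      refine d.el_congr _ (by simp [hσe]) ?_
      rw [← hc', hflip, mul_inv_rev, hci]; group
    · refine ⟨cross, ρ' * cross, five_facts.2.2.2.2.2.2.1.symm, ?_, ?_⟩
      · rw [map_mul, hρ', five_signs.2.2.2.1, one_mul]
      rw [d.τ_el, d.el_conj]
      refine d.el_congr _ (by rw [hσe, hflip, hci]) ?_
      rw [← hc', hflip, mul_inv_rev, hci]; group

theorem τ_ne_even [Finite G] {g : G} {σ π : Perm (Fin 5)} (e : Perm.sign σ = Perm.sign π)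
    (hσ : σ * turn = turn * σ) (hg : g * h.τ * g⁻¹ = d.el σ π e) : Perm.sign σ = -1 := by
  have h2 : d.el σ π e * d.el σ π e = 1 := by
    rw [← hg, show g * h.τ * g⁻¹ * (g * h.τ * g⁻¹) = g * (h.τ * h.τ) * g⁻¹ by group, h.τ_sq]
    group
  have h1 : d.el σ π e ≠ 1 := fun e' => h.τ_ne (conj_eq_one_iff.1 (hg.trans e'))
  rcases d.involution_cases e hσ h2 h1 with ⟨hs, -⟩ | ⟨-, ρ, ρ', he, x, hx, hc⟩
  · exact hs
  exfalso
  obtain ⟨k, hk⟩ : ∃ k, k = (d.el ρ ρ' he)⁻¹ * g := ⟨_, rfl⟩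
  have hkx : k * h.τ * k⁻¹ = x := by
    rw [hk, show (d.el ρ ρ' he)⁻¹ * g * h.τ * ((d.el ρ ρ' he)⁻¹ * g)⁻¹ =
      (d.el ρ ρ' he)⁻¹ * (g * h.τ * g⁻¹) * d.el ρ ρ' he by group, hg, hc]
    group
  rcases hx with rfl | rfl | rfl
  · exact h.M_turn_ne_conj k (hkx.trans d.hB.1)
  · exact h.L_turn_ne_conj k (hkx.trans d.hB.2)
  · exact d.sr_ne_conj k hkx

theorem normalizer_cent_s [Finite G] {g : G} (hg : g ∈ Subgroup.normalizer (h.D : Set G))
    (hs : g * h.s = h.s * g) : g ∈ d.Φ.range := by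
  obtain ⟨⟨σ, π⟩, rfl⟩ := h.L.surj g (h.mem_normalizer_inverted hg hs)
  rw [Hyp.s, map_comm_iff h.L.al h.L.inj] at hs
  have k3 : ∀ σ : Perm (Fin 3), σ * mir = mir * σ → σ = 1 ∨ σ = mir := by decide +kernel
  have e : h.L.al (σ, π) = h.L.al (σ, 1) * h.L.al (1, π) := by rw [← map_mul]; simp
  rw [e]
  refine mul_mem ?_ (d.el_L π ▸ d.el_range _)
  rcases k3 σ (congrArg Prod.fst hs) with rfl | rfl
  · rw [show ((1 : Perm (Fin 3)), (1 : Perm (Fin 5))) = 1 from rfl, map_one]; exact one_mem _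
  · rw [show h.L.al (mir, 1) = h.s from rfl, d.s_el]; exact d.el_range _

end Hyp.Twinned

end CfsgLib.SymEightLocal
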