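import Cfsg.Agent.SymEightLocal.TwinData

/-!
`n` exchanges the two `A₅`s; `C(s * r)` has order divisible by 64.
-/

set_option autoImplicit false
set_option linter.style.haveILetI false

namespace CfsgLib.SymEightLocal

open Equiv
open CfsgLib.AltEightLocal (cyc tail turn)

variable {G : Type*} [Group G]

theorem five_commutators :
    (∃ p q : Perm (Fin 5), p * q * p⁻¹ * q⁻¹ = cyc) ∧ (∃ p q : Perm (Fin 5), p * q * p⁻¹ * q⁻¹ = turn) ∧
      (∃ p q : Perm (Fin 5), p * q * p⁻¹ * q⁻¹ = cross) := by decide +kernel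

/-- Conjugation from one centraliser to another sends the `A₅` into the `A₅`. -/
theorem conj_even_mem {z v : G} (P : Pair z) (Q : Pair v) {g : G}
    (hg : ∀ x, x * z = z * x → g * x * g⁻¹ * v = v * (g * x * g⁻¹)) {π : Perm (Fin 5)}
    (hπ : Perm.sign π = 1) :
    ∃ σ : Perm (Fin 5), Perm.sign σ = 1 ∧ g * P.al (1, π) * g⁻¹ = Q.al (1, σ) := by
  let T : Subgroup (Perm (Fin 3) × Perm (Fin 5)) :=
    (⊥ : Subgroup (Perm (Fin 3))).prod (alternatingGroup (Fin 5))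
  let S : Subgroup (Perm (Fin 5)) :=
    (T.map Q.al).comap ((MulAut.conj g).toMonoidHom.comp
      (P.al.comp (MonoidHom.inr (Perm (Fin 3)) (Perm (Fin 5)))))
  have key : ∀ x y : Perm (Fin 3) × Perm (Fin 5), x.1 * rot = rot * x.1 → y.1 * rot = rot * y.1 →
      (x * y * x⁻¹ * y⁻¹).1 = 1 := by
    have k : ∀ a b : Perm (Fin 3), a * rot = rot * a → b * rot = rot * b →
        a * b * a⁻¹ * b⁻¹ = 1 := by decide +kernel
    exact fun x y hx hy => k x.1 y.1 hx hy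
  have hcomm : ∀ p q : Perm (Fin 5), p * q * p⁻¹ * q⁻¹ ∈ S := by
    intro p q
    obtain ⟨x, hx, ex⟩ := Q.of_commute (hg _ (P.comm_snd p))
    obtain ⟨y, hy, ey⟩ := Q.of_commute (hg _ (P.comm_snd q))
    refine ⟨x * y * x⁻¹ * y⁻¹, ⟨key x y hx hy, ?_⟩, ?_⟩
    · show Perm.sign (x * y * x⁻¹ * y⁻¹).2 = 1
      simp [mul_comm, mul_left_comm]
    · show Q.al (x * y * x⁻¹ * y⁻¹) = g * P.al (1, p * q * p⁻¹ * q⁻¹) * g⁻¹
      simp only [map_mul, map_inv, ← ex, ← ey]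
      have e : ((1 : Perm (Fin 3)), p * q * p⁻¹ * q⁻¹) =
          ((1, p) : Perm (Fin 3) × Perm (Fin 5)) * (1, q) * (1, p)⁻¹ * (1, q)⁻¹ := by
        simp
      rw [e]
      simp only [map_mul, map_inv]
      group
  obtain ⟨⟨p1, q1, e1⟩, ⟨p2, q2, e2⟩, ⟨p3, q3, e3⟩⟩ := five_commutators
  obtain ⟨⟨t, σ⟩, ⟨ht, hσ⟩, e⟩ := alt_closure (P := S) (e1 ▸ hcomm p1 q1) (e2 ▸ hcomm p2 q2)
    (e3 ▸ hcomm p3 q3) hπ
  refine ⟨σ, hσ, ?_⟩
  have ht1 : t = 1 := Subgroup.mem_bot.1 ht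
  subst ht1
  exact e.symm

namespace Hyp.Twinned

variable {h : Hyp G} (d : h.Twinned)
include d

theorem n_conj_L {π : Perm (Fin 5)} (hπ : Perm.sign π = 1) :
    ∃ σ : Perm (Fin 5), Perm.sign σ = 1 ∧ h.n * h.L.al (1, π) * h.n⁻¹ = h.M.al (1, σ) := by
  refine conj_even_mem h.L h.M (fun x hx => ?_) hπ
  rw [← h.n_z]
  calc h.n * x * h.n⁻¹ * (h.n * h.z * h.n⁻¹) = h.n * (x * h.z) * h.n⁻¹ := by group
    _ = _ := by rw [hx]; group

theorem n_conj_M {π : Perm (Fin 5)} (hπ : Perm.sign π = 1) :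
    ∃ σ : Perm (Fin 5), Perm.sign σ = 1 ∧ h.n * h.M.al (1, π) * h.n⁻¹ = h.L.al (1, σ) := by
  refine conj_even_mem h.M h.L (fun x hx => ?_) hπ
  have hc : Commute (h.n * x * h.n⁻¹) (h.n * h.w * h.n⁻¹) := by
    show h.n * x * h.n⁻¹ * (h.n * h.w * h.n⁻¹) = h.n * h.w * h.n⁻¹ * (h.n * x * h.n⁻¹)
    calc h.n * x * h.n⁻¹ * (h.n * h.w * h.n⁻¹) = h.n * (x * h.w) * h.n⁻¹ := by group
      _ = _ := by rw [hx]; group
  rcases h.n_w with e | e <;> rw [e] at hc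
  · exact hc.eq
  · exact (Commute.inv_right_iff.1 hc).eq

theorem exists_swap_eq : ∃ (m : G) (ρ : Perm (Fin 5)), (Perm.sign ρ = 1 ∧
    m = (h.M.al (1, ρ))⁻¹ * h.n) ∧ m * h.s * m⁻¹ = h.r ∧ m * h.r * m⁻¹ = h.s := by
  obtain ⟨σ, hσ, e⟩ := d.n_conj_L five_signs.2.2.1
  rw [← d.hB.2] at e
  have h2 : h.M.al (1, σ) * h.M.al (1, σ) = 1 := by
    rw [← e, show h.n * h.r * h.n⁻¹ * (h.n * h.r * h.n⁻¹) = h.n * (h.r * h.r) * h.n⁻¹ by group,
      h.r_sq]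
    group
  have h1 : σ ≠ 1 := by
    intro e'
    rw [e', show ((1 : Perm (Fin 3)), (1 : Perm (Fin 5))) = 1 from rfl, map_one,
      conj_eq_one_iff] at e
    exact rot_facts.2.2.2.1 (congrArg Prod.fst (h.M.inj (e.trans h.M.al.map_one.symm)))
  rw [← map_mul, ← map_one h.M.al] at h2
  obtain ⟨ρ, hρ, hc⟩ := AltEightLocal.even_involution σ hσ (congrArg Prod.snd (h.M.inj h2)) h1
  refine ⟨(h.M.al (1, ρ))⁻¹ * h.n, ρ, ⟨hρ, rfl⟩, ?_, ?_⟩
  · calc (h.M.al (1, ρ))⁻¹ * h.n * h.s * ((h.M.al (1, ρ))⁻¹ * h.n)⁻¹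
        = (h.M.al (1, ρ))⁻¹ * (h.n * h.s * h.n⁻¹) * h.M.al (1, ρ) := by group
      _ = (h.M.al (1, ρ))⁻¹ * (h.r * h.M.al (1, ρ)) := by rw [h.n_s']; group
      _ = _ := by
        rw [show h.r * h.M.al (1, ρ) = h.M.al (1, ρ) * h.r from h.M.fst_comm_snd mir ρ]; group
  · calc (h.M.al (1, ρ))⁻¹ * h.n * h.r * ((h.M.al (1, ρ))⁻¹ * h.n)⁻¹
        = (h.M.al (1, ρ))⁻¹ * (h.n * h.r * h.n⁻¹) * h.M.al (1, ρ) := by group
      _ = (h.M.al (1, ρ))⁻¹ * (h.M.al (1, ρ) * h.s * (h.M.al (1, ρ))⁻¹) * h.M.al (1, ρ) := by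
        rw [e, d.hB.1, map_conj h.M.al]
        refine congrArg (fun t => (h.M.al (1, ρ))⁻¹ * t * h.M.al (1, ρ)) ?_
        exact congrArg h.M.al (Prod.ext (by simp) hc.symm)
      _ = _ := by group

theorem exists_swap : ∃ m : G, m * h.s * m⁻¹ = h.r ∧ m * h.r * m⁻¹ = h.s := by
  obtain ⟨m, -, -, hm⟩ := d.exists_swap_eq
  exact ⟨m, hm⟩

theorem sixtyfour_dvd [Finite G] :
    64 ∣ Nat.card (Subgroup.centralizer ({h.s * h.r} : Set G)) := by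
  obtain ⟨m, hms, hmr⟩ := d.exists_swap
  let S₀ : Subgroup G := Subgroup.centralizer ({h.s} : Set G) ⊓ Subgroup.centralizer ({h.r} : Set G)
  have h0mem : ∀ g, g ∈ S₀ ↔ g * h.s * g⁻¹ = h.s ∧ g * h.r * g⁻¹ = h.r := fun g => by
    rw [Subgroup.mem_inf, Subgroup.mem_centralizer_singleton_iff,
      Subgroup.mem_centralizer_singleton_iff, mul_inv_eq_iff_eq_mul, mul_inv_eq_iff_eq_mul]
  have hconj : ∀ (g h' x : G), g * h' * x * (g * h')⁻¹ = g * (h' * x * h'⁻¹) * g⁻¹ :=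
    fun g h' x => by group
  have hinv : ∀ (g x y : G), g * x * g⁻¹ = y → g⁻¹ * y * g⁻¹⁻¹ = x := fun g x y e => by
    rw [← e]; group
  let St : Subgroup G :=
    { carrier := {g | (g * h.s * g⁻¹ = h.s ∧ g * h.r * g⁻¹ = h.r) ∨
        (g * h.s * g⁻¹ = h.r ∧ g * h.r * g⁻¹ = h.s)}
      mul_mem' := by
        rintro a b (⟨a1, a2⟩ | ⟨a1, a2⟩) (⟨b1, b2⟩ | ⟨b1, b2⟩)
        · exact Or.inl ⟨by rw [hconj, b1, a1], by rw [hconj, b2, a2]⟩
        · exact Or.inr ⟨by rw [hconj, b1, a2], by rw [hconj, b2, a1]⟩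
        · exact Or.inr ⟨by rw [hconj, b1, a1], by rw [hconj, b2, a2]⟩
        · exact Or.inl ⟨by rw [hconj, b1, a2], by rw [hconj, b2, a1]⟩
      one_mem' := Or.inl ⟨by simp, by simp⟩
      inv_mem' := by
        rintro a (⟨a1, a2⟩ | ⟨a1, a2⟩)
        · exact Or.inl ⟨hinv _ _ _ a1, hinv _ _ _ a2⟩
        · exact Or.inr ⟨hinv _ _ _ a2, hinv _ _ _ a1⟩ }
  have hne : h.s ≠ h.r := by
    rw [d.s_el, d.r_el]
    exact fun e => five_facts.2.2.2.2.2.2.2.2.2.2.1 (d.el_inj e).1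
  have hle0 : S₀ ≤ St := fun g hg => Or.inl ((h0mem g).1 hg)
  have hidx : (S₀.subgroupOf St).index = 2 := by
    refine Subgroup.index_eq_two_iff.2 ⟨⟨m, Or.inr ⟨hms, hmr⟩⟩, ?_⟩
    rintro ⟨b, hb⟩
    simp only [Subgroup.mem_subgroupOf, Subgroup.coe_mul, h0mem]
    rcases hb with ⟨b1, b2⟩ | ⟨b1, b2⟩
    · refine Or.inr ⟨⟨b1, b2⟩, fun e => hne ?_⟩
      rw [hconj, hms, b2] at e
      exact e.1.symm
    · refine Or.inl ⟨⟨by rw [hconj, hms, b2], by rw [hconj, hmr, b1]⟩, fun e => hne ?_⟩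
      rw [b1] at e
      exact e.1.symm
  let P : Subgroup Twin :=
    Subgroup.centralizer ({(⟨(turn, 1), mem_twin.2 (by rw [five_signs.2.2.1, map_one])⟩ : Twin)} :
      Set Twin) ⊓
    Subgroup.centralizer ({(⟨(1, turn), mem_twin.2 (by rw [five_signs.2.2.1, map_one])⟩ : Twin)} :
      Set Twin)
  have hP : Nat.card P = 32 := by
    rw [← card_twin_both]
    refine Nat.card_congr (Equiv.subtypeEquivRight fun x => ?_)
    rw [Subgroup.mem_inf, Subgroup.mem_centralizer_singleton_iff,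
      Subgroup.mem_centralizer_singleton_iff]
    refine ⟨fun hx => ⟨congrArg (fun t : Twin => t.1.1) hx.1, congrArg (fun t : Twin => t.1.2) hx.2⟩,
      fun hx => ⟨Subtype.ext (Prod.ext hx.1 (by simp)), Subtype.ext (Prod.ext (by simp) hx.2)⟩⟩
  have hPS : P.map d.Φ ≤ S₀ := by
    rintro _ ⟨x, hx, rfl⟩
    refine ⟨Subgroup.mem_centralizer_singleton_iff.2 ?_,
      Subgroup.mem_centralizer_singleton_iff.2 ?_⟩
    · rw [d.s_el, el, ← map_mul, ← map_mul]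
      exact congrArg d.Φ (Subgroup.mem_centralizer_singleton_iff.1 hx.1)
    · rw [d.r_el, el, ← map_mul, ← map_mul]
      exact congrArg d.Φ (Subgroup.mem_centralizer_singleton_iff.1 hx.2)
  have h32 : 32 ∣ Nat.card S₀ := by
    have := Subgroup.card_dvd_of_le hPS
    rwa [Subgroup.card_map_of_injective d.inj, hP] at this
  have h64 : 64 ∣ Nat.card St := by
    rw [← Subgroup.card_mul_index (S₀.subgroupOf St), hidx,
      Nat.card_congr (Subgroup.subgroupOfEquivOfLe hle0).toEquiv]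
    exact Nat.mul_dvd_mul_right h32 2
  refine h64.trans (Subgroup.card_dvd_of_le fun g hg =>
    Subgroup.mem_centralizer_singleton_iff.2 (mul_inv_eq_iff_eq_mul.1 ?_))
  rw [show g * (h.s * h.r) * g⁻¹ = g * h.s * g⁻¹ * (g * h.r * g⁻¹) by group]
  rcases hg with ⟨g1, g2⟩ | ⟨g1, g2⟩ <;> rw [g1, g2]
  exact d.hB.s_r.symm

end Hyp.Twinned

end CfsgLib.SymEightLocal
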